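import Cfsg.Agent.Lib.Fusion.SpFour.Defs

/-!
Commutation in the root coordinate group of `Sp₄(K)`.
-/

set_option autoImplicit false
set_option linter.style.haveILetI false

namespace CfsgLib.Fusion.SpFour.U

variable {K : Type*} [Field K]

theorem commute_iff (x y : U K) : x * y = y * x ↔ x.a * y.b = y.a * x.b ∧
    x.a ^ 2 * y.b + 2 * x.a * y.c = y.a ^ 2 * x.b + 2 * y.a * x.c := by
  simp only [mul_def, U.ext_iff]
  refine ⟨fun ⟨_, _, hc, hd⟩ => ⟨by linear_combination hc, by linear_combination hd⟩,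
    fun ⟨hc, hd⟩ => ⟨add_comm _ _, add_comm _ _, by linear_combination hc, by linear_combination hd⟩⟩

/-- The element `a_t`. -/
def aEl (t : K) : U K := ⟨t, 0, 0, 0⟩

/-- The element `b_u`. -/
def bEl (u : K) : U K := ⟨0, u, 0, 0⟩

/-- The element `c_v`. -/
def cEl (v : K) : U K := ⟨0, 0, v, 0⟩

/-- The element `d_w`. -/
def dEl (w : K) : U K := ⟨0, 0, 0, w⟩

/-- `x y x⁻¹`. -/
theorem conj_eq (x y : U K) : x * y * x⁻¹ =
    ⟨y.a, y.b, y.c + x.a * y.b - y.a * x.b,
      y.d + x.a ^ 2 * y.b + 2 * x.a * y.c - (y.a ^ 2 * x.b + 2 * y.a * x.c)⟩ := by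
  ext <;> simp only [mul_def, inv_def] <;> ring

/-- `x y x⁻¹ y⁻¹`. -/
theorem comm_eq (x y : U K) : x * y * x⁻¹ * y⁻¹ =
    ⟨0, 0, x.a * y.b - y.a * x.b,
      x.a ^ 2 * y.b + 2 * x.a * y.c - (y.a ^ 2 * x.b + 2 * y.a * x.c)⟩ := by
  rw [mul_inv_eq_iff_eq_mul, conj_eq]
  ext <;> simp only [mul_def] <;> ring

/-- The subgroup `{b = l a}` containing `cd`. -/
def grpL (l : K) : Subgroup (U K) where
  carrier := {x | x.b = l * x.a}
  one_mem' := by simp [one_def]
  mul_mem' := fun {x y} (hx : x.b = l * x.a) (hy : y.b = l * y.a) =>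
    show x.b + y.b = l * (x.a + y.a) by rw [hx, hy, mul_add]
  inv_mem' := fun {x} (hx : x.b = l * x.a) => show -x.b = l * -x.a by rw [hx, mul_neg]

/-- `x⁻¹ y`. -/
theorem inv_mul_eq (x y : U K) : x⁻¹ * y =
    ⟨y.a - x.a, y.b - x.b, y.c - x.c - x.a * (y.b - x.b),
      y.d - x.d + x.a ^ 2 * (y.b - x.b) - 2 * x.a * (y.c - x.c)⟩ := by
  ext <;> simp only [mul_def, inv_def] <;> ring

theorem mem_center_two [CharP K 2] {x : U K} :
    x ∈ Subgroup.center (U K) ↔ x.a = 0 ∧ x.b = 0 := by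
  have h2 : (2 : K) = 0 := CharTwo.two_eq_zero
  rw [Subgroup.mem_center_iff]
  refine ⟨fun h => ?_, fun ⟨ha, hb⟩ y => ?_⟩
  · have h1 := ((commute_iff _ _).1 (h (bEl 1))).1
    have h3 := ((commute_iff _ _).1 (h (aEl 1))).1
    simp [aEl, bEl] at h1 h3
    exact ⟨h1.symm, h3⟩
  · rw [commute_iff, ha, hb, h2]
    constructor <;> ring

theorem mem_center_odd (h2 : (2 : K) ≠ 0) {x : U K} :
    x ∈ Subgroup.center (U K) ↔ x.a = 0 ∧ x.b = 0 ∧ x.c = 0 := by
  rw [Subgroup.mem_center_iff]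
  refine ⟨fun h => ?_, fun ⟨ha, hb, hc⟩ y => ?_⟩
  · have h1 := ((commute_iff _ _).1 (h (bEl 1))).1
    have h3 := (commute_iff _ _).1 (h (aEl 1))
    simp [aEl, bEl] at h1 h3
    refine ⟨h1.symm, h3.1, ?_⟩
    have h4 := h3.2
    rw [h3.1] at h4
    simp [h2] at h4
    exact h4
  · rw [commute_iff, ha, hb, hc]
    constructor <;> ring

theorem center_abc {p : ℕ} [Fact p.Prime] [CharP K p] {x : U K} (h : x ∈ Subgroup.center (U K)) :
    x.a = 0 ∧ x.b = 0 := by
  rcases eq_or_ne (2 : K) 0 with h2 | h2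
  · haveI : CharP K 2 := CharTwo.of_one_ne_zero_of_two_eq_zero one_ne_zero h2
    exact mem_center_two.1 h
  · exact ⟨((mem_center_odd h2).1 h).1, ((mem_center_odd h2).1 h).2.1⟩

/-- Commuting is transitive on the non-central elements. -/
theorem comm_trans {x y w : U K} (hy : y ∉ Subgroup.center (U K)) (h1 : x * y = y * x)
    (h2 : y * w = w * y) : x * w = w * x := by
  rw [commute_iff] at h1 h2 ⊢
  obtain ⟨h1c, h1d⟩ := h1
  obtain ⟨h2c, h2d⟩ := h2
  by_cases ha : y.a = 0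
  · by_cases hb : y.b = 0
    · -- `y = c_v d_w` with `2v ≠ 0`
      have h2v : (2 : K) * y.c ≠ 0 := fun h => hy (by
        rw [Subgroup.mem_center_iff]
        intro z
        rw [commute_iff, ha, hb]
        exact ⟨by ring, by linear_combination z.a * h⟩)
      rw [ha, hb] at h1d h2d
      have hxa : x.a = 0 := mul_left_cancel₀ h2v (by linear_combination h1d)
      have hwa : w.a = 0 := mul_left_cancel₀ h2v (by linear_combination -h2d)
      rw [hxa, hwa]
      constructor <;> ring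
    · rw [ha] at h1c h2c
      have hxa : x.a = 0 := mul_right_cancel₀ hb (by linear_combination h1c)
      have hwa : w.a = 0 := mul_right_cancel₀ hb (by linear_combination -h2c)
      rw [hxa, hwa]
      constructor <;> ring
  · have hc : x.a * w.b = w.a * x.b := mul_left_cancel₀ ha (by
      linear_combination x.a * h2c + w.a * h1c)
    refine ⟨hc, mul_left_cancel₀ ha ?_⟩
    linear_combination x.a * h2d + w.a * h1d + x.a ^ 2 * h2c + w.a ^ 2 * h1c - y.a ^ 2 * hc

theorem comm_grpA {x y : U K} (hx : x ∈ grpA K) (hy : y ∈ grpA K) : x * y = y * x := by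
  have hx' : x.a = 0 := hx
  have hy' : y.a = 0 := hy
  rw [commute_iff, hx', hy']
  constructor <;> ring

theorem comm_grpB [CharP K 2] {x y : U K} (hx : x ∈ grpB K) (hy : y ∈ grpB K) :
    x * y = y * x := by
  have hx' : x.b = 0 := hx
  have hy' : y.b = 0 := hy
  rw [commute_iff, hx', hy', (CharTwo.two_eq_zero : (2 : K) = 0)]
  constructor <;> ring

theorem mul_self_two [CharP K 2] (x : U K) : x * x = ⟨0, 0, x.a * x.b, x.a ^ 2 * x.b⟩ := by
  have h2 : (2 : K) = 0 := CharTwo.two_eq_zero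
  simp only [mul_def, h2, zero_mul, add_zero, CharTwo.add_self_eq_zero, zero_add]

end CfsgLib.Fusion.SpFour.U
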