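import Cfsg.Agent.Lib.Fusion.SpFour.Local
import Cfsg.Agent.Lib.Fusion.CommTransitiveCore
import Cfsg.Agent.Lib.Fusion.SpFour.Calc
import Cfsg.Agent.Lib.Fusion.InvariantTransport
import Cfsg.Agent.Lib.Fusion.CandidateEngine

/-!
Reading a fusion system over `S ≅ U K` inside `U K`.
-/

set_option autoImplicit false
set_option linter.style.haveILetI false
set_option linter.unusedSectionVars false
set_option linter.unusedVariables false

namespace CfsgLib.Fusion.SpFour

open Cfsg Cfsg.FusionSystem Subgroup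

universe u

variable {Ω : Type u} [Group Ω] {S : Subgroup Ω} {K : Type*} [Field K] (e : S ≃* U K)

/-- The element of `S` with given coordinates. -/
def el (x : U K) : Ω := (e.symm x : Ω)

theorem el_mem (x : U K) : el e x ∈ S := (e.symm x).2

theorem el_mul (x y : U K) : el e (x * y) = el e x * el e y := by simp [el]

theorem el_one : el e 1 = 1 := by simp [el]

theorem el_inv (x : U K) : el e x⁻¹ = (el e x)⁻¹ := by simp [el]

theorem el_conj (x y : U K) : el e x * el e y * (el e x)⁻¹ = el e (x * y * x⁻¹) := by simp [el]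

theorem el_injective : Function.Injective (el e) := fun x y h =>
  e.symm.injective (Subtype.ext h)

theorem el_coord {x : Ω} (hx : x ∈ S) : el e (e ⟨x, hx⟩) = x := by simp [el]

theorem coord_el (x : U K) : e ⟨el e x, el_mem e x⟩ = x := by
  rw [show (⟨el e x, el_mem e x⟩ : S) = e.symm x from rfl, MulEquiv.apply_symm_apply]

theorem mem_pull {H : Subgroup (U K)} {y : Ω} : y ∈ pull e H ↔ ∃ x ∈ H, el e x = y := by
  constructor
  · rintro ⟨s, ⟨x, hx, rfl⟩, rfl⟩
    exact ⟨x, hx, rfl⟩
  · rintro ⟨x, hx, rfl⟩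
    exact ⟨e.symm x, ⟨x, hx, rfl⟩, rfl⟩

theorem el_mem_pull {H : Subgroup (U K)} {x : U K} : el e x ∈ pull e H ↔ x ∈ H :=
  ⟨fun h => by
    obtain ⟨y, hy, hyx⟩ := (mem_pull e).1 h
    rwa [← el_injective e hyx], fun h => (mem_pull e).2 ⟨x, h, rfl⟩⟩

theorem pull_le (H : Subgroup (U K)) : pull e H ≤ S := Subgroup.map_subtype_le _

/-- The coordinates of a subgroup. -/
def coords (P : Subgroup Ω) : Subgroup (U K) := (P.subgroupOf S).map e.toMonoidHom

theorem mem_coords {P : Subgroup Ω} {x : U K} : x ∈ coords e P ↔ el e x ∈ P := by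
  constructor
  · rintro ⟨s, hs, rfl⟩
    show ((e.symm (e s) : S) : Ω) ∈ P
    rw [MulEquiv.symm_apply_apply]
    exact hs
  · exact fun h => ⟨e.symm x, h, e.apply_symm_apply x⟩

theorem pull_coords {P : Subgroup Ω} (hP : P ≤ S) : pull e (coords e P) = P := by
  ext y
  refine ⟨fun h => ?_, fun h => ?_⟩
  · obtain ⟨x, hx, rfl⟩ := (mem_pull e).1 h
    exact (mem_coords e).1 hx
  · exact (mem_pull e).2 ⟨e ⟨y, hP h⟩, (mem_coords e).2 (by rwa [el_coord]), el_coord e _⟩

theorem coords_pull (H : Subgroup (U K)) : coords e (pull e H) = H := by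
  ext x
  rw [mem_coords, el_mem_pull]

theorem el_mem_normalizer {H : Subgroup (U K)} {g : U K} :
    el e g ∈ Subgroup.normalizer (pull e H : Set Ω) ↔ g ∈ Subgroup.normalizer (H : Set (U K)) := by
  constructor
  · intro h x
    have h1 := h (el e x)
    rw [el_conj] at h1
    show x ∈ H ↔ g * x * g⁻¹ ∈ H
    rw [← el_mem_pull e, ← el_mem_pull e (x := g * x * g⁻¹)]
    exact h1
  · intro h y
    by_cases hy : y ∈ S
    · rw [← el_coord e hy, el_conj]
      show el e _ ∈ pull e H ↔ el e _ ∈ pull e H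
      rw [el_mem_pull, el_mem_pull]
      exact h _
    · refine iff_of_false (fun hh => hy (pull_le e H hh)) fun hh => hy ?_
      have h1 := S.mul_mem (S.mul_mem (S.inv_mem (el_mem e g)) (pull_le e H hh)) (el_mem e g)
      simpa [mul_assoc] using h1

/-- The isomorphism with the pulled back subgroup. -/
noncomputable def pe (H : Subgroup (U K)) : H ≃* pull e H :=
  MulEquiv.ofBijective
    (MonoidHom.mk' (fun x : H => (⟨el e x, (el_mem_pull e).2 x.2⟩ : pull e H)) fun x y =>
      Subtype.ext (el_mul e x y))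
    ⟨fun a b h => Subtype.ext (el_injective e (show el e (a : U K) = el e (b : U K) from congrArg (fun z : pull e H => (z : Ω)) h)), fun y => by
      obtain ⟨x, hx, hxy⟩ := (mem_pull e).1 y.2
      exact ⟨⟨x, hx⟩, Subtype.ext hxy⟩⟩

theorem pe_coe {H : Subgroup (U K)} (x : H) : ((pe e H x : pull e H) : Ω) = el e x := rfl

/-- Transport of automorphisms. -/
noncomputable def toU (H : Subgroup (U K)) : MulAut (pull e H) ≃* MulAut H :=
  (MulAut.congr (pe e H)).symm

theorem el_toU {H : Subgroup (U K)} (α : MulAut (pull e H)) (x : H) :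
    el e ((toU e H α x : H) : U K) = ((α (pe e H x) : pull e H) : Ω) := by
  rw [← pe_coe e]
  congr 1
  show pe e H ((pe e H).symm (α (pe e H x))) = _
  rw [MulEquiv.apply_symm_apply]

/-- The automizer read in `U K`. -/
noncomputable def autU (F : FusionSystem S) (H : Subgroup (U K)) : Subgroup (MulAut H) :=
  (F.autGroup (pull e H)).map (toU e H).toMonoidHom

theorem toU_mem {F : FusionSystem S} {H : Subgroup (U K)} {α : MulAut (pull e H)}
    (hα : α ∈ F.autGroup (pull e H)) : toU e H α ∈ autU e F H := ⟨α, hα, rfl⟩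

theorem toU_conj {H : Subgroup (U K)} {g : U K} (hg : g ∈ Subgroup.normalizer (H : Set (U K))) :
    toU e H ((pull e H).normalizerMonoidHom ⟨el e g, (el_mem_normalizer e).2 hg⟩) =
      conjAut H g hg := by
  refine MulEquiv.ext fun x => Subtype.ext (el_injective e ?_)
  rw [el_toU, conjAut_apply, ← el_conj]
  rfl

theorem conj_mem_autU (F : FusionSystem S) {H : Subgroup (U K)} {g : U K}
    (hg : g ∈ Subgroup.normalizer (H : Set (U K))) : conjAut H g hg ∈ autU e F H := by
  rw [← toU_conj e hg]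
  exact toU_mem e (autInducedBy_le_autGroup (pull_le e H)
    (mem_autInducedBy_iff.2 ⟨el e g, el_mem e g, fun x => rfl⟩))

/-- The automizer of `pull e H` read in `U K`, as a map onto. -/
noncomputable def toAutU (F : FusionSystem S) (H : Subgroup (U K)) :
    F.autGroup (pull e H) ≃* autU e F H :=
  Subgroup.equivMapOfInjective _ _ (toU e H).injective

theorem toAutU_coe {F : FusionSystem S} {H : Subgroup (U K)} (a : F.autGroup (pull e H)) :
    ((toAutU e F H a : autU e F H) : MulAut H) = toU e H a := rfl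

variable [Finite S] {p : ℕ} [Fact p.Prime] {F : FusionSystem S}

theorem finite_U (e : S ≃* U K) : Finite (U K) := Finite.of_equiv S e.toEquiv

/-- The automizer of a fully normalized subgroup has the induced automorphisms as a Sylow
subgroup. -/
theorem exists_sylow_autU (hS : IsPGroup p S) (hF : F.IsSaturated p) {H : Subgroup (U K)}
    (hn : F.IsFullyNormalized (pull e H)) :
    ∃ T : Sylow p (autU e F H), ∀ a : autU e F H, a ∈ (T : Subgroup (autU e F H)) ↔
      ∃ g, ∃ hg : g ∈ Subgroup.normalizer (H : Set (U K)), (a : MulAut H) = conjAut H g hg := by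
  haveI := finite_of_le (pull_le e H)
  obtain ⟨T₀, hT₀⟩ := (fullyAutomized_of_fullyNormalized hS hF hn).2
  refine ⟨T₀.mapSurjective (f := (toAutU e F H).toMonoidHom) (toAutU e F H).surjective, fun a => ?_⟩
  show a ∈ (T₀ : Subgroup _).map (toAutU e F H).toMonoidHom ↔ _
  rw [hT₀]
  constructor
  · rintro ⟨b, hb, rfl⟩
    obtain ⟨s, hs, hsx⟩ := mem_autInducedBy_iff.1 hb
    have hsn := mem_normalizer_of_aut hsx
    have hg : e ⟨s, hs⟩ ∈ Subgroup.normalizer (H : Set (U K)) :=
      (el_mem_normalizer e).1 (by rwa [el_coord])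
    refine ⟨_, hg, ?_⟩
    rw [← toU_conj e hg, MulEquiv.coe_toMonoidHom, toAutU_coe]
    congr 1
    refine MulEquiv.ext fun x => Subtype.ext ?_
    show _ = el e (e ⟨s, hs⟩) * (x : Ω) * (el e (e ⟨s, hs⟩))⁻¹
    rw [el_coord]
    exact hsx x
  · rintro ⟨g, hg, hga⟩
    have hA : (pull e H).normalizerMonoidHom ⟨el e g, (el_mem_normalizer e).2 hg⟩ ∈
        autInducedBy S (pull e H) :=
      mem_autInducedBy_iff.2 ⟨el e g, el_mem e g, fun x => rfl⟩
    refine ⟨⟨_, autInducedBy_le_autGroup (pull_le e H) hA⟩, hA, Subtype.ext ?_⟩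
    rw [hga, ← toU_conj e hg]
    rfl

/-- The automizer data of an essential subgroup. -/
theorem locBase_of_essential (hS : IsPGroup p S) (hF : F.IsSaturated p) {H : Subgroup (U K)}
    (hH : F.IsEssential p (pull e H)) : LocBase p H (autU e F H) := by
  have hPS := pull_le e H
  have hr := essential_isRadical hS hF hH
  refine ⟨fun g hg => conj_mem_autU e F hg, exists_sylow_autU e hS hF hH.2.1, fun g hg => ?_,
    fun h => ?_, fun N hN hNp g hg h hgN => ?_⟩
  · refine (el_mem_pull e).1 (hH.1.2 _ (isConj_refl hPS) ⟨el_mem e g, fun y hy => ?_⟩)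
    obtain ⟨x, hx, rfl⟩ := (mem_pull e).1 hy
    rw [← el_mul, ← el_mul, hg x hx]
  · refine (lt_of_essential hS hF hH).not_ge fun y hy => ?_
    rw [← el_coord e hy, el_mem_pull, h]
    trivial
  · haveI := finite_of_le hPS
    refine (el_mem_pull e).1 (mem_of_aut_mem_pGroup hH.1 hr (N.comap (toAutU e F H).toMonoidHom)
      (hNp.comap_of_injective _ (toAutU e F H).injective)
      ⟨el_mem e g, (el_mem_normalizer e).2 hg⟩ fun a ha => ?_)
    rw [Subgroup.mem_comap]
    convert hgN using 1
    refine Subtype.ext ?_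
    rw [MulEquiv.coe_toMonoidHom, toAutU_coe, ha]
    exact toU_conj e hg

/-- The local data of an essential subgroup. -/
theorem loc_of_essential (hS : IsPGroup p S) (hF : F.IsSaturated p) {H : Subgroup (U K)}
    (hH : F.IsEssential p (pull e H)) {Q : Subgroup Ω} (hQ : F.IsNormal Q) (hQ1 : Q ≠ ⊥)
    (hQc : coords e Q ≤ Subgroup.center (U K)) : Loc p H (autU e F H) (coords e Q) := by
  have hPS := pull_le e H
  have hQP : Q ≤ pull e H :=
    IsNormal.le_centricRadical hS hQ hH.1 (essential_isRadical hS hF hH)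
  refine ⟨locBase_of_essential e hS hF hH, fun h => hQ1 (eq_bot_iff.2 fun x hx => ?_), hQc,
    fun α hα x hx => ?_⟩
  · have hxS := hQ.1 hx
    have h1 : e ⟨x, hxS⟩ ∈ coords e Q := (mem_coords e).2 (by rwa [el_coord])
    rw [h, Subgroup.mem_bot] at h1
    rw [Subgroup.mem_bot, ← el_coord e hxS, h1, el_one]
  · obtain ⟨b, hb, rfl⟩ := hα
    refine (mem_coords e).2 ?_
    rw [MulEquiv.coe_toMonoidHom, el_toU]
    exact normal_inv hS hF hQ hQP hPS b hb _ ((mem_coords e).1 hx)

end CfsgLib.Fusion.SpFour
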