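import Cfsg.Agent.Lib.Fusion.SpFour.Shapes
import Cfsg.Agent.Lib.Fusion.SpFour.Transport

/-!
The candidates for the essential subgroups.
-/

set_option autoImplicit false
set_option linter.style.haveILetI false
set_option linter.unusedSectionVars false

namespace CfsgLib.Fusion.SpFour

open Cfsg Cfsg.FusionSystem Subgroup

universe u

variable {Ω : Type u} [Group Ω] {S : Subgroup Ω} [Finite S] {p : ℕ} [Fact p.Prime]
  {F : FusionSystem S} {K : Type*} [Field K] [Finite K]

theorem isPGroup_coords (hS : IsPGroup p S) (e : S ≃* U K) : IsPGroup p (U K) := hS.of_equiv e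

/-- In characteristic two the essential subgroups of every saturated system are `bcd` and `acd`. -/
theorem essential_eq_two [CharP K 2] (hS : IsPGroup p S) (hF : F.IsSaturated p) (e : S ≃* U K)
    {P : Subgroup Ω} (hP : F.IsEssential p P) :
    P = pull e (U.grpA K) ∨ P = pull e (U.grpB K) := by
  have hPe := pull_coords e hP.1.1
  rw [← hPe] at hP
  rcases Shapes.shape_two (isPGroup_coords hS e) (locBase_of_essential e hS hF hP) with h | h
  · exact Or.inl (by rw [← h, hPe])
  · exact Or.inr (by rw [← h, hPe])

/-- In characteristic two every saturated system has the candidates `bcd` and `acd`. -/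
theorem hasCandidates_two [CharP K 2] (hS : IsPGroup p S) (hF : F.IsSaturated p) (e : S ≃* U K) :
    HasCandidates F p ![pull e (U.grpA K), pull e (U.grpB K)] := by
  intro P hP
  rcases essential_eq_two hS hF e hP with h | h
  · exact ⟨0, 1, S.one_mem, by rw [conjSub_one, h]; rfl⟩
  · exact ⟨1, 1, S.one_mem, by rw [conjSub_one, h]; rfl⟩

/-- In odd characteristic, with a central normal subgroup. -/
theorem essential_eq_odd [CharP K p] (h2 : (2 : K) ≠ 0) (hS : IsPGroup p S) (hF : F.IsSaturated p)
    (e : S ≃* U K) {Q : Subgroup Ω} (hQ : F.IsNormal Q) (hQ1 : Q ≠ ⊥)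
    (hQc : coords e Q ≤ Subgroup.center (U K)) {P : Subgroup Ω} (hP : F.IsEssential p P) :
    P = pull e (U.grpA K) ∨ ∃ l, P = pull e (U.grpL l) := by
  have hPe := pull_coords e hP.1.1
  rw [← hPe] at hP
  rcases Shapes.shape_odd h2 (isPGroup_coords hS e)
    (loc_of_essential e hS hF hP hQ hQ1 hQc) with h | ⟨l, h⟩
  · exact Or.inl (by rw [← h, hPe])
  · exact Or.inr ⟨l, by rw [← h, hPe]⟩

/-- The induced automorphisms are not normal in the automizer of an essential subgroup. -/
theorem not_normal_of_essential (hS : IsPGroup p S) (hF : F.IsSaturated p) {P : Subgroup Ω}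
    (hP : F.IsEssential p P) :
    ¬ ((autInducedBy S P).subgroupOf (F.autGroup P)).Normal := by
  intro hN
  haveI := finite_of_le hP.1.1
  obtain ⟨a, ha, haP⟩ := SetLike.exists_of_lt (lt_normalizerIn hS (lt_of_essential hS hF hP))
  refine haP (mem_of_aut_mem_pGroup hP.1 (essential_isRadical hS hF hP)
    ((autInducedBy S P).subgroupOf (F.autGroup P))
    ((isPGroup_autInducedBy hS P).comap_of_injective _ (Subgroup.subtype_injective _)) ha
    fun α hα => ?_)
  rw [Subgroup.mem_subgroupOf, hα]
  exact mem_autInducedBy_iff.2 ⟨a, ha.1, fun x => rfl⟩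

end CfsgLib.Fusion.SpFour
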