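import Cfsg.Prelude.Def_FusionSystem
import Mathlib.FieldTheory.Finite.Basic
import Mathlib.LinearAlgebra.Matrix.SpecialLinearGroup

/-!
The maximal unipotent subgroup of `Sp₄(K)` in root coordinates, as the extension of the abelian
root product `bcd` by the root group `a`, and the modules on which the two rank-one automizers act.
-/

set_option autoImplicit false

namespace CfsgLib.Fusion.SpFour

open Cfsg

/-- `b_u c_v d_w a_t` with `[a_t, b_u] = c(tu) d(t²u)` and `[a_t, c_v] = d(2tv)`. -/
@[ext] structure U (K : Type*) where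
  a : K
  b : K
  c : K
  d : K

variable {K : Type*} [Field K]

namespace U

instance : One (U K) := ⟨⟨0, 0, 0, 0⟩⟩

instance : Mul (U K) :=
  ⟨fun x y => ⟨x.a + y.a, x.b + y.b, x.c + y.c + x.a * y.b,
    x.d + y.d + x.a ^ 2 * y.b + 2 * x.a * y.c⟩⟩

instance : Inv (U K) :=
  ⟨fun x => ⟨-x.a, -x.b, -x.c + x.a * x.b, -x.d - x.a ^ 2 * x.b + 2 * x.a * x.c⟩⟩

theorem one_def : (1 : U K) = ⟨0, 0, 0, 0⟩ := rfl

theorem mul_def (x y : U K) : x * y = ⟨x.a + y.a, x.b + y.b, x.c + y.c + x.a * y.b,
    x.d + y.d + x.a ^ 2 * y.b + 2 * x.a * y.c⟩ := rfl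

theorem inv_def (x : U K) :
    x⁻¹ = ⟨-x.a, -x.b, -x.c + x.a * x.b, -x.d - x.a ^ 2 * x.b + 2 * x.a * x.c⟩ := rfl

instance : Group (U K) where
  mul_assoc x y z := by
    ext <;> simp only [mul_def] <;> ring
  one_mul x := by
    ext <;> simp [mul_def, one_def]
  mul_one x := by
    ext <;> simp [mul_def, one_def]
  inv_mul_cancel x := by
    ext <;> simp only [mul_def, inv_def, one_def] <;> ring

instance [Finite K] : Finite (U K) :=
  Finite.of_injective (fun x : U K => (x.a, x.b, x.c, x.d)) fun x y h => by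
    simp only [Prod.mk.injEq] at h
    ext
    exacts [h.1, h.2.1, h.2.2.1, h.2.2.2]

/-- The abelian maximal subgroup `bcd`. -/
def grpA (K : Type*) [Field K] : Subgroup (U K) where
  carrier := {x | x.a = 0}
  one_mem' := rfl
  mul_mem' := fun {x y} (hx : x.a = 0) (hy : y.a = 0) =>
    show x.a + y.a = 0 by rw [hx, hy, add_zero]
  inv_mem' := fun {x} (hx : x.a = 0) => show -x.a = 0 by rw [hx, neg_zero]

/-- The subgroup `acd`. -/
def grpB (K : Type*) [Field K] : Subgroup (U K) where
  carrier := {x | x.b = 0}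
  one_mem' := rfl
  mul_mem' := fun {x y} (hx : x.b = 0) (hy : y.b = 0) =>
    show x.b + y.b = 0 by rw [hx, hy, add_zero]
  inv_mem' := fun {x} (hx : x.b = 0) => show -x.b = 0 by rw [hx, neg_zero]

end U

variable {Ω : Type*} [Group Ω] {S : Subgroup Ω}

/-- The subgroup of `S` read off from `U K`. -/
def pull (e : S ≃* U K) (H : Subgroup (U K)) : Subgroup Ω :=
  (H.map e.symm.toMonoidHom).map S.subtype

/-- The module `bcd`, and `acd` in characteristic two. -/
abbrev V3 (K : Type*) := Multiplicative (K × K × K)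

/-- The module `B/d` and the like. -/
abbrev V2 (K : Type*) := Multiplicative (K × K)

/-- Coordinates. -/
def c1 (x : V3 K) : K := (Multiplicative.toAdd x).1

/-- Coordinates. -/
def c2 (x : V3 K) : K := (Multiplicative.toAdd x).2.1

/-- Coordinates. -/
def c3 (x : V3 K) : K := (Multiplicative.toAdd x).2.2

/-- Elements. -/
def v3 (x y z : K) : V3 K := Multiplicative.ofAdd (x, y, z)

/-- The map induced by `a_t` on `(b, c, d)`. -/
def IsActA (g : MulAut (V3 K)) (t : K) : Prop :=
  ∀ b c d, g (v3 b c d) = v3 b (c + t * b) (d + t ^ 2 * b + 2 * t * c)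

/-- The map induced by `b_u` on `(a, c, d)` in characteristic two. -/
def IsActB (g : MulAut (V3 K)) (u : K) : Prop :=
  ∀ a c d, g (v3 a c d) = v3 a (c + a * u) (d + a ^ 2 * u)

/-- The shear with parameter `t`. -/
def IsShear (g : MulAut (V2 K)) (t : K) : Prop :=
  ∀ x y : K, g (Multiplicative.ofAdd (x, y)) = Multiplicative.ofAdd (x, y + t * x)

end CfsgLib.Fusion.SpFour
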