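import Cfsg.Agent.Lib.Fusion.FixedExactlyNormal
import Mathlib.GroupTheory.Subgroup.Center
import Mathlib.GroupTheory.Nilpotent

/-!
An abstract copy of the automizer of an essential subgroup `H` of a group `X`, with a nontrivial
invariant subgroup of the centre.
-/

set_option autoImplicit false
set_option linter.style.haveILetI false

namespace CfsgLib.Fusion.SpFour

open Subgroup

variable {X : Type*} [Group X]

/-- Conjugation by a normalizing element. -/
def conjAut (H : Subgroup X) (g : X) (hg : g ∈ Subgroup.normalizer (H : Set X)) : MulAut H :=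
  H.normalizerMonoidHom ⟨g, hg⟩

theorem conjAut_apply (H : Subgroup X) {g : X} (hg : g ∈ Subgroup.normalizer (H : Set X)) (x : H) :
    ((conjAut H g hg x : H) : X) = g * x * g⁻¹ := rfl

/-- The automizer data. -/
structure LocBase (p : ℕ) (H : Subgroup X) (G : Subgroup (MulAut H)) : Prop where
  conj_mem : ∀ g (hg : g ∈ Subgroup.normalizer (H : Set X)), conjAut H g hg ∈ G
  sylow : ∃ T : Sylow p G, ∀ a : G, a ∈ (T : Subgroup G) ↔
    ∃ g, ∃ hg : g ∈ Subgroup.normalizer (H : Set X), (a : MulAut H) = conjAut H g hg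
  self_cent : Subgroup.centralizer (H : Set X) ≤ H
  proper : H ≠ ⊤
  radical : ∀ N : Subgroup G, N.Normal → IsPGroup p N → ∀ g (hg : g ∈ Subgroup.normalizer (H : Set X))
    (h : conjAut H g hg ∈ G), (⟨_, h⟩ : G) ∈ N → g ∈ H

/-- The automizer data with an invariant central subgroup. -/
structure Loc (p : ℕ) (H : Subgroup X) (G : Subgroup (MulAut H)) (Q : Subgroup X) : Prop
    extends LocBase p H G where
  ne_bot : Q ≠ ⊥
  le_center : Q ≤ Subgroup.center X
  inv : ∀ α ∈ G, ∀ x : H, (x : X) ∈ Q → ((α x : H) : X) ∈ Q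

variable {p : ℕ} {H : Subgroup X} {G : Subgroup (MulAut H)} {Q : Subgroup X}

theorem LocBase.center_le (L : LocBase p H G) : Subgroup.center X ≤ H := fun _ hz =>
  L.self_cent fun h _ => Subgroup.mem_center_iff.1 hz h

theorem Loc.Q_le (L : Loc p H G Q) : Q ≤ H := L.le_center.trans L.center_le

/-- A proper subgroup of a `p`-group is not its own normalizer. -/
theorem LocBase.exists_normalizing [Fact p.Prime] [Finite X] (hX : IsPGroup p X) (L : LocBase p H G) :
    ∃ g ∈ Subgroup.normalizer (H : Set X), g ∉ H := by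
  haveI : Group.IsNilpotent X := hX.isNilpotent
  exact SetLike.exists_of_lt (Group.normalizerCondition_of_isNilpotent H (lt_top_iff_ne_top.2 L.proper))

/-- The subgroup stabilizing a two-step series. -/
theorem LocBase.mem_of_step [Fact p.Prime] [Finite X] (hX : IsPGroup p X) (L : LocBase p H G)
    (D : Subgroup X) (hinv : ∀ α ∈ G, ∀ x : H, (x : X) ∈ D → ((α x : H) : X) ∈ D) {g : X}
    (hg : g ∈ Subgroup.normalizer (H : Set X)) (hfix : ∀ x ∈ H, x ∈ D → g * x * g⁻¹ = x)
    (hcomm : ∀ x ∈ H, g * x * g⁻¹ * x⁻¹ ∈ D) : g ∈ H := by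
  have hN : (FixedExactly.stabZ G (D.subgroupOf H)).Normal := by
    refine ⟨fun a ha b => ⟨fun z hz => ?_, fun v => ?_⟩⟩
    · show (b : MulAut H) ((a : MulAut H) ((b : MulAut H)⁻¹ z)) = z
      rw [ha.1 _ (hinv _ (inv_mem b.2) z hz), MulAut.apply_inv_self]
    · show (b : MulAut H) ((a : MulAut H) ((b : MulAut H)⁻¹ v)) * v⁻¹ ∈ D.subgroupOf H
      have h0 : (((a : MulAut H) ((b : MulAut H)⁻¹ v) * ((b : MulAut H)⁻¹ v)⁻¹ : H) : X) ∈ D :=
        ha.2 ((b : MulAut H)⁻¹ v)
      have h := hinv _ b.2 _ h0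
      rw [map_mul, map_inv, MulAut.apply_inv_self] at h
      exact h
  refine L.radical _ hN (FixedExactly.isPGroup_stabZ G (hX.to_subgroup H) _) g hg
    (L.conj_mem g hg) ⟨fun z hz => Subtype.ext (hfix z z.2 hz), fun v => hcomm v v.2⟩

/-- The subgroup stabilizing a three-step series. -/
theorem LocBase.mem_of_two_steps [Fact p.Prime] [Finite X] (hX : IsPGroup p X) (L : LocBase p H G)
    (D E : Subgroup X) (_hDE : D ≤ E)
    (hinvD : ∀ α ∈ G, ∀ x : H, (x : X) ∈ D → ((α x : H) : X) ∈ D)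
    (hinvE : ∀ α ∈ G, ∀ x : H, (x : X) ∈ E → ((α x : H) : X) ∈ E) {g : X}
    (hg : g ∈ Subgroup.normalizer (H : Set X)) (hfix : ∀ x ∈ H, x ∈ D → g * x * g⁻¹ = x)
    (hcD : ∀ x ∈ H, x ∈ E → g * x * g⁻¹ * x⁻¹ ∈ D)
    (hcE : ∀ x ∈ H, g * x * g⁻¹ * x⁻¹ ∈ E) : g ∈ H := by
  let N : Subgroup G :=
    { carrier := {a | (∀ z : H, (z : X) ∈ D → (a : MulAut H) z = z) ∧
        (∀ z : H, (z : X) ∈ E → (((a : MulAut H) z * z⁻¹ : H) : X) ∈ D) ∧
        ∀ z : H, (((a : MulAut H) z * z⁻¹ : H) : X) ∈ E}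
      one_mem' := ⟨fun z _ => rfl, fun z _ => by simp, fun z => by simp⟩
      mul_mem' := fun {a b} ha hb => ⟨fun z hz => by
          show (a : MulAut H) ((b : MulAut H) z) = z
          rw [hb.1 z hz, ha.1 z hz], fun z hz => by
          show (((a : MulAut H) ((b : MulAut H) z) * z⁻¹ : H) : X) ∈ D
          have h1 := mul_mem (ha.2.1 ((b : MulAut H) z) (hinvE _ b.2 z hz)) (hb.2.1 z hz)
          rwa [← Subgroup.coe_mul, mul_assoc, inv_mul_cancel_left] at h1, fun z => by
          show (((a : MulAut H) ((b : MulAut H) z) * z⁻¹ : H) : X) ∈ E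
          have h1 := mul_mem (ha.2.2 ((b : MulAut H) z)) (hb.2.2 z)
          rwa [← Subgroup.coe_mul, mul_assoc, inv_mul_cancel_left] at h1⟩
      inv_mem' := fun {a} ha => ⟨fun z hz => by
          show (a : MulAut H)⁻¹ z = z
          conv_lhs => rw [← ha.1 z hz]
          exact MulAut.inv_apply_self _ _ _, fun z hz => by
          show (((a : MulAut H)⁻¹ z * z⁻¹ : H) : X) ∈ D
          have h := inv_mem (ha.2.1 ((a : MulAut H)⁻¹ z) (hinvE _ (inv_mem a.2) z hz))
          rw [← Subgroup.coe_inv, MulAut.apply_inv_self, mul_inv_rev, inv_inv] at h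
          exact h, fun z => by
          show (((a : MulAut H)⁻¹ z * z⁻¹ : H) : X) ∈ E
          have h := inv_mem (ha.2.2 ((a : MulAut H)⁻¹ z))
          rw [← Subgroup.coe_inv, MulAut.apply_inv_self, mul_inv_rev, inv_inv] at h
          exact h⟩ }
  have hN : N.Normal := ⟨fun a ha b => ⟨fun z hz => by
      show (b : MulAut H) ((a : MulAut H) ((b : MulAut H)⁻¹ z)) = z
      rw [ha.1 _ (hinvD _ (inv_mem b.2) z hz), MulAut.apply_inv_self], fun z hz => by
      show (((b : MulAut H) ((a : MulAut H) ((b : MulAut H)⁻¹ z)) * z⁻¹ : H) : X) ∈ D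
      have h := hinvD _ b.2 _ (ha.2.1 _ (hinvE _ (inv_mem b.2) z hz))
      rw [map_mul, map_inv, MulAut.apply_inv_self] at h
      exact h, fun z => by
      show (((b : MulAut H) ((a : MulAut H) ((b : MulAut H)⁻¹ z)) * z⁻¹ : H) : X) ∈ E
      have h := hinvE _ b.2 _ (ha.2.2 ((b : MulAut H)⁻¹ z))
      rw [map_mul, map_inv, MulAut.apply_inv_self] at h
      exact h⟩⟩
  have hp : IsPGroup p N := by
    rintro ⟨a, ha⟩
    obtain ⟨n, hn⟩ := IsPGroup.iff_card.1 (hX.to_subgroup H)
    have hq : ∀ z : H, z ^ p ^ n = 1 := fun z => by rw [← hn]; exact pow_card_eq_one'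
    have h1 : a ^ p ^ n ∈ FixedExactly.stabZ G (E.subgroupOf H) := by
      refine ⟨fun z hz => ?_, fun z => (pow_mem ha (p ^ n) : a ^ p ^ n ∈ N).2.2 z⟩
      have hd : ((a : MulAut H) z * z⁻¹ : H).1 ∈ D := ha.2.1 z hz
      have hfix' : (a : MulAut H) ((a : MulAut H) z * z⁻¹) = (a : MulAut H) z * z⁻¹ := ha.1 _ hd
      have hpow : ∀ k : ℕ, ((a : MulAut H) ^ k) z = ((a : MulAut H) z * z⁻¹) ^ k * z := by
        intro k
        induction k with
        | zero => simp
        | succ k ih =>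
          rw [pow_succ', MulAut.mul_apply, ih, map_mul, map_pow, hfix', pow_succ, mul_assoc,
            inv_mul_cancel_right]
      show (((a ^ p ^ n : G) : MulAut H)) z = z
      rw [Subgroup.coe_pow, hpow, hq, one_mul]
    obtain ⟨m, hm⟩ := FixedExactly.isPGroup_stabZ G (hX.to_subgroup H) _ ⟨_, h1⟩
    refine ⟨n + m, Subtype.ext ?_⟩
    have h2 := congrArg Subtype.val hm
    simp only [SubgroupClass.coe_pow, OneMemClass.coe_one] at h2 ⊢
    rw [pow_add, pow_mul]
    exact h2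
  exact L.radical N hN hp g hg (L.conj_mem g hg)
    ⟨fun z hz => Subtype.ext (hfix z z.2 hz), fun z hz => hcD z z.2 hz, fun z => hcE z z.2⟩

/-- An automorphism carries the centre of `H` to itself. -/
theorem inv_centre (H : Subgroup X) (α : MulAut H) (x : H)
    (hx : ∀ y ∈ H, y * (x : X) = x * y) : ∀ y ∈ H, y * ((α x : H) : X) = (α x : H) * y := by
  intro y hy
  have h : α⁻¹ ⟨y, hy⟩ * x = x * α⁻¹ ⟨y, hy⟩ := Subtype.ext (hx _ (α⁻¹ ⟨y, hy⟩).2)
  have h2 := congrArg α h
  rw [map_mul, map_mul, MulAut.apply_inv_self] at h2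
  exact congrArg Subtype.val h2

end CfsgLib.Fusion.SpFour
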