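import Cfsg.Agent.Lib.Fusion.SpFour.Transport

/-!
The automizer of `S` read in `U K`: it fixes `bcd`, and its action on `S/cd` has no unipotent part.
-/

set_option autoImplicit false
set_option linter.style.haveILetI false
set_option linter.unusedSectionVars false
set_option linter.unusedVariables false

namespace CfsgLib.Fusion.SpFour

open Cfsg Cfsg.FusionSystem Subgroup

universe u

variable {Ω : Type u} [Group Ω] {S : Subgroup Ω} [Finite S] {p : ℕ} [Fact p.Prime]
  {F : FusionSystem S} {K : Type*} [Field K]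

/-- `Aut_F(S)` read in `U K`. -/
noncomputable def autTop (e : S ≃* U K) (F : FusionSystem S) : Subgroup (MulAut (U K)) :=
  (F.autGroup S).map (MulAut.congr e).toMonoidHom

theorem el_congr (e : S ≃* U K) (β : MulAut S) (x : U K) :
    el e (MulAut.congr e β x) = ((β ⟨el e x, el_mem e x⟩ : S) : Ω) := by
  show ((e.symm (e (β (e.symm x))) : S) : Ω) = _
  rw [MulEquiv.symm_apply_apply]
  rfl

theorem fullyNormalized_top : F.IsFullyNormalized S := by
  refine ⟨le_rfl, fun Q hQ => ?_⟩
  rw [show normalizerIn S S = S from inf_eq_left.2 Subgroup.le_normalizer]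
  exact Nat.card_le_card_of_injective (Subgroup.inclusion (inf_le_left : normalizerIn S Q ≤ S))
    (Subgroup.inclusion_injective _)

theorem autInducedBy_top_eq : autInducedBy S S = Inn S := by
  refine le_antisymm (fun α hα => ?_) (inn_le_autInducedBy le_rfl)
  obtain ⟨g, hg, hgx⟩ := mem_autInducedBy_iff.1 hα
  exact ⟨⟨g, hg⟩, MulEquiv.ext fun x => Subtype.ext (hgx x).symm⟩

variable (hS : IsPGroup p S) (hF : F.IsSaturated p) (e : S ≃* U K)

include hS hF

/-- Some power prime to `p` of an element of the automizer is inner. -/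
theorem exists_pow_inner {ρ : MulAut (U K)} (hρ : ρ ∈ autTop e F) :
    ∃ m : ℕ, ¬ p ∣ m ∧ ∃ g : U K, ∀ x, (ρ ^ m) x = g * x * g⁻¹ := by
  obtain ⟨β, hβ, rfl⟩ := hρ
  haveI hN : ((Inn S).subgroupOf (F.autGroup S)).Normal := ⟨fun a ha b => by
    obtain ⟨s, hs⟩ := ha
    refine ⟨(b : MulAut S) s, ?_⟩
    refine MulEquiv.ext fun x => ?_
    show (b : MulAut S) s * x * ((b : MulAut S) s)⁻¹ =
      (b : MulAut S) ((a : MulAut S) ((b : MulAut S)⁻¹ x))
    rw [show (a : MulAut S) = MulAut.conj s from hs.symm, MulAut.conj_apply, map_mul, map_mul,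
      map_inv, MulAut.apply_inv_self]⟩
  obtain ⟨T, hT⟩ := (fullyAutomized_of_fullyNormalized hS hF fullyNormalized_top).2
  rw [autInducedBy_top_eq] at hT
  refine ⟨((Inn S).subgroupOf (F.autGroup S)).index, ?_, ?_⟩
  · rw [← hT]
    haveI : (T : Subgroup (F.autGroup S)).Normal := hT ▸ hN
    exact T.not_dvd_index
  · obtain ⟨s, hs⟩ := ((Inn S).subgroupOf (F.autGroup S)).pow_index_mem (⟨β, hβ⟩ : F.autGroup S)
    refine ⟨e s, fun x => ?_⟩
    rw [← map_pow]
    show MulAut.congr e _ x = _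
    rw [show β ^ _ = MulAut.conj s from hs.symm]
    show e (s * e.symm x * s⁻¹) = _
    simp

/-- An element acting on `S/cd` unipotently acts trivially. -/
theorem b_eq_of_unipotent [CharP K p] {κ : MulAut (U K)} (hκ : κ ∈ autTop e F)
    (ha : ∀ x, (κ x).a = x.a) (hb : ∀ x : U K, x.a = 0 → (κ x).b = x.b) :
    ∀ x, (κ x).b = x.b := by
  intro x
  obtain ⟨m, hm, g, hg⟩ := exists_pow_inner hS hF e hκ
  set z := x⁻¹ * κ x with hz
  have hza : z.a = 0 := by
    rw [hz, U.mul_def, U.inv_def]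
    show -x.a + (κ x).a = 0
    rw [ha, neg_add_cancel]
  have hpow : ∀ k : ℕ, ((κ ^ k) x).b = x.b + k * z.b ∧ ((κ ^ k) x).a = x.a := by
    intro k
    induction k with
    | zero => simp
    | succ k ih =>
      rw [pow_succ', MulAut.mul_apply]
      set w := x⁻¹ * (κ ^ k) x with hw
      have hwa : w.a = 0 := by
        rw [hw, U.mul_def, U.inv_def]
        show -x.a + ((κ ^ k) x).a = 0
        rw [ih.2, neg_add_cancel]
      have hwb : w.b = k * z.b := by
        rw [hw, U.mul_def, U.inv_def]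
        show -x.b + ((κ ^ k) x).b = _
        rw [ih.1]
        ring
      have he : (κ ^ k) x = x * w := by rw [hw, mul_inv_cancel_left]
      rw [he, map_mul, show κ x = x * z from by rw [hz, mul_inv_cancel_left]]
      refine ⟨?_, ?_⟩
      · show x.b + z.b + (κ w).b = _
        rw [hb w hwa, hwb]
        push_cast
        ring
      · show x.a + z.a + (κ w).a = _
        rw [hza, ha, hwa, add_zero, add_zero]
  have h1 := (hpow m).1
  rw [hg, U.conj_eq] at h1
  have h2 : (m : K) * z.b = 0 := by linear_combination -h1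
  have hm0 : (m : K) ≠ 0 := fun h => hm ((CharP.cast_eq_zero_iff K p m).1 h)
  have h3 := (mul_eq_zero.1 h2).resolve_left hm0
  rw [show κ x = x * z from by rw [hz, mul_inv_cancel_left]]
  show x.b + z.b = x.b
  rw [h3, add_zero]

/-- In odd characteristic `cd` and `bcd` are invariant. -/
theorem invariant_odd [CharP K p] (h2 : (2 : K) ≠ 0) (ρ : MulAut (U K)) :
    (∀ x : U K, x.a = 0 ∧ x.b = 0 → (ρ x).a = 0 ∧ (ρ x).b = 0) ∧
      ∀ x : U K, x.a = 0 → (ρ x).a = 0 := by
  have hchar : ∀ (σ : MulAut (U K)) (x : U K), (x.a = 0 ∧ x.b = 0) →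
      (σ x).a = 0 ∧ (σ x).b = 0 := by
    intro σ x ⟨ha, hb⟩
    have hcomm : ∀ y, (σ x) * y * (σ x)⁻¹ * y⁻¹ ∈ Subgroup.center (U K) := by
      intro y
      obtain ⟨y, rfl⟩ := σ.surjective y
      have h1 : x * y * x⁻¹ * y⁻¹ ∈ Subgroup.center (U K) := (U.mem_center_odd h2).2 (by
        rw [U.comm_eq, ha, hb]
        exact ⟨rfl, rfl, by ring⟩)
      rw [Subgroup.mem_center_iff] at h1 ⊢
      intro w
      obtain ⟨w, rfl⟩ := σ.surjective w
      have h3 := congrArg σ (h1 w)
      simpa only [map_mul, map_inv] using h3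
    have hA := ((U.mem_center_odd h2).1 (hcomm (U.aEl 1))).2.2
    have hB := ((U.mem_center_odd h2).1 (hcomm (U.bEl 1))).2.2
    rw [U.comm_eq] at hA hB
    simp [U.aEl, U.bEl] at hA hB
    exact ⟨hB, hA⟩
  refine ⟨hchar ρ, fun x hx => ?_⟩
  have h := hchar ρ⁻¹ ⟨0, 0, 1, 0⟩ ⟨rfl, rfl⟩
  set w := ρ⁻¹ (⟨0, 0, 1, 0⟩ : U K) with hw
  have h1 : x * w = w * x := by
    rw [U.commute_iff, hx, h.1, h.2]
    constructor <;> ring
  have h3 := congrArg ρ h1
  rw [map_mul, map_mul, hw, MulAut.apply_inv_self, U.commute_iff] at h3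
  have h4 := h3.2
  simp only [mul_zero, zero_mul, add_zero, zero_add, mul_one, ne_eq, OfNat.ofNat_ne_zero,
    not_false_eq_true, zero_pow] at h4
  exact (mul_eq_zero.1 h4).resolve_left h2

/-- In characteristic two `bcd` and `acd` are invariant. -/
theorem invariant_two [CharP K 2] (hp : p = 2) {ρ : MulAut (U K)} (hρ : ρ ∈ autTop e F) :
    (∀ x : U K, x.a = 0 → (ρ x).a = 0) ∧ ∀ x : U K, x.b = 0 → (ρ x).b = 0 := by
  have hinvol : ∀ x : U K, x * x = 1 → x.a = 0 ∨ x.b = 0 := fun x h => by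
    rw [U.mul_self_two] at h
    exact mul_eq_zero.1 (congrArg U.c h)
  have hsq : ∀ {x : U K}, x.a = 0 ∨ x.b = 0 → x * x = 1 := fun {x} h => by
    rw [U.mul_self_two, U.one_def]
    rcases h with h | h <;> simp [h]
  have half : ∀ (σ : MulAut (U K)) (H : Subgroup (U K)),
      (∀ x ∈ H, x.a = 0 ∨ x.b = 0) → H.map σ.toMonoidHom ≤ U.grpA K ∨
        H.map σ.toMonoidHom ≤ U.grpB K := by
    intro σ H hH
    by_contra hcon
    push Not at hcon
    obtain ⟨⟨_, ⟨x, hx, rfl⟩, hxa⟩, ⟨_, ⟨y, hy, rfl⟩, hyb⟩⟩ :=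
      SetLike.not_le_iff_exists.1 hcon.1, SetLike.not_le_iff_exists.1 hcon.2
    have hmap : ∀ z ∈ H, (σ z).a = 0 ∨ (σ z).b = 0 := fun z hz => hinvol _ (by
      rw [← map_mul, hsq (hH z hz), map_one])
    have hxb : (σ x).b = 0 := (hmap x hx).resolve_left hxa
    have hya : (σ y).a = 0 := (hmap y hy).resolve_right hyb
    have h3 := hmap _ (H.mul_mem hx hy)
    rw [map_mul] at h3
    rcases h3 with h3 | h3
    · exact hxa (show (σ x).a = 0 by
        have : (σ x).a + (σ y).a = 0 := h3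
        rwa [hya, add_zero] at this)
    · exact hyb (show (σ y).b = 0 by
        have : (σ x).b + (σ y).b = 0 := h3
        rwa [hxb, zero_add] at this)
  haveI := finite_U e
  obtain ⟨m, hm, g, hg⟩ := exists_pow_inner hS hF e hρ
  have hcA : Nat.card ((U.grpA K).map ρ.toMonoidHom) = Nat.card (U.grpA K) :=
    (Nat.card_congr ((U.grpA K).equivMapOfInjective _ ρ.injective).toEquiv).symm
  have hcB : Nat.card ((U.grpB K).map ρ.toMonoidHom) = Nat.card (U.grpB K) :=
    (Nat.card_congr ((U.grpB K).equivMapOfInjective _ ρ.injective).toEquiv).symm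
  have hAB : Nat.card (U.grpA K) = Nat.card (U.grpB K) := by
    refine Nat.card_congr
      { toFun := fun x => ⟨⟨x.1.b, 0, x.1.c, x.1.d⟩, rfl⟩
        invFun := fun x => ⟨⟨0, x.1.a, x.1.c, x.1.d⟩, rfl⟩
        left_inv := fun x => Subtype.ext (U.ext (show (0 : K) = x.1.a from x.2.symm) rfl rfl rfl)
        right_inv := fun x => Subtype.ext (U.ext rfl (show (0 : K) = x.1.b from x.2.symm) rfl rfl) }
  have imgA := (half ρ (U.grpA K) fun x hx => Or.inl hx).imp
    (fun h => Subgroup.eq_of_le_of_card_ge h hcA.ge)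
    (fun h => Subgroup.eq_of_le_of_card_ge h (by rw [hcA, hAB]))
  have imgB := (half ρ (U.grpB K) fun x hx => Or.inr hx).imp
    (fun h => Subgroup.eq_of_le_of_card_ge h (by rw [hcB, hAB]))
    (fun h => Subgroup.eq_of_le_of_card_ge h hcB.ge)
  have hne : U.grpA K ≠ U.grpB K := fun h => by
    have h1 : U.bEl (1 : K) ∈ U.grpB K := h ▸ (rfl : (U.bEl (1 : K)).a = 0)
    exact one_ne_zero (show (1 : K) = 0 from h1)
  have hinj := Subgroup.map_injective (f := ρ.toMonoidHom) ρ.injective
  have hfix : (U.grpA K).map ρ.toMonoidHom = U.grpA K ∧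
      (U.grpB K).map ρ.toMonoidHom = U.grpB K := by
    rcases imgA with hA | hA
    · refine ⟨hA, imgB.resolve_left fun hB => hne (hinj (hA.trans hB.symm))⟩
    exfalso
    have hB : (U.grpB K).map ρ.toMonoidHom = U.grpA K :=
      imgB.resolve_right fun hB => hne (hinj (hA.trans hB.symm))
    have hk : ∀ k : ℕ, (U.grpA K).map (ρ ^ k).toMonoidHom =
        if Even k then U.grpA K else U.grpB K := by
      intro k
      induction k with
      | zero =>
        rw [pow_zero, if_pos Even.zero]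
        ext x
        simp
      | succ k ih =>
        rw [pow_succ', show (ρ * ρ ^ k).toMonoidHom = ρ.toMonoidHom.comp (ρ ^ k).toMonoidHom
          from rfl, ← Subgroup.map_map, ih]
        by_cases h : Even k
        · rw [if_pos h, if_neg (Nat.even_add_one.not.2 (not_not.2 h)), hA]
        · rw [if_neg h, if_pos (Nat.even_add_one.2 h), hB]
    have hodd : ¬ Even m := fun h => hm (hp ▸ even_iff_two_dvd.1 h)
    have h1 := hk m
    rw [if_neg hodd] at h1
    have h2 : U.bEl (1 : K) ∈ (U.grpA K).map (ρ ^ m).toMonoidHom := by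
      refine ⟨g⁻¹ * U.bEl 1 * g, ?_, ?_⟩
      · show (g⁻¹ * U.bEl 1 * g).a = 0
        simp [U.mul_def, U.inv_def, U.bEl]
      · show (ρ ^ m) _ = _
        rw [hg]
        group
    rw [h1] at h2
    exact one_ne_zero (show (1 : K) = 0 from h2)
  exact ⟨fun x hx => hfix.1.le ⟨x, hx, rfl⟩, fun x hx => hfix.2.le ⟨x, hx, rfl⟩⟩

end CfsgLib.Fusion.SpFour
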