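import Cfsg.Agent.Lib.Fusion.SpFour.Candidates
import Cfsg.Agent.Lib.Fusion.SpFour.Top

/-!
The automizers of `bcd` and, in characteristic two, `acd` acting on `K³`.
-/

set_option autoImplicit false
set_option linter.style.haveILetI false
set_option linter.unusedSectionVars false
set_option linter.unusedVariables false

namespace CfsgLib.Fusion.SpFour

open Cfsg Cfsg.FusionSystem Subgroup

universe u

section Calc

variable (K : Type*) [Field K]

/-- `bcd ≅ K³`. -/
def eqA : U.grpA K ≃* V3 K where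
  toFun x := v3 (x : U K).b (x : U K).c (x : U K).d
  invFun v := ⟨⟨0, c1 v, c2 v, c3 v⟩, rfl⟩
  left_inv x := Subtype.ext (U.ext x.2.symm rfl rfl rfl)
  right_inv v := rfl
  map_mul' x y := by
    have hx : (x : U K).a = 0 := x.2
    simp [v3, U.mul_def, hx, ← ofAdd_add]

/-- `acd ≅ K³` in characteristic two. -/
def eqB [CharP K 2] : U.grpB K ≃* V3 K where
  toFun x := v3 (x : U K).a (x : U K).c (x : U K).d
  invFun v := ⟨⟨c1 v, 0, c2 v, c3 v⟩, rfl⟩
  left_inv x := Subtype.ext (U.ext rfl x.2.symm rfl rfl)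
  right_inv v := rfl
  map_mul' x y := by
    have hy : (y : U K).b = 0 := y.2
    simp [v3, U.mul_def, hy, (CharTwo.two_eq_zero : (2 : K) = 0), ← ofAdd_add]

variable {K}

theorem eqA_conj {g : U K} (hg : g ∈ Subgroup.normalizer (U.grpA K : Set (U K))) :
    IsActA (MulAut.congr (eqA K) (conjAut _ g hg)) g.a := by
  intro b c d
  show v3 (g * ⟨0, b, c, d⟩ * g⁻¹).b (g * ⟨0, b, c, d⟩ * g⁻¹).c (g * ⟨0, b, c, d⟩ * g⁻¹).d = _
  simp [U.conj_eq]

theorem eqB_conj [CharP K 2] {g : U K} (hg : g ∈ Subgroup.normalizer (U.grpB K : Set (U K))) :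
    IsActB (MulAut.congr (eqB K) (conjAut _ g hg)) g.b := by
  intro a c d
  show v3 (g * ⟨a, 0, c, d⟩ * g⁻¹).a (g * ⟨a, 0, c, d⟩ * g⁻¹).c (g * ⟨a, 0, c, d⟩ * g⁻¹).d = _
  simp [U.conj_eq, (CharTwo.two_eq_zero : (2 : K) = 0), CharTwo.sub_eq_add]

theorem v3_surj (v : V3 K) : ∃ x y z, v = v3 x y z := ⟨c1 v, c2 v, c3 v, rfl⟩

theorem actA_unique {g g' : MulAut (V3 K)} {t : K} (h : IsActA g t) (h' : IsActA g' t) : g = g' :=
  MulEquiv.ext fun v => by
    obtain ⟨x, y, z, rfl⟩ := v3_surj v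
    rw [h x y z, h' x y z]

theorem actB_unique {g g' : MulAut (V3 K)} {t : K} (h : IsActB g t) (h' : IsActB g' t) : g = g' :=
  MulEquiv.ext fun v => by
    obtain ⟨x, y, z, rfl⟩ := v3_surj v
    rw [h x y z, h' x y z]

theorem normalizes_grpA [Finite K] (g : U K) :
    g ∈ Subgroup.normalizer (U.grpA K : Set (U K)) :=
  Shapes.mem_normalizer_of_comm fun x _ => show _ = (0 : K) by rw [U.comm_eq]

theorem normalizes_grpB [Finite K] (g : U K) :
    g ∈ Subgroup.normalizer (U.grpB K : Set (U K)) :=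
  Shapes.mem_normalizer_of_comm fun x _ => show _ = (0 : K) by rw [U.comm_eq]

end Calc

variable {Ω : Type u} [Group Ω] {S : Subgroup Ω} [Finite S] {p : ℕ} [Fact p.Prime]
  {F : FusionSystem S} {K : Type*} [Field K]

/-- The automizer of an essential subgroup acting on an isomorphic module. -/
theorem module_data (hS : IsPGroup p S) (hF : F.IsSaturated p) (e : S ≃* U K) {H : Subgroup (U K)}
    (hH : F.IsEssential p (pull e H)) (hnorm : ∀ g, g ∈ Subgroup.normalizer (H : Set (U K)))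
    {Q : Subgroup Ω} (hQ : F.IsNormal Q) (hQ1 : Q ≠ ⊥)
    (hQc : coords e Q ≤ Subgroup.center (U K)) {V : Type*} [Group V] (ι : H ≃* V) :
    ∃ T : Sylow p ((autU e F H).map (MulAut.congr ι).toMonoidHom),
      (∀ a, a ∈ (T : Subgroup ((autU e F H).map (MulAut.congr ι).toMonoidHom)) ↔
        ∃ g : U K, (a : MulAut V) = MulAut.congr ι (conjAut H g (hnorm g))) ∧
      (∀ g : U K, MulAut.congr ι (conjAut H g (hnorm g)) ∈
        (autU e F H).map (MulAut.congr ι).toMonoidHom) ∧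
      ¬ (T : Subgroup ((autU e F H).map (MulAut.congr ι).toMonoidHom)).Normal ∧
      ((coords e Q).subgroupOf H).map ι.toMonoidHom ≠ ⊥ ∧
      (∀ x, x ∈ ((coords e Q).subgroupOf H).map ι.toMonoidHom ↔ (ι.symm x : U K) ∈ coords e Q) ∧
      ∀ a ∈ (autU e F H).map (MulAut.congr ι).toMonoidHom,
        ∀ x ∈ ((coords e Q).subgroupOf H).map ι.toMonoidHom,
          a x ∈ ((coords e Q).subgroupOf H).map ι.toMonoidHom := by
  have hL := loc_of_essential e hS hF hH hQ hQ1 hQc
  set G := autU e F H with hG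
  haveI := finite_U e
  haveI : Finite (MulAut H) := inferInstance
  obtain ⟨T, hT⟩ := hL.sylow
  let f : G ≃* G.map (MulAut.congr ι).toMonoidHom :=
    Subgroup.equivMapOfInjective _ _ (MulAut.congr ι).injective
  have hmem : ∀ x, x ∈ ((coords e Q).subgroupOf H).map ι.toMonoidHom ↔
      (ι.symm x : U K) ∈ coords e Q := fun x => by
    constructor
    · rintro ⟨y, hy, rfl⟩
      show ((ι.symm (ι y) : H) : U K) ∈ _
      rw [ι.symm_apply_apply]
      exact hy
    · exact fun h => ⟨ι.symm x, h, ι.apply_symm_apply x⟩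
  refine ⟨T.mapSurjective (f := f.toMonoidHom) f.surjective, fun a => ?_,
    fun g => ⟨_, hL.conj_mem g (hnorm g), rfl⟩, fun hN => ?_, fun h => ?_, hmem, ?_⟩
  · show a ∈ (T : Subgroup G).map f.toMonoidHom ↔ _
    constructor
    · rintro ⟨b, hb, rfl⟩
      obtain ⟨g, hg, hgb⟩ := (hT b).1 hb
      exact ⟨g, by rw [← hgb]; rfl⟩
    · rintro ⟨g, hg⟩
      exact ⟨⟨_, hL.conj_mem g (hnorm g)⟩, (hT _).2 ⟨g, hnorm g, rfl⟩, Subtype.ext hg.symm⟩
  · have hTn : (T : Subgroup G).Normal := by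
      have h1 := hN.comap f.toMonoidHom
      rwa [show ((T.mapSurjective (f := f.toMonoidHom) f.surjective : Sylow p _) : Subgroup _) =
        (T : Subgroup G).map f.toMonoidHom from rfl,
        Subgroup.comap_map_eq_self_of_injective f.injective] at h1
    refine hL.proper (eq_top_iff.2 fun g _ => ?_)
    exact hL.radical _ hTn T.isPGroup' g (hnorm g) (hL.conj_mem g _) ((hT _).2 ⟨g, _, rfl⟩)
  · refine hL.ne_bot (eq_bot_iff.2 fun x hx => ?_)
    have h1 : ι ⟨x, hL.Q_le hx⟩ ∈ ((coords e Q).subgroupOf H).map ι.toMonoidHom :=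
      ⟨⟨x, hL.Q_le hx⟩, hx, rfl⟩
    rw [h, Subgroup.mem_bot] at h1
    exact congrArg Subtype.val (ι.injective (h1.trans (map_one ι).symm))
  · rintro _ ⟨α, hα, rfl⟩ x hx
    rw [hmem] at hx ⊢
    show ((ι.symm (ι (α (ι.symm x))) : H) : U K) ∈ _
    rw [ι.symm_apply_apply]
    exact hL.inv α hα _ hx

/-- An element of `Aut_F(S)` preserving `H` restricts to the automizer of `H`. -/
theorem restrict_mem (e : S ≃* U K) {H : Subgroup (U K)} {σ : MulAut (U K)}
    (hσ : σ ∈ autTop e F) (hH : ∀ x ∈ H, σ x ∈ H) :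
    ∃ α ∈ autU e F H, ∀ x : H, ((α x : H) : U K) = σ x := by
  obtain ⟨β, hβ, rfl⟩ := hσ
  have hP := pull_le e H
  haveI := finite_of_le hP
  have hm := (isMap_autFun le_rfl hβ).mono hP
  have hval : ∀ x : U K, autFun β (el e x) = el e (MulAut.congr e β x) := fun x => by
    rw [autFun_apply β (el_mem e x), el_congr]
  have hi : img (pull e H) (autFun β) = pull e H := by
    refine eq_of_le_of_card_le (fun y hy => ?_) hm.card_img.ge
    obtain ⟨_, hz, rfl⟩ := hm.mem_img.1 hy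
    obtain ⟨x, hx, rfl⟩ := (mem_pull e).1 hz
    rw [hval, el_mem_pull]
    exact hH x hx
  refine ⟨_, toU_mem e (hm.toAut_mem hi), fun x => el_injective e ?_⟩
  rw [el_toU, IsMap.toAut_apply, pe_coe, hval]
  rfl

end CfsgLib.Fusion.SpFour
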