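import Cfsg.Agent.Lib.Fusion.SpFour.Spread
import Cfsg.Agent.Lib.Fusion.SpFour.OddA.Axis

/-!
Odd characteristic, the automizer of `bcd`: `T` is normal.
-/

set_option autoImplicit false
set_option linter.style.haveILetI false
set_option linter.unusedSectionVars false

namespace CfsgLib.Fusion.SpFour

open Cfsg Cfsg.FusionSystem

variable {K : Type*} [Field K] [Finite K]

theorem OddA.negProp {p : ℕ} [Fact p.Prime] [CharP K p] : OddA.NegProp K p := by
  intro G T hT hTall hn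
  obtain ⟨φ, hφ⟩ := Spread.exists_sl2 G T hT hTall hn
  obtain ⟨g, hg, hgM⟩ := hφ ⟨-1, by rw [Matrix.det_fin_two]; simp⟩
  refine ⟨g, hg, fun v => ?_⟩
  obtain ⟨x, y, rfl⟩ := v2_surj v
  have h := hgM x (y - φ x)
  rw [sub_add_cancel] at h
  exact h.trans (congrArg Multiplicative.ofAdd (by
    simp [v2, map_neg, Prod.ext_iff]
    ring))

/-- A fixed subgroup of the third axis forces `T` to be normal. -/
theorem OddA.normal {p : ℕ} [Fact p.Prime] [CharP K p] (hp : p ≠ 2)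
    (G : Subgroup (MulAut (V3 K))) (T : Sylow p G)
    (hT : ∀ g : G, g ∈ (T : Subgroup G) ↔ ∃ t, IsActA (g : MulAut (V3 K)) t)
    (hTall : ∀ t : K, ∃ g ∈ G, IsActA g t)
    (C : Subgroup (V3 K)) (hC : C ≠ ⊥) (hCd : ∀ x ∈ C, c1 x = 0 ∧ c2 x = 0)
    (hinv : ∀ g ∈ G, ∀ x ∈ C, g x ∈ C)
    (htor : ∀ l : K, l ≠ 0 → ∃ g ∈ G, (∀ b c d, c1 (g (v3 b c d)) = l⁻¹ * l⁻¹ * b) ∧
      (∀ c d, c2 (g (v3 0 c d)) = l⁻¹ * c) ∧ ∀ d, g (v3 0 0 d) = v3 0 0 d) :
    (T : Subgroup G).Normal := by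
  have hCv : ∀ x ∈ C, x = v3 0 0 (c3 x) := fun x hx =>
    congrArg Multiplicative.ofAdd
      (Prod.ext (hCd x hx).1 (Prod.ext (hCd x hx).2 rfl) :
        Multiplicative.toAdd x = (0, 0, c3 x))
  have hTfix : ∀ g : MulAut (V3 K), ∀ t, IsActA g t → ∀ x ∈ C, g x = x := by
    intro g t h x hx
    rw [hCv x hx, h, mul_zero, mul_zero, mul_zero, add_zero, add_zero, add_zero]
  set G₁ := fixer G C with hG₁
  have hTG : ∀ g ∈ (T : Subgroup G), (g : MulAut (V3 K)) ∈ G₁ := fun g hg => by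
    obtain ⟨t, ht⟩ := (hT g).1 hg
    exact ⟨g.2, hTfix _ t ht⟩
  obtain ⟨T₁, hT₁⟩ := sylow_restrict (H := G₁) (fun g hg => hg.1) T hTG
  suffices hN : (T₁ : Subgroup G₁).Normal by
    refine ⟨fun t ht g => ?_⟩
    have hmem : ((g * t * g⁻¹ : G) : MulAut (V3 K)) ∈ G₁ := by
      refine ⟨(g * t * g⁻¹ : G).2, fun x hx => ?_⟩
      show (g : MulAut (V3 K)) ((t : MulAut (V3 K)) ((g : MulAut (V3 K))⁻¹ x)) = x
      rw [(hTG t ht).2 _ (hinv _ (inv_mem g.2) x hx), MulAut.apply_inv_self]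
    obtain ⟨k, hk⟩ := T.isPGroup' ⟨t, ht⟩
    have h1 : (⟨_, hmem⟩ : G₁) ∈ (T₁ : Subgroup G₁) := by
      refine mem_of_normal_sylow T₁ (k := k) (Subtype.ext ?_)
      show ((g * t * g⁻¹ : G) : MulAut (V3 K)) ^ p ^ k = 1
      rw [← Subgroup.coe_pow, conj_pow, show t ^ p ^ k = 1 from congrArg Subtype.val hk, mul_one,
        mul_inv_cancel]
      rfl
    obtain ⟨t', ht', e⟩ := (hT₁ _).1 h1
    rwa [show g * t * g⁻¹ = t' from Subtype.ext e.symm]
  have hmemT : ∀ g : G₁, g ∈ (T₁ : Subgroup G₁) ↔ ∃ t, IsActA (g : MulAut (V3 K)) t := by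
    intro g
    rw [hT₁]
    constructor
    · rintro ⟨h, hh, e⟩
      rw [← e]
      exact (hT h).1 hh
    · intro h
      exact ⟨⟨g, g.2.1⟩, (hT _).2 h, rfl⟩
  choose el hel using hTall
  obtain ⟨x₀, hx₀, hx₀1⟩ := (Subgroup.bot_or_exists_ne_one C).resolve_left hC
  let S : OddA.Setup p G₁ :=
    { T := T₁
      hT := hmemT
      el := fun t => ⟨el t, (hel t).1, hTfix _ t (hel t).2⟩
      hel := fun t => (hel t).2
      e := c3 x₀
      e_ne := fun h => hx₀1 (by rw [hCv x₀ hx₀, h]; rfl)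
      fix := fun g => by
        have := g.2.2 x₀ hx₀
        rw [hCv x₀ hx₀] at this
        exact congrArg Multiplicative.toAdd this
      hp := hp }
  have htor₁ : OddA.HasTorus G₁ := by
    intro l hl
    obtain ⟨g, hg, h1, h2, h3⟩ := htor l hl
    refine ⟨⟨g, hg, fun x hx => ?_⟩, fun d => congrArg Multiplicative.toAdd (h3 d), h1, h2⟩
    rw [hCv x hx]
    exact h3 _
  rcases lt_or_ge p (Nat.card K) with hq | hq
  · exact S.normal OddA.negProp htor₁ hq
  · -- the axis is `⟨e⟩`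
    have hspan : ∀ x : K, ∃ n : ℕ, x = (n : K) * S.e := by
      intro x
      have hinj : Function.Injective (ZMod.castHom (dvd_refl p) K) := RingHom.injective _
      obtain ⟨c, hc⟩ := (Function.Injective.bijective_of_nat_card_le hinj
        (by rw [Nat.card_zmod]; exact hq)).2 (x / S.e)
      refine ⟨c.val, ?_⟩
      rw [show ((c.val : ℕ) : K) = ZMod.castHom (dvd_refl p) K c by
        rw [← map_natCast (ZMod.castHom (dvd_refl p) K), ZMod.natCast_zmod_val], hc,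
        div_mul_cancel₀ x S.e_ne]
    refine Subgroup.normalizer_eq_top_iff.1 ((Subgroup.eq_top_iff' _).2 fun g =>
      S.mem_normalizer_of_pres OddA.negProp (OddA.FixD.pres fun x => ?_))
    obtain ⟨n, rfl⟩ := hspan x
    rw [show ((0 : K), (0 : K), (n : K) * S.e) = n • ((0 : K), (0 : K), S.e) by simp, map_nsmul,
      S.fix]

end CfsgLib.Fusion.SpFour
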