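import Cfsg.Agent.Lib.Fusion.SpFour.Spread
import Cfsg.Agent.Lib.Fusion.SpFour.Candidates
import Cfsg.Agent.Lib.Fusion.SpFour.Top
import Cfsg.Agent.Lib.Fusion.LocalSaturation

/-!
An essential `{b = l a}` in odd characteristic: its automizer is `SL₂(K)` on the natural module
`{b = l a}/d`, whose torus extends to `S`.
-/

set_option autoImplicit false
set_option linter.style.haveILetI false
set_option linter.unusedSectionVars false
set_option linter.unusedVariables false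
set_option linter.unusedSimpArgs false
set_option linter.unnecessarySeqFocus false

namespace CfsgLib.Fusion.SpFour

open Cfsg Cfsg.FusionSystem Subgroup

universe u

namespace Torus

variable {K : Type*} [Field K] (l : K)

/-- Coordinates modulo `d`. -/
def proj (x : U K) : V2 K := v2 x.a (x.c - l * (x.a * x.a) / 2)

/-- A section. -/
def sect (v : V2 K) : U.grpL l :=
  ⟨⟨v.toAdd.1, l * v.toAdd.1, v.toAdd.2 + l * (v.toAdd.1 * v.toAdd.1) / 2, 0⟩, rfl⟩

theorem proj_mul (h2 : (2 : K) ≠ 0) {x y : U K} (hy : y ∈ U.grpL l) :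
    proj l (x * y) = proj l x * proj l y := by
  replace hy : y.b = l * y.a := hy
  rw [proj, proj, proj, v2_mul, v2_inj]
  refine ⟨rfl, ?_⟩
  simp only [U.mul_def, hy]
  field_simp
  ring

theorem proj_sect (v : V2 K) : proj l (sect l v : U K) = v := by
  obtain ⟨x, y, rfl⟩ := v2_surj v
  show v2 x (y + l * (x * x) / 2 - l * (x * x) / 2) = v2 x y
  rw [add_sub_cancel_right]

theorem center_mem_grpL (h2 : (2 : K) ≠ 0) {z : U K} (hz : z ∈ Subgroup.center (U K)) :
    z ∈ U.grpL l := by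
  obtain ⟨za, zb, -⟩ := (U.mem_center_odd h2).1 hz
  show z.b = l * z.a
  rw [za, zb, mul_zero]

theorem center_of_commute (h2 : (2 : K) ≠ 0) {z : U K} (hz : z ∈ U.grpL l)
    (h : ∀ y ∈ U.grpL l, y * z = z * y) : z ∈ Subgroup.center (U K) := by
  replace hz : z.b = l * z.a := hz
  have hc := ((U.commute_iff _ _).1 (h ⟨0, 0, 1, 0⟩ (show (0 : K) = l * 0 by ring))).2
  simp at hc
  have hza : z.a = 0 := hc.resolve_left h2
  have h1 := ((U.commute_iff _ _).1 (h ⟨1, l, 0, 0⟩ (show l = l * 1 by ring))).2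
  simp [hza] at h1
  refine (U.mem_center_odd h2).2 ⟨hza, by rw [hz, hza, mul_zero], ?_⟩
  simpa [h2, hz, hza] using h1

theorem proj_eq_iff (h2 : (2 : K) ≠ 0) {x y : U K} (hx : x ∈ U.grpL l) (hy : y ∈ U.grpL l) :
    proj l x = proj l y ↔ x⁻¹ * y ∈ Subgroup.center (U K) := by
  have hd : x⁻¹ * y ∈ U.grpL l := mul_mem (inv_mem hx) hy
  have hm := proj_mul l h2 (x := x) hd
  rw [mul_inv_cancel_left] at hm
  rw [hm, left_eq_mul, U.mem_center_odd h2]
  replace hd : (x⁻¹ * y).b = l * (x⁻¹ * y).a := hd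
  constructor
  · intro h
    obtain ⟨h1, h3⟩ := v2_inj.1 (h.trans (show (1 : V2 K) = v2 0 0 from rfl))
    rw [h1] at h3 hd
    exact ⟨h1, by rw [hd, mul_zero], by simpa using h3⟩
  · rintro ⟨h1, -, h3⟩
    rw [proj, h1, h3]
    simp [v2]

theorem center_invariant (h2 : (2 : K) ≠ 0) (α : MulAut (U.grpL l)) (z : U.grpL l)
    (hz : (z : U K) ∈ Subgroup.center (U K)) :
    ((α z : U.grpL l) : U K) ∈ Subgroup.center (U K) :=
  center_of_commute l h2 (α z).2 (inv_centre _ α z fun y _ => Subgroup.mem_center_iff.1 hz y)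

/-- The map induced modulo `d`. -/
def indFun (α : MulAut (U.grpL l)) (v : V2 K) : V2 K := proj l ((α (sect l v) : U.grpL l) : U K)

theorem indFun_proj (h2 : (2 : K) ≠ 0) (α : MulAut (U.grpL l)) (h : U.grpL l) :
    indFun l α (proj l (h : U K)) = proj l ((α h : U.grpL l) : U K) := by
  rw [indFun, proj_eq_iff l h2 (SetLike.coe_mem _) (SetLike.coe_mem _), ← Subgroup.coe_inv,
    ← Subgroup.coe_mul, ← map_inv, ← map_mul]
  refine center_invariant l h2 α _ ?_
  rw [Subgroup.coe_mul, Subgroup.coe_inv, ← proj_eq_iff l h2 (SetLike.coe_mem _) h.2, proj_sect]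

/-- The induced automorphism. -/
noncomputable def ind (h2 : (2 : K) ≠ 0) : MulAut (U.grpL l) →* MulAut (V2 K) :=
  MonoidHom.mk' (fun α =>
    { toFun := indFun l α
      invFun := indFun l α⁻¹
      left_inv := fun v => by
        show indFun l α⁻¹ (proj l _) = v
        rw [indFun_proj l h2, MulAut.inv_apply_self, proj_sect]
      right_inv := fun v => by
        show indFun l α (proj l _) = v
        rw [indFun_proj l h2, MulAut.apply_inv_self, proj_sect]
      map_mul' := fun v w => by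
        conv_lhs =>
          rw [← proj_sect l v, ← proj_sect l w, ← proj_mul l h2 (sect l w).2, ← Subgroup.coe_mul,
            indFun_proj l h2, map_mul, Subgroup.coe_mul, proj_mul l h2 (SetLike.coe_mem _)]
        rfl })
    fun α β => MulEquiv.ext fun v => by
      show indFun l (α * β) v = indFun l α (proj l ((β (sect l v) : U.grpL l) : U K))
      rw [indFun_proj l h2]
      rfl

theorem ind_proj (h2 : (2 : K) ≠ 0) (α : MulAut (U.grpL l)) (h : U.grpL l) :
    ind l h2 α (proj l (h : U K)) = proj l ((α h : U.grpL l) : U K) := indFun_proj l h2 α h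

theorem mem_normalizer [Finite K] (h2 : (2 : K) ≠ 0) (g : U K) :
    g ∈ Subgroup.normalizer (U.grpL l : Set (U K)) :=
  Shapes.mem_normalizer_of_comm fun x hx => show _ = l * _ by rw [U.comm_eq, mul_zero]

theorem ind_conj [Finite K] (h2 : (2 : K) ≠ 0) (g : U K) :
    IsShear (ind l h2 (conjAut (U.grpL l) g (mem_normalizer l h2 g))) (l * g.a - g.b) := by
  intro x y
  show indFun l _ (v2 x y) = v2 x (y + (l * g.a - g.b) * x)
  rw [indFun, conjAut_apply]
  show proj l (g * ⟨x, l * x, y + l * (x * x) / 2, 0⟩ * g⁻¹) = _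
  rw [U.conj_eq, proj, v2_inj]
  refine ⟨rfl, ?_⟩
  field_simp
  ring

/-- An automorphism acting trivially modulo `d` fixes `d`. -/
theorem ker_mem_stab [Finite K] (h2 : (2 : K) ≠ 0) {G : Subgroup (MulAut (U.grpL l))} (a : G)
    (ha : ind l h2 (a : MulAut (U.grpL l)) = 1) :
    a ∈ FixedExactly.stabZ G ((Subgroup.center (U K)).subgroupOf (U.grpL l)) := by
  have hmod : ∀ h : U.grpL l, ((((a : MulAut (U.grpL l)) h * h⁻¹ : U.grpL l)) : U K) ∈
      Subgroup.center (U K) := by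
    intro h
    have h1 := ind_proj l h2 (a : MulAut (U.grpL l)) h
    rw [ha, MulAut.one_apply, proj_eq_iff l h2 h.2 (SetLike.coe_mem _)] at h1
    rw [Subgroup.coe_mul, Subgroup.coe_inv]
    have h3 := Subgroup.mem_center_iff.1 h1 (h : U K)
    rw [mul_inv_cancel_left] at h3
    rwa [h3, mul_inv_cancel_right]
  refine ⟨fun z hz => ?_, hmod⟩
  obtain ⟨za, zb, zc⟩ := (U.mem_center_odd h2).1 (show (z : U K) ∈ Subgroup.center (U K) from hz)
  set x : U.grpL l := ⟨⟨1, l, 0, 0⟩, show l = l * 1 by ring⟩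
  set y : U.grpL l := ⟨⟨0, 0, (z : U K).d / 2, 0⟩, show (0 : K) = l * 0 by ring⟩
  have hz' : z = x * y * x⁻¹ * y⁻¹ := Subtype.ext (by
    rw [Subgroup.coe_mul, Subgroup.coe_mul, Subgroup.coe_mul, Subgroup.coe_inv, Subgroup.coe_inv,
      U.comm_eq]
    refine U.ext za zb ?_ ?_
    · show (z : U K).c = (1 : K) * 0 - 0 * l
      rw [zc]; ring
    · show (z : U K).d = (1 : K) ^ 2 * 0 + 2 * 1 * ((z : U K).d / 2) - ((0 : K) ^ 2 * l + 2 * 0 * 0)
      field_simp
      ring)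
  obtain ⟨u, hu, e1⟩ : ∃ u : U.grpL l, (u : U K) ∈ Subgroup.center (U K) ∧
      (a : MulAut (U.grpL l)) x = u * x := ⟨_, hmod x, (inv_mul_cancel_right _ _).symm⟩
  obtain ⟨w, hw, e2⟩ : ∃ w : U.grpL l, (w : U K) ∈ Subgroup.center (U K) ∧
      (a : MulAut (U.grpL l)) y = w * y := ⟨_, hmod y, (inv_mul_cancel_right _ _).symm⟩
  rw [hz', map_mul, map_mul, map_mul, map_inv, map_inv, e1, e2]
  refine Subtype.ext ?_
  simp only [Subgroup.coe_mul, Subgroup.coe_inv]
  have cu := fun g => (Subgroup.mem_center_iff.1 hu g).symm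
  have cw := fun g => (Subgroup.mem_center_iff.1 hw g).symm
  calc (u : U K) * (x : U K) * ((w : U K) * (y : U K)) * ((u : U K) * (x : U K))⁻¹ *
        ((w : U K) * (y : U K))⁻¹
      = (x : U K) * (u : U K) * ((w : U K) * (y : U K)) * ((x : U K) * (u : U K))⁻¹ *
        ((w : U K) * (y : U K))⁻¹ := by rw [cu]
    _ = (x : U K) * ((w : U K) * (y : U K) * (u : U K)) * ((x : U K) * (u : U K))⁻¹ *
        ((w : U K) * (y : U K))⁻¹ := by rw [mul_assoc (x : U K), cu]
    _ = (x : U K) * ((w : U K) * (y : U K)) * (x : U K)⁻¹ * ((y : U K)⁻¹ * (w : U K)⁻¹) := by group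
    _ = (x : U K) * ((y : U K) * (w : U K)) * (x : U K)⁻¹ * ((y : U K)⁻¹ * (w : U K)⁻¹) := by rw [cw]
    _ = (x : U K) * (y : U K) * ((w : U K) * (x : U K)⁻¹) * ((y : U K)⁻¹ * (w : U K)⁻¹) := by group
    _ = (x : U K) * (y : U K) * (x : U K)⁻¹ * ((w : U K) * (y : U K)⁻¹) * (w : U K)⁻¹ := by
      rw [cw]; group
    _ = (x : U K) * (y : U K) * (x : U K)⁻¹ * (y : U K)⁻¹ := by rw [cw]; group

end Torus

variable {Ω : Type u} [Group Ω] {S : Subgroup Ω} [Finite S] {p : ℕ} [Fact p.Prime]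
  {F : FusionSystem S} {K : Type*} [Field K] [Finite K] [CharP K p]

/-- The automorphisms of `S` extending the torus of the automizer of an essential `{b = l a}`. -/
theorem exists_torus_top (h2 : (2 : K) ≠ 0) (hS : IsPGroup p S) (hF : F.IsSaturated p)
    (e : S ≃* U K) {l : K} (hP : F.IsEssential p (pull e (U.grpL l))) (s : K) (hs : s ≠ 0) :
    ∃ σ ∈ autTop e F, (∀ x : U K, (σ x).a = s * x.a) ∧
      (∀ x : U K, (σ x).b = s⁻¹ * s⁻¹ * (x.b - l * x.a) + l * (s * x.a)) ∧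
      (∀ v : K, (σ ⟨0, 0, v, 0⟩).c = s⁻¹ * v) ∧ ∀ w : K, σ (U.dEl w) = U.dEl w := by
  have hX := isPGroup_coords hS e
  have hL := locBase_of_essential e hS hF hP
  set G := autU e F (U.grpL l) with hG
  obtain ⟨T, hT⟩ := hL.sylow
  let ψ : G →* MulAut (V2 K) := (Torus.ind l h2).comp G.subtype
  have hker : IsPGroup p ψ.ker := (FixedExactly.isPGroup_stabZ G (hX.to_subgroup _)
    ((Subgroup.center (U K)).subgroupOf (U.grpL l))).to_le
      fun a ha => Torus.ker_mem_stab l h2 a ha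
  have hshear : ∀ t : K, ∃ a : G, a ∈ (T : Subgroup G) ∧ IsShear (ψ a) t := by
    intro t
    have hg := Torus.mem_normalizer l h2 (U.bEl (-t))
    refine ⟨⟨_, hL.conj_mem _ hg⟩, ?_, ?_⟩
    · exact (hT _).2 ⟨U.bEl (-t), hg, rfl⟩
    · have h := Torus.ind_conj l h2 (U.bEl (-t))
      rw [show l * (U.bEl (-t)).a - (U.bEl (-t)).b = t by simp [U.bEl]] at h
      exact h
  have hψT : ∀ a ∈ (T : Subgroup G), ∃ t, IsShear (ψ a) t := by
    intro a ha
    obtain ⟨g, hg, hga⟩ := (hT a).1 ha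
    refine ⟨l * g.a - g.b, ?_⟩
    show IsShear (Torus.ind l h2 (a : MulAut (U.grpL l))) _
    rw [hga]
    exact Torus.ind_conj l h2 g
  let T' : Sylow p ψ.range := T.mapSurjective (f := ψ.rangeRestrict) ψ.rangeRestrict_surjective
  have hT' : ∀ b : ψ.range, b ∈ (T' : Subgroup ψ.range) ↔
      ∃ t, IsShear (b : MulAut (V2 K)) t := by
    intro b
    show b ∈ (T : Subgroup G).map ψ.rangeRestrict ↔ _
    constructor
    · rintro ⟨a, ha, rfl⟩
      exact hψT a ha
    · rintro ⟨t, ht⟩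
      obtain ⟨a, ha, hat⟩ := hshear t
      refine ⟨a, ha, Subtype.ext (MulEquiv.ext fun v => ?_)⟩
      obtain ⟨x, y, rfl⟩ := v2_surj v
      exact (hat x y).trans (ht x y).symm
  have hkerT : ψ.ker ≤ (T : Subgroup G) := normal_le_sylow hker T
  have hpre : ∀ a : G, ψ.rangeRestrict a ∈ (T' : Subgroup ψ.range) → a ∈ (T : Subgroup G) := by
    rintro a ⟨b, hb, hba⟩
    have h1 : b⁻¹ * a ∈ ψ.ker := by
      rw [MonoidHom.mem_ker, map_mul, map_inv, inv_mul_eq_one]
      exact congrArg Subtype.val hba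
    have h2' := mul_mem hb (hkerT h1)
    rwa [mul_inv_cancel_left] at h2'
  have hn : ¬ (T' : Subgroup ψ.range).Normal := by
    intro hN
    have hTn : (T : Subgroup G).Normal := ⟨fun a ha b => hpre _ (by
      rw [map_mul, map_mul, map_inv]
      exact hN.conj_mem _ ⟨a, ha, rfl⟩ _)⟩
    refine hL.proper (eq_top_iff.2 fun g _ => ?_)
    exact hL.radical _ hTn T.isPGroup' g (Torus.mem_normalizer l h2 g) (hL.conj_mem g _)
      ((hT _).2 ⟨g, _, rfl⟩)
  obtain ⟨φ, hφ⟩ := Spread.exists_sl2 ψ.range T' hT'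
    (fun t => by
      obtain ⟨a, -, ha⟩ := hshear t
      exact ⟨ψ a, ⟨a, rfl⟩, ha⟩) hn
  obtain ⟨_, ⟨α, rfl⟩, hα⟩ := hφ ⟨!![s, 0; 0, s⁻¹], by simp [Matrix.det_fin_two, hs]⟩
  have hα' : ∀ x y : K, ψ α (v2 x y) = v2 (s * x) (s⁻¹ * (y - φ x) + φ (s * x)) := by
    intro x y
    have h := hα x (y - φ x)
    simpa [v2] using h
  -- the normalizer condition
  have hαT : ∀ a ∈ (T : Subgroup G), α * a * α⁻¹ ∈ (T : Subgroup G) := by
    intro a ha
    obtain ⟨t, ht⟩ := hψT a ha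
    refine hpre _ ((hT' _).2 ⟨t * (s⁻¹ * s⁻¹), fun x y => ?_⟩)
    show ψ (α * a * α⁻¹) (v2 x y) = v2 x (y + t * (s⁻¹ * s⁻¹) * x)
    rw [map_mul, map_mul, map_inv, MulAut.mul_apply, MulAut.mul_apply]
    obtain ⟨x', y', hxy⟩ := v2_surj ((ψ α)⁻¹ (v2 x y))
    have h1 : ψ α (v2 x' y') = v2 x y := by rw [← hxy, MulAut.apply_inv_self]
    rw [hα', v2_inj] at h1
    rw [hxy, shear_apply ht, hα', v2_inj]
    refine ⟨h1.1, ?_⟩
    rw [← h1.2, ← h1.1]
    field_simp
    ring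
  obtain ⟨β, hβ, hβα⟩ := α.2
  -- extension to `S`
  have hPS := pull_le e (U.grpL l)
  haveI := finite_of_le hPS
  have hN : S ≤ normalizerIn S (pull e (U.grpL l)) := fun x hx =>
    ⟨hx, el_coord e hx ▸ (el_mem_normalizer e).2 (Torus.mem_normalizer l h2 _)⟩
  obtain ⟨f, hf, hfβ⟩ := exists_extend (receptive_of_fullyNormalized hS hF hP.2.1) hβ hPS hN
    (fun κ hκ => by
      obtain ⟨x, hx, hxκ⟩ := mem_autInducedBy_iff.1 hκ
      have hg : e ⟨x, hx⟩ ∈ Subgroup.normalizer (U.grpL l : Set (U K)) :=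
        Torus.mem_normalizer l h2 _
      have hκu : toU e (U.grpL l) κ = conjAut (U.grpL l) (e ⟨x, hx⟩) hg := by
        rw [← toU_conj e hg]
        congr 1
        refine MulEquiv.ext fun y => Subtype.ext ?_
        show _ = el e (e ⟨x, hx⟩) * (y : Ω) * (el e (e ⟨x, hx⟩))⁻¹
        rw [el_coord]
        exact hxκ y
      obtain ⟨g, hg', hge⟩ := (hT _).1 (hαT ⟨_, hL.conj_mem _ hg⟩ ((hT _).2 ⟨_, hg, rfl⟩))
      simp only [Subgroup.coe_mul, Subgroup.coe_inv, ← hκu, ← hβα, MulEquiv.coe_toMonoidHom] at hge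
      rw [← map_inv, ← map_mul, ← map_mul, ← toU_conj e hg'] at hge
      rw [(toU e (U.grpL l)).injective hge]
      exact mem_autInducedBy_iff.2 ⟨el e g, el_mem e g, fun y => rfl⟩)
  have hfi : img S f = S := eq_of_le_of_card_le hf.img_le hf.card_img.ge
  set σ₀ := hf.toAut hfi with hσ₀
  refine ⟨MulAut.congr e σ₀, ⟨σ₀, hf.toAut_mem hfi, rfl⟩, ?_⟩
  set σ := MulAut.congr e σ₀ with hσdef
  have hres : ∀ h : U.grpL l,
      σ (h : U K) = (((α : MulAut (U.grpL l)) h : U.grpL l) : U K) := by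
    intro h
    refine el_injective e ?_
    rw [hσdef, el_congr, hσ₀, IsMap.toAut_apply, hfβ _ ((el_mem_pull e).2 h.2),
      autFun_apply β ((el_mem_pull e).2 h.2), ← hβα, MulEquiv.coe_toMonoidHom, el_toU]
    rfl
  have hπ : ∀ h : U.grpL l, ψ α (v2 (h : U K).a ((h : U K).c - l * ((h : U K).a * (h : U K).a) / 2)) =
      v2 (σ (h : U K)).a ((σ (h : U K)).c - l * ((σ (h : U K)).a * (σ (h : U K)).a) / 2) := by
    intro h
    rw [hres]
    exact Torus.ind_proj l h2 (α : MulAut (U.grpL l)) h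
  have hLa : ∀ h : U.grpL l, (σ (h : U K)).a = s * (h : U K).a ∧
      (σ (h : U K)).b = l * (s * (h : U K).a) := by
    intro h
    have h1 := hπ h
    rw [hα', v2_inj] at h1
    refine ⟨h1.1.symm, ?_⟩
    have h3 : (σ (h : U K)).b = l * (σ (h : U K)).a := by rw [hres]; exact ((α : MulAut (U.grpL l)) h).2
    rw [h3, ← h1.1]
  have hc : ∀ v w : K, (σ ⟨0, 0, v, w⟩).a = 0 ∧ (σ ⟨0, 0, v, w⟩).b = 0 ∧
      (σ ⟨0, 0, v, w⟩).c = s⁻¹ * v := by
    intro v w
    have hm : (⟨0, 0, v, w⟩ : U K) ∈ U.grpL l := show (0 : K) = l * 0 by ring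
    have h1 := hπ ⟨_, hm⟩
    rw [hα', v2_inj] at h1
    obtain ⟨h1, h3⟩ := h1
    have h4 := (hLa ⟨_, hm⟩).2
    simp only [mul_zero, zero_mul, sub_zero, zero_div, map_zero, add_zero] at h1 h3 h4
    refine ⟨h1.symm, h4, ?_⟩
    rw [← h1] at h3
    simpa using h3.symm
  have hA : ∀ x : U K, x.a = 0 → (σ x).a = 0 ∧ (σ x).b = s⁻¹ * s⁻¹ * x.b := by
    intro x hx
    have hσa := (invariant_odd hS hF h2 σ).2 x hx
    refine ⟨hσa, ?_⟩
    set y : U K := ⟨1, l, 0, 0⟩ with hy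
    have hym : y ∈ U.grpL l := show l = l * 1 by ring
    obtain ⟨hya, hyb⟩ : (σ y).a = s * 1 ∧ (σ y).b = l * (s * 1) := hLa ⟨y, hym⟩
    rw [hy] at hya
    obtain ⟨v, w, hvw⟩ : ∃ v w, y * x * y⁻¹ * x⁻¹ = (⟨0, 0, v, w⟩ : U K) :=
      ⟨_, _, U.comm_eq y x⟩
    have hv : v = x.b := by
      have := congrArg U.c hvw
      rw [U.comm_eq] at this
      simp [hy, hx] at this
      exact this.symm
    have h5 := congrArg σ hvw
    rw [map_mul, map_mul, map_mul, map_inv, map_inv, U.comm_eq] at h5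
    have h6 := congrArg U.c h5
    rw [(hc v w).2.2, hv] at h6
    rw [hy] at h6
    simp [hya, hσa] at h6
    field_simp
    field_simp at h6
    linear_combination h6
  have hdec : ∀ x : U K, ∃ h : U.grpL l, ∃ z : U K, x = (h : U K) * z ∧ z.a = 0 ∧
      (h : U K).a = x.a ∧ z.b = x.b - l * x.a := fun x =>
    ⟨⟨⟨x.a, l * x.a, 0, 0⟩, rfl⟩, (⟨x.a, l * x.a, 0, 0⟩ : U K)⁻¹ * x,
      (mul_inv_cancel_left _ _).symm, by rw [U.inv_mul_eq]; exact sub_self _, rfl,
      by rw [U.inv_mul_eq]⟩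
  refine ⟨fun x => ?_, fun x => ?_, fun v => (hc v 0).2.2, fun w => ?_⟩
  · obtain ⟨h, z, rfl, hz, hha, hzb⟩ := hdec x
    rw [map_mul]
    show (σ (h : U K)).a + (σ z).a = s * ((h : U K).a + z.a)
    rw [(hLa h).1, (hA z hz).1, hz, add_zero, add_zero]
  · obtain ⟨h, z, rfl, hz, hha, hzb⟩ := hdec x
    rw [map_mul]
    show (σ (h : U K)).b + (σ z).b = _
    rw [(hLa h).2, (hA z hz).2, hzb, hha]
    ring
  · set y : U K := ⟨1, l, 0, 0⟩ with hy
    set c : U K := ⟨0, 0, w / 2, 0⟩ with hcdef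
    obtain ⟨hya, hyb⟩ := hLa ⟨y, show l = l * 1 by ring⟩
    obtain ⟨hca, hcb, hcc⟩ := hc (w / 2) 0
    have e1 : U.dEl w = y * c * y⁻¹ * c⁻¹ := by
      rw [U.comm_eq, hy, hcdef]
      refine U.ext rfl rfl ?_ ?_ <;> simp [U.dEl] <;> field_simp
    rw [e1, map_mul, map_mul, map_mul, map_inv, map_inv, U.comm_eq, U.comm_eq]
    replace hya : (σ y).a = s := hya.trans (mul_one s)
    replace hca : (σ c).a = 0 := hca
    replace hcb : (σ c).b = 0 := hcb
    replace hcc : (σ c).c = s⁻¹ * (w / 2) := hcc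
    refine U.ext rfl rfl ?_ ?_
    · show (σ y).a * (σ c).b - (σ c).a * (σ y).b = y.a * c.b - c.a * y.b
      rw [hca, hcb, hy, hcdef]; ring
    · show (σ y).a ^ 2 * (σ c).b + 2 * (σ y).a * (σ c).c -
          ((σ c).a ^ 2 * (σ y).b + 2 * (σ c).a * (σ y).c) =
        y.a ^ 2 * c.b + 2 * y.a * c.c - (c.a ^ 2 * y.b + 2 * c.a * y.c)
      rw [hya, hca, hcb, hcc, hy, hcdef]
      field_simp
      ring

end CfsgLib.Fusion.SpFour
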