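import Cfsg.Agent.Lib.Fusion.SpFour.Transport

/-!
First reductions: a non-central core gives a constrained system, and so does a single candidate.
-/

set_option autoImplicit false
set_option linter.style.haveILetI false
set_option linter.unusedSectionVars false
set_option linter.unusedVariables false

namespace CfsgLib.Fusion.SpFour

open Cfsg Cfsg.FusionSystem Subgroup

universe u

variable {Ω : Type u} [Group Ω] {S : Subgroup Ω} [Finite S] {p : ℕ} [Fact p.Prime]
  {F : FusionSystem S} {K : Type*} [Field K]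

theorem le_normalizer_centralizerIn {Q : Subgroup Ω}
    (hQ : S ≤ Subgroup.normalizer (Q : Set Ω)) :
    S ≤ Subgroup.normalizer (centralizerIn S Q : Set Ω) := by
  intro s hs
  haveI : Finite (centralizerIn S Q) := finite_of_le inf_le_left
  refine Subgroup.mem_normalizer_fintype fun a ha =>
    ⟨S.mul_mem (S.mul_mem hs ha.1) (S.inv_mem hs), fun q hq => ?_⟩
  have hq' : s⁻¹ * q * s ∈ Q := by
    have h := (hQ (S.inv_mem hs) q).1 hq
    rwa [inv_inv] at h
  have hc : s⁻¹ * q * s * a = a * (s⁻¹ * q * s) := ha.2 _ hq'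
  calc q * (s * a * s⁻¹) = s * (s⁻¹ * q * s * a) * s⁻¹ := by group
    _ = s * (a * (s⁻¹ * q * s)) * s⁻¹ := by rw [hc]
    _ = s * a * s⁻¹ * q := by group

theorem constrained_of_not_central (hS : IsPGroup p S) (hF : F.IsSaturated p) (e : S ≃* U K)
    (h : ¬ coords e F.core ≤ Subgroup.center (U K)) : F.IsConstrained p := by
  have hQn : F.IsNormal F.core := core_isNormal
  set Q := F.core with hQdef
  obtain ⟨w, hwQ, hwc⟩ := SetLike.not_le_iff_exists.1 h
  rw [mem_coords] at hwQ
  have hab : ∀ a ∈ centralizerIn S Q, ∀ b ∈ centralizerIn S Q, a * b = b * a := by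
    intro a ha b hb
    have h1 : e ⟨a, ha.1⟩ * w = w * e ⟨a, ha.1⟩ := el_injective e (by
      rw [el_mul, el_mul, el_coord]; exact (ha.2 _ hwQ).symm)
    have h2 : w * e ⟨b, hb.1⟩ = e ⟨b, hb.1⟩ * w := el_injective e (by
      rw [el_mul, el_mul, el_coord]; exact hb.2 _ hwQ)
    have h3 := congrArg (el e) (U.comm_trans hwc h1 h2)
    rwa [el_mul, el_mul, el_coord, el_coord] at h3
  have hQnS := StronglyClosed.le_normalizer (IsNormal.stronglyClosed hQn)
  set A := centralizerIn S Q with hA
  have hAS : A ≤ S := inf_le_left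
  have hSA : S ≤ Subgroup.normalizer (A : Set Ω) := le_normalizer_centralizerIn hQnS
  have hAn : F.IsNormal A := by
    refine isNormal_of_alperin hS hF hAS fun P hP => ?_
    have hPS : P ≤ S := hP.elim (fun e => e.le) fun e => e.1.1
    have hQP : Q ≤ P := by
      rcases hP with rfl | hP
      · exact hQn.1
      · exact IsNormal.le_centricRadical hS hQn hP.1 (essential_isRadical hS hF hP)
    have hinv : ∀ α ∈ F.autGroup P, ∀ y : P, (y : Ω) ∈ A → ((α y : P) : Ω) ∈ A := by
      intro α hα y hy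
      refine ⟨hPS (α y).2, fun q hq => ?_⟩
      have h1 := normal_inv hS hF hQn hQP hPS _ (inv_mem hα) ⟨q, hQP hq⟩ hq
      have h2 : (((α⁻¹ : MulAut P) ⟨q, hQP hq⟩ : P) : Ω) * y = y * (α⁻¹ : MulAut P) ⟨q, hQP hq⟩ :=
        hy.2 _ h1
      have h3 := congrArg α (Subtype.ext h2 : (α⁻¹ : MulAut P) ⟨q, hQP hq⟩ * y =
        y * (α⁻¹ : MulAut P) ⟨q, hQP hq⟩)
      rw [map_mul, map_mul, MulAut.apply_inv_self] at h3
      exact congrArg Subtype.val h3
    refine ⟨?_, hinv⟩
    rcases hP with rfl | hP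
    · exact hAS
    refine le_of_normalizer_inf_le hS hP.1.1 hAS (fun a ha => hSA (hP.1.1 ha)) fun a haA haP => ?_
    refine mem_of_central_step hS hP.1 (essential_isRadical hS hF hP) (D := P ⊓ A) inf_le_left
      (fun α hα x hx => ⟨(α x).2, hinv α hα x hx.2⟩) ⟨haA.1, haP⟩ (fun x hx => ?_) fun x hx => ?_
    · rw [hab a haA x hx.2, mul_inv_cancel_right]
    · refine ⟨P.mul_mem (P.inv_mem hx) ((haP x).1 hx), ?_⟩
      have h1 : x⁻¹ * a * x ∈ A := by
        have := (hSA (S.inv_mem (hP.1.1 hx)) a).1 haA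
        rwa [inv_inv] at this
      simpa [mul_assoc] using A.mul_mem h1 (A.inv_mem haA)
  refine constrained_of_centralizer_le hS hF hQn ?_
  exact le_sSup hAn

/-- A self-centralizing subgroup, invariant under the automizer of `S`, which is the only possible
essential subgroup, is normal. -/
theorem constrained_of_unique (hS : IsPGroup p S) (hF : F.IsSaturated p) {P : Subgroup Ω}
    (hP : P ≤ S) (hc : centralizerIn S P ≤ P)
    (hinv : ∀ α ∈ F.autGroup S, ∀ x : S, (x : Ω) ∈ P → ((α x : S) : Ω) ∈ P)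
    (huniq : ∀ E, F.IsEssential p E → E = P) : F.IsConstrained p := by
  refine constrained_of_centralizer_le hS hF (isNormal_of_alperin hS hF hP fun E hE => ?_) hc
  rcases hE with rfl | hE
  · exact ⟨hP, hinv⟩
  · obtain rfl := huniq E hE
    exact ⟨le_rfl, fun α _ x _ => (α x).2⟩

/-- A constrained system is realizable. -/
theorem not_constrained_of_exotic (hS : IsPGroup p S) (hex : F.IsExotic p)
    (hmodel : F.IsConstrained p → ∃ (G : Type u) (_ : Group G) (ι : S →* G), F.IsModel p G ι) :
    ¬ F.IsConstrained p := by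
  intro hcn
  obtain ⟨G, hG, ι, hfin, hr, hT, -⟩ := hmodel hcn
  exact hex.2 ⟨G, hG, hfin, ι, hr, hT⟩

end CfsgLib.Fusion.SpFour
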