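import Cfsg.Agent.Lib.Fusion.SpFour.SmallFourNormal
import Cfsg.Agent.Lib.Fusion.SpFour.Candidates
import Mathlib.FieldTheory.Finite.GaloisField

/-!
The fusion systems over four elements are realizable, given the two models.
-/

set_option autoImplicit false
set_option linter.style.haveILetI false
set_option linter.unusedSectionVars false
set_option linter.unusedVariables false

namespace CfsgLib.Fusion.SpFour.Four

open Cfsg Cfsg.FusionSystem

universe u

/-- The requirements on a model. -/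
def IsModelFor {K : Type*} [Field K] {G : Type} [Group G] (full : Bool) (κ : U K →* G)
    (Z : Subgroup (U K)) : Prop :=
  Function.Injective κ ∧ (∃ T : Sylow 2 G, (T : Subgroup G) = κ.range) ∧ Z ≠ ⊥ ∧
    (∀ z ∈ Z, z.a = 0 ∧ z.b = 0) ∧
    (∀ g : G, ∀ z ∈ Z, ∃ z2 ∈ Z, g * κ z * g⁻¹ = κ z2) ∧
    (∃ g : G, (∀ x ∈ U.grpA K, ∃ y ∈ U.grpA K, g * κ x * g⁻¹ = κ y) ∧
      ∃ x : U K, x.a = 0 ∧ x.b = 0 ∧ ∀ y : U K, y.a = 0 → y.b = 0 → g * κ x * g⁻¹ ≠ κ y) ∧
    (∃ g : G, (∀ x ∈ U.grpB K, ∃ y ∈ U.grpB K, g * κ x * g⁻¹ = κ y) ∧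
      ∃ x : U K, x.a = 0 ∧ x.b = 0 ∧ ∀ y : U K, y.a = 0 → y.b = 0 → g * κ x * g⁻¹ ≠ κ y) ∧
    (full = false → ∀ g : G, ∀ z ∈ Z, g * κ z = κ z * g) ∧
    (full = true → ∃ g : G, (∀ x : U K, ∃ y, g * κ x * g⁻¹ = κ y) ∧ ∃ z ∈ Z, g * κ z * g⁻¹ ≠ κ z)

variable {K : Type*} [Field K] [Finite K] [CharP K 2]
variable {Ω : Type u} [Group Ω] {S : Subgroup Ω} [Finite S]
variable {G : Type} [Group G]

/-- The automizers read in the model. -/
theorem autTop_iff_model {F : FusionSystem S} {ι : S →* G} {κ : U K →* G} (e : S ≃* U K)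
    (hr : F.IsRealizedBy ι) (hι : ∀ s, ι s = κ (e s)) {α : MulAut (U K)} :
    α ∈ autTop e F ↔ ∃ g : G, ∀ x, g * κ x * g⁻¹ = κ (α x) := by
  have hel : ∀ (x : U K) (h : el e x ∈ S), ι ⟨el e x, h⟩ = κ x := fun x h => by
    rw [hι, show (⟨el e x, h⟩ : S) = ⟨el e x, el_mem e x⟩ from rfl, coord_el]
  constructor
  · rintro ⟨β, hβ, rfl⟩
    obtain ⟨g, hg⟩ := (hr.2 S le_rfl _ fun x => (β x).2).1 ((autGroup_mem_iff le_rfl).1 hβ)
    refine ⟨g, fun x => ?_⟩
    have h := hg (e.symm x)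
    simp only [MonoidHom.coe_comp, Subgroup.coe_subtype, MulEquiv.coe_toMonoidHom,
      Function.comp_apply, hι, Subtype.coe_eta, MulEquiv.apply_symm_apply] at h
    exact h.symm
  · rintro ⟨g, hg⟩
    refine ⟨MulAut.congr e.symm α, (autGroup_mem_iff le_rfl).2 ((hr.2 S le_rfl _
      fun x => (MulAut.congr e.symm α x).2).2 ⟨g, fun x => ?_⟩), ?_⟩
    · simp only [MonoidHom.coe_comp, Subgroup.coe_subtype, MulEquiv.coe_toMonoidHom,
        Function.comp_apply, hι, Subtype.coe_eta]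
      show κ (e (e.symm (α (e x)))) = _
      rw [MulEquiv.apply_symm_apply, hg]
    · refine MulEquiv.ext fun x => ?_
      show e (e.symm (α (e (e.symm x)))) = α x
      rw [MulEquiv.apply_symm_apply, MulEquiv.apply_symm_apply]

theorem gh_iff_model {F : FusionSystem S} {ι : S →* G} {κ : U K →* G} (e : S ≃* U K)
    (hr : F.IsRealizedBy ι) (hι : ∀ s, ι s = κ (e s)) (D : Side K) {γ : MulAut (V3 K)} :
    γ ∈ GH e F D ↔ ∃ g : G, ∀ v, g * κ (D.i v : U K) * g⁻¹ = κ (D.i (γ v) : U K) := by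
  have hco : ∀ (v : V3 K) (h : ((pi e D v : pull e D.H) : Ω) ∈ S),
      ι ⟨(pi e D v : pull e D.H), h⟩ = κ (D.i v : U K) := fun v h => by
    rw [hι]
    congr 1
    exact coord_el e (D.i v : U K)
  have hP := pull_le e D.H
  constructor
  · rintro ⟨β, hβ, rfl⟩
    obtain ⟨g, hg⟩ := (hr.2 _ hP _ fun x => hP (β x).2).1 ((autGroup_mem_iff hP).1 hβ)
    refine ⟨g, fun v => ?_⟩
    rw [← hco v (hP (pi e D v).2), ← hg (pi e D v), ← hco _ (hP (pi e D _).2)]
    congr 1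
    refine Subtype.ext ?_
    show _ = ((pi e D ((pi e D).symm (β (pi e D v))) : pull e D.H) : Ω)
    rw [MulEquiv.apply_symm_apply]
    rfl
  · rintro ⟨g, hg⟩
    refine ⟨MulAut.congr (pi e D) γ, (autGroup_mem_iff hP).2 ((hr.2 _ hP _
      fun x => hP (MulAut.congr (pi e D) γ x).2).2 ⟨g, fun x => ?_⟩), ?_⟩
    · obtain ⟨v, rfl⟩ := (pi e D).surjective x
      rw [hco v (hP (pi e D v).2), hg, ← hco _ (hP (pi e D _).2)]
      congr 1
      refine Subtype.ext ?_
      show ((pi e D (γ ((pi e D).symm (pi e D v))) : pull e D.H) : Ω) = _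
      rw [MulEquiv.symm_apply_apply]
    · refine MulEquiv.ext fun v => ?_
      show (pi e D).symm (pi e D (γ ((pi e D).symm (pi e D v)))) = γ v
      rw [MulEquiv.symm_apply_apply, MulEquiv.symm_apply_apply]

theorem exists_model_aut {κ : U K →* G} (hκ : Function.Injective κ) (g : G)
    (h : ∀ x : U K, ∃ y, g * κ x * g⁻¹ = κ y) :
    ∃ α : MulAut (U K), ∀ x, g * κ x * g⁻¹ = κ (α x) := by
  choose f hf using h
  let φ : U K →* U K := MonoidHom.mk' f fun x y => hκ (by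
    rw [map_mul κ (f x), ← hf, ← hf, ← hf, map_mul]; group)
  have hφ : Function.Injective φ := fun x y e => hκ (by
    have h' := (hf x).trans ((congrArg κ e).trans (hf y).symm)
    exact mul_left_cancel (mul_right_cancel h'))
  exact ⟨MulEquiv.ofBijective φ ⟨hφ, Finite.surjective_of_injective hφ⟩, hf⟩

theorem exists_model_autV {κ : U K →* G} (hκ : Function.Injective κ) (g : G) (D : Side K)
    (h : ∀ x ∈ D.H, ∃ y ∈ D.H, g * κ x * g⁻¹ = κ y) :
    ∃ γ : MulAut (V3 K), ∀ v, g * κ (D.i v : U K) * g⁻¹ = κ (D.i (γ v) : U K) := by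
  have h' : ∀ v, ∃ w, g * κ (D.i v : U K) * g⁻¹ = κ (D.i w : U K) := fun v => by
    obtain ⟨y, hy, e⟩ := h _ (D.i v).2
    exact ⟨D.i.symm ⟨y, hy⟩, by rw [MulEquiv.apply_symm_apply]; exact e⟩
  choose f hf using h'
  have hinj : Function.Injective fun v => κ (D.i v : U K) :=
    fun v w e => D.i.injective (Subtype.ext (hκ e))
  let φ : V3 K →* V3 K := MonoidHom.mk' f fun x y => hinj (by
    show κ (D.i (f (x * y)) : U K) = κ (D.i (f x * f y) : U K)
    rw [map_mul D.i, Subgroup.coe_mul, map_mul κ, ← hf, ← hf, ← hf, map_mul, Subgroup.coe_mul,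
      map_mul κ]
    group)
  have hφ : Function.Injective φ := fun x y e => hinj (by
    have h' := (hf x).trans ((congrArg (fun v => κ (D.i v : U K)) e).trans (hf y).symm)
    exact mul_left_cancel (mul_right_cancel h'))
  exact ⟨MulEquiv.ofBijective φ ⟨hφ, Finite.surjective_of_injective hφ⟩, hf⟩

/-- A moved central point shows that the induced automorphisms are not normal. -/
theorem nn_of_moved {F : FusionSystem S} (e : S ≃* U K) (D : Side K) {γ : MulAut (V3 K)}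
    (hγ : γ ∈ GH e F D) {z : V3 K} (hz : c1 z = 0) (hz' : c1 (γ z) ≠ 0) : NN e F D.H := by
  intro hN
  obtain ⟨β, hβ, rfl⟩ := hγ
  have hP := pull_le e D.H
  set a := MulAut.congr (pi e D) (shAut D 1) with ha
  have haA : a ∈ autInducedBy S (pull e D.H) := by
    obtain ⟨u, hu⟩ := D.sOf_surj 1
    refine mem_autInducedBy_iff.2 ⟨el e u, el_mem e u, fun x => ?_⟩
    obtain ⟨v, rfl⟩ := (pi e D).surjective x
    show ((pi e D (shAut D 1 ((pi e D).symm (pi e D v))) : pull e D.H) : Ω) = _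
    rw [MulEquiv.symm_apply_apply, pi_coe, pi_coe, el_conj,
      conj_i_of_isSh (shAut_isSh D 1) hu]
  have h := hN.conj_mem ⟨a, autInducedBy_le_autGroup hP haA⟩ haA
    (⟨β, hβ⟩⁻¹ : F.autGroup (pull e D.H))
  rw [inv_inv] at h
  obtain ⟨s, hs, hsx⟩ := mem_autInducedBy_iff.1 h
  have h1 := hsx (pi e D z)
  change ((β.symm (a (β (pi e D z))) : pull e D.H) : Ω) = _ at h1
  have hfix : ((β.symm (a (β (pi e D z))) : pull e D.H) : Ω) = (pi e D z : pull e D.H) := by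
    rw [h1, pi_coe, ← el_coord e hs, el_conj]
    congr 1
    rw [← v3_eta z, hz, D.conj, D.law.zero_right, mul_zero, add_zero, add_zero]
  have h2 : a (β (pi e D z)) = β (pi e D z) := β.symm_apply_eq.1 (Subtype.ext hfix)
  refine hz' ?_
  show c1 ((pi e D).symm (β (pi e D z))) = 0
  set y := (pi e D).symm (β (pi e D z)) with hy
  have h3 : shAut D 1 y = y := (pi e D).injective (by
    have h4 : β (pi e D z) = pi e D y := ((pi e D).apply_symm_apply _).symm
    rw [h4] at h2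
    change pi e D (shAut D 1 ((pi e D).symm (pi e D y))) = pi e D y at h2
    rwa [MulEquiv.symm_apply_apply] at h2)
  rw [← v3_eta y, shAut_isSh D 1, one_mul] at h3
  exact add_eq_left.1 (v3_inj h3).2.2

theorem range_comp_equiv {A B C : Type*} [Group A] [Group B] [Group C] (f : B →* C) (e : A ≃* B) :
    (f.comp e.toMonoidHom).range = f.range := by
  ext c
  exact ⟨fun ⟨x, h⟩ => ⟨e x, h⟩, fun ⟨y, h⟩ => ⟨e.symm y, by simp [h]⟩⟩

variable [Finite G]

/-- The systems over four elements, given the models. -/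
theorem realizable_of_model (hq : Nat.card K = 4) (hS : IsPGroup 2 S) (F : FusionSystem S)
    (hF : F.IsSaturated 2) (e : S ≃* U K) (Q : Subgroup Ω) (hQ : F.IsNormal Q) (hQ1 : Q ≠ ⊥)
    (hcen : ∀ v : U K, el e v ∈ Q → v.a = 0 ∧ v.b = 0)
    (hA : NN e F (U.grpA K)) (hB : NN e F (U.grpB K))
    (full : Bool) (hfull : full = true ↔ FullQ F Q)
    (κ : U K →* G) (Z : Subgroup (U K)) (hm : IsModelFor full κ Z) : F.IsRealizable 2 := by
  haveI : Fact (Nat.Prime 2) := ⟨Nat.prime_two⟩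
  obtain ⟨hκ, ⟨T, hT⟩, hZ1, hZc, hZn, ⟨gA, hgA, xA, hxa, hxb, hxA⟩,
    ⟨gB, hgB, xB, hya, hyb, hxB⟩, hf0, hf1⟩ := hm
  have hrange : ∀ {κ₁ : U K →* G}, κ₁.range = κ.range → ∀ e' : S ≃* U K,
      ∃ T : Sylow 2 G, (T : Subgroup G) = (κ₁.comp e'.toMonoidHom).range := fun {κ₁} h e' => by
    refine ⟨T, ?_⟩
    rw [hT, range_comp_equiv, h]
  let ι : S →* G := κ.comp e.toMonoidHom
  have hι : Function.Injective ι := hκ.comp e.injective
  set F₁ := pullSys ι hι with hF₁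
  have hr₁ : F₁.IsRealizedBy ι := isRealizedBy_pullSys ι hι
  have hs₁ : F₁.IsSaturated 2 := isSaturated_of_realized hr₁ (hrange rfl e)
  set Q₁ := preimage ι (Z.map κ) with hQ₁
  have hQ₁n : F₁.IsNormal Q₁ := by
    refine preimage_isNormal hr₁ ⟨?_⟩ ?_
    · rintro _ ⟨z, hz, rfl⟩ g
      obtain ⟨z2, hz2, h⟩ := hZn g z hz
      exact ⟨z2, hz2, h.symm⟩
    · rintro _ ⟨z, -, rfl⟩
      exact ⟨e.symm z, congrArg κ (e.apply_symm_apply z)⟩
  have memQ₁ : ∀ s : S, (s : Ω) ∈ Q₁ ↔ e s ∈ Z := fun s => by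
    rw [hQ₁, mem_preimage]
    exact ⟨fun ⟨_, z, hz, h⟩ => hκ h ▸ hz, fun h => ⟨s.2, e s, h, rfl⟩⟩
  have hcen₁ : ∀ v : U K, el e v ∈ Q₁ → v.a = 0 ∧ v.b = 0 := fun v hv => by
    have h := (memQ₁ (e.symm v)).1 hv
    rw [e.apply_symm_apply] at h
    exact hZc v h
  have hQ₁1 : Q₁ ≠ ⊥ := fun hbot => by
    obtain ⟨⟨z, hz⟩, hz1⟩ := Subgroup.ne_bot_iff_exists_ne_one.1 hZ1
    have h : ((e.symm z : S) : Ω) ∈ Q₁ := (memQ₁ _).2 (by rwa [e.apply_symm_apply])
    rw [hbot, Subgroup.mem_bot] at h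
    have h' : e.symm z = 1 := Subtype.ext h
    exact hz1 (Subtype.ext (by simpa using h'))
  have hnn : ∀ (D : Side K) (g : G), (∀ x ∈ D.H, ∃ y ∈ D.H, g * κ x * g⁻¹ = κ y) →
      ∀ x : U K, x.a = 0 → x.b = 0 → (∀ y : U K, y.a = 0 → y.b = 0 → g * κ x * g⁻¹ ≠ κ y) →
      NN e F₁ D.H := by
    intro D g hg x ha hb hx
    obtain ⟨γ, hγ⟩ := exists_model_autV hκ g D hg
    refine nn_of_moved e D ((gh_iff_model e hr₁ (fun s => rfl) D).2 ⟨g, hγ⟩)
      (z := v3 0 x.c x.d) (c1_v3 _ _ _) fun h0 => ?_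
    refine hx (D.i (γ (v3 0 x.c x.d)) : U K) ?_ ?_ ?_
    · rw [← v3_eta (γ _), h0, D.center]
    · rw [← v3_eta (γ _), h0, D.center]
    · rw [← hγ, D.center, show (⟨0, 0, x.c, x.d⟩ : U K) = x by ext <;> simp [ha, hb]]
  have hA₁ : NN e F₁ (U.grpA K) := hnn (sideA hq) gA hgA xA hxa hxb hxA
  have hB₁ : NN e F₁ (U.grpB K) := hnn (sideB hq) gB hgB xB hya hyb hxB
  have hfull₁ : FullQ F₁ Q₁ ↔ FullQ F Q := by
    rw [← hfull]
    constructor
    · rintro ⟨α, hα, x, hx, hne⟩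
      by_contra hf
      obtain ⟨g, hg⟩ := (autTop_iff_model e hr₁ (κ := κ) (fun s => rfl)).1
        (show MulAut.congr e α ∈ autTop e F₁ from ⟨α, hα, rfl⟩)
      have h1 := hg (e x)
      rw [hf0 (Bool.eq_false_iff.2 hf) g _ ((memQ₁ x).1 hx), mul_inv_cancel_right] at h1
      have h2 := hκ h1
      change e x = e (α (e.symm (e x))) at h2
      rw [e.symm_apply_apply] at h2
      exact hne (e.injective h2).symm
    · intro hf
      obtain ⟨g, hg, z, hz, hne⟩ := hf1 hf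
      obtain ⟨α', hα'⟩ := exists_model_aut hκ g hg
      obtain ⟨α, hα, rfl⟩ := (autTop_iff_model e hr₁ (κ := κ) (fun s => rfl)).2 ⟨g, hα'⟩
      refine ⟨α, hα, e.symm z, (memQ₁ _).2 (by rwa [e.apply_symm_apply]), fun h => hne ?_⟩
      rw [hα']
      show κ (e (α (e.symm z))) = κ z
      rw [h, e.apply_symm_apply]
  obtain ⟨e₁, -, -, htop₁, hgA₁, hgB₁⟩ := normal_form e Q₁ hS hs₁ hQ₁n hQ₁1 hq hcen₁ hA₁ hB₁
  obtain ⟨e₂, -, -, htop₂, hgA₂, hgB₂⟩ := normal_form e Q hS hF hQ hQ1 hq hcen hA hB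
  rw [propext hfull₁] at htop₁ hgA₁ hgB₁
  let κ' : U K →* G := κ.comp (e₁.symm.trans e).toMonoidHom
  have hκ' : ∀ s, ι s = κ' (e₁ s) := fun s => by
    show κ (e s) = κ (e (e₁.symm (e₁ s)))
    rw [e₁.symm_apply_apply]
  let ι₂ : S →* G := κ'.comp e₂.toMonoidHom
  have hι₂ : Function.Injective ι₂ :=
    (hκ.comp (e₁.symm.trans e).injective).comp e₂.injective
  set F₂ := pullSys ι₂ hι₂ with hF₂
  have hr₂ : F₂.IsRealizedBy ι₂ := isRealizedBy_pullSys ι₂ hι₂
  have hT₂ : ∃ T : Sylow 2 G, (T : Subgroup G) = ι₂.range := hrange (κ₁ := κ') (range_comp_equiv _ _) e₂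
  have hs₂ : F₂.IsSaturated 2 := isSaturated_of_realized hr₂ hT₂
  have htop : autTop e₂ F = autTop e₂ F₂ := by
    ext α
    rw [htop₂, autTop_iff_model e₂ hr₂ (κ := κ') (fun s => rfl), ← htop₁,
      autTop_iff_model e₁ hr₁ (κ := κ') hκ']
  have hgh : ∀ D : Side K, GH e₁ F₁ D = GH e₂ F₂ D := fun D => by
    ext γ
    rw [gh_iff_model e₁ hr₁ (κ := κ') hκ', gh_iff_model e₂ hr₂ (κ := κ') (fun s => rfl)]
  have hSS : F.autGroup S = F₂.autGroup S :=
    Subgroup.map_injective (f := (MulAut.congr e₂).toMonoidHom) (MulAut.congr e₂).injective htop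
  have hAA : F.autGroup (pull e₂ (U.grpA K)) = F₂.autGroup (pull e₂ (U.grpA K)) :=
    Subgroup.map_injective (f := (MulAut.congr (pi e₂ (sideA hq)).symm).toMonoidHom)
      (MulAut.congr (pi e₂ (sideA hq)).symm).injective
      (hgA₂.trans (hgA₁.symm.trans (hgh (sideA hq))))
  have hBB : F.autGroup (pull e₂ (U.grpB K)) = F₂.autGroup (pull e₂ (U.grpB K)) :=
    Subgroup.map_injective (f := (MulAut.congr (pi e₂ (sideB hq)).symm).toMonoidHom)
      (MulAut.congr (pi e₂ (sideB hq)).symm).injective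
      (hgB₂.trans (hgB₁.symm.trans (hgh (sideB hq))))
  have hall : ∀ i : Fin 2, F.autGroup (![pull e₂ (U.grpA K), pull e₂ (U.grpB K)] i) =
      F₂.autGroup (![pull e₂ (U.grpA K), pull e₂ (U.grpB K)] i) :=
    Fin.forall_fin_two.2 ⟨hAA, hBB⟩
  have he : F = F₂ := fusionSystem_ext (hom_eq_of_le_le
    (le_of_candidates hS hF F₂ hSS.le (hasCandidates_two hS hF e₂) fun i _ _ => (hall i).le)
    (le_of_candidates hS hs₂ F hSS.ge (hasCandidates_two hS hs₂ e₂) fun i _ _ => (hall i).ge))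
  rw [he]
  exact isRealizable_of_model hr₂ hT₂

omit [Finite G]

/-- The field with four elements, given the models over `GaloisField 2 2`. -/
theorem realizable_of_models
    (hmod : Nat.card (GaloisField 2 2) = 4 → ∀ full : Bool,
      ∃ (G : Type) (_ : Group G) (_ : Finite G) (κ : U (GaloisField 2 2) →* G)
        (Z : Subgroup (U (GaloisField 2 2))), IsModelFor full κ Z)
    (hS : IsPGroup 2 S) (F : FusionSystem S) (hF : F.IsSaturated 2)
    (hq : Nat.card K = 4) (e : S ≃* U K)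
    (Q : Subgroup Ω) (hQ : F.IsNormal Q) (hQ1 : Q ≠ ⊥)
    (hQz : ∀ x (hx : x ∈ S), x ∈ Q → (e ⟨x, hx⟩).a = 0 ∧ (e ⟨x, hx⟩).b = 0)
    (hA : ¬ ((autInducedBy S (pull e (U.grpA K))).subgroupOf
      (F.autGroup (pull e (U.grpA K)))).Normal)
    (hB : ¬ ((autInducedBy S (pull e (U.grpB K))).subgroupOf
      (F.autGroup (pull e (U.grpB K)))).Normal) :
    F.IsRealizable 2 := by
  classical
  haveI : Fact (Nat.Prime 2) := ⟨Nat.prime_two⟩
  letI : Fintype K := Fintype.ofFinite K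
  letI : Fintype (GaloisField 2 2) := Fintype.ofFinite _
  have hq' : Nat.card (GaloisField 2 2) = 4 := by rw [GaloisField.card 2 2 two_ne_zero]; rfl
  let f : K ≃+* GaloisField 2 2 := FiniteField.ringEquivOfCardEq (by
    rw [← Nat.card_eq_fintype_card, ← Nat.card_eq_fintype_card, hq, hq'])
  let e' : S ≃* U (GaloisField 2 2) := e.trans (mapU f)
  have hA' : pull e' (U.grpA (GaloisField 2 2)) = pull e (U.grpA K) := by
    ext y
    rw [mem_pull, mem_pull]
    constructor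
    · rintro ⟨x, hx, rfl⟩
      exact ⟨(mapU f).symm x, (map_eq_zero_iff f.symm f.symm.injective).2 hx, rfl⟩
    · rintro ⟨x, hx, rfl⟩
      refine ⟨mapU f x, (map_eq_zero_iff f f.injective).2 hx, ?_⟩
      show el e ((mapU f).symm (mapU f x)) = el e x
      rw [MulEquiv.symm_apply_apply]
  have hB' : pull e' (U.grpB (GaloisField 2 2)) = pull e (U.grpB K) := by
    ext y
    rw [mem_pull, mem_pull]
    constructor
    · rintro ⟨x, hx, rfl⟩
      exact ⟨(mapU f).symm x, (map_eq_zero_iff f.symm f.symm.injective).2 hx, rfl⟩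
    · rintro ⟨x, hx, rfl⟩
      refine ⟨mapU f x, (map_eq_zero_iff f f.injective).2 hx, ?_⟩
      show el e ((mapU f).symm (mapU f x)) = el e x
      rw [MulEquiv.symm_apply_apply]
  have hcen : ∀ v, el e' v ∈ Q → v.a = 0 ∧ v.b = 0 := fun v hv => by
    have h := hQz _ (el_mem e ((mapU f).symm v)) hv
    rw [coord_el] at h
    exact ⟨(map_eq_zero_iff f.symm f.symm.injective).1 h.1,
      (map_eq_zero_iff f.symm f.symm.injective).1 h.2⟩
  have nA : NN e' F (U.grpA (GaloisField 2 2)) := by unfold NN; rw [hA']; exact hA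
  have nB : NN e' F (U.grpB (GaloisField 2 2)) := by unfold NN; rw [hB']; exact hB
  obtain ⟨G, iG, fG, κ, Z, hm⟩ := hmod hq' (decide (FullQ F Q))
  exact realizable_of_model hq' hS F hF e' Q hQ hQ1 hcen nA nB _ (decide_eq_true_iff) κ Z hm

end CfsgLib.Fusion.SpFour.Four
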