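import Cfsg.Agent.Lib.Fusion.SpFour.SmallFourCover
import Mathlib.GroupTheory.SemidirectProduct

/-!
The models `2².L₃(4)` and `2².L₃(4).3` over the Sylow subgroup `U K`, four elements.
-/

set_option autoImplicit false
set_option maxHeartbeats 1000000
set_option linter.unusedSectionVars false
set_option linter.style.haveILetI false

namespace CfsgLib.Fusion.SpFour.Four

open Matrix CfsgLib.Trans3.L34 CfsgLib.Invol.L34Parabolic CfsgLib.Invol.L34Covers
open scoped MatrixGroups commutatorElement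

variable {K : Type} [Field K]

/-- Conjugation by `diag(l, 1, 1)` on `SL₃`. -/
def diagConj (l : Kˣ) : SpecialLinearGroup (Fin 3) K →* SpecialLinearGroup (Fin 3) K where
  toFun M := ⟨Matrix.diagonal ![(l : K), 1, 1] * M.1 * Matrix.diagonal ![((l⁻¹ : Kˣ) : K), 1, 1], by
    rw [det_mul, det_mul, det_diagonal, det_diagonal, M.2, Fin.prod_univ_three, Fin.prod_univ_three]
    simp⟩
  map_one' := Subtype.ext (by
    show Matrix.diagonal _ * 1 * Matrix.diagonal _ = 1
    rw [mul_one, diagonal_mul_diagonal, ← diagonal_one]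
    congr 1
    funext i
    fin_cases i <;> simp)
  map_mul' M N := Subtype.ext (by
    show Matrix.diagonal _ * (M.1 * N.1) * Matrix.diagonal _ =
      Matrix.diagonal _ * M.1 * Matrix.diagonal _ * (Matrix.diagonal _ * N.1 * Matrix.diagonal _)
    have h : Matrix.diagonal ![((l⁻¹ : Kˣ) : K), 1, 1] * Matrix.diagonal ![(l : K), 1, 1] = 1 := by
      rw [diagonal_mul_diagonal, ← diagonal_one]
      congr 1
      funext i
      fin_cases i <;> simp
    simp only [mul_assoc]
    rw [← mul_assoc (Matrix.diagonal ![((l⁻¹ : Kˣ) : K), 1, 1]), h, one_mul])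

theorem diagConj_inv (l : Kˣ) (M : SpecialLinearGroup (Fin 3) K) :
    diagConj l⁻¹ (diagConj l M) = M := by
  refine Subtype.ext ?_
  show Matrix.diagonal ![((l⁻¹ : Kˣ) : K), 1, 1] * (Matrix.diagonal ![(l : K), 1, 1] * M.1 *
    Matrix.diagonal ![((l⁻¹ : Kˣ) : K), 1, 1]) * Matrix.diagonal ![(((l⁻¹)⁻¹ : Kˣ) : K), 1, 1] = M.1
  rw [inv_inv]
  have h : Matrix.diagonal ![((l⁻¹ : Kˣ) : K), 1, 1] * Matrix.diagonal ![(l : K), 1, 1] = 1 := by
    rw [diagonal_mul_diagonal, ← diagonal_one]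
    congr 1
    funext i
    fin_cases i <;> simp
  simp only [← mul_assoc]
  rw [h, one_mul, mul_assoc, h, mul_one]

/-- The diagonal automorphism. -/
def diagAut (l : Kˣ) :
    ProjectiveSpecialLinearGroup (Fin 3) K ≃* ProjectiveSpecialLinearGroup (Fin 3) K :=
  let e : SpecialLinearGroup (Fin 3) K ≃* SpecialLinearGroup (Fin 3) K :=
    { toFun := diagConj l
      invFun := diagConj l⁻¹
      left_inv := diagConj_inv l
      right_inv := fun M => by
        have h := diagConj_inv l⁻¹ M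
        rwa [inv_inv] at h
      map_mul' := map_mul (diagConj l) }
  QuotientGroup.congr _ _ e (by
    ext x
    rw [show (e : SpecialLinearGroup (Fin 3) K →* SpecialLinearGroup (Fin 3) K) = e.toMonoidHom from rfl,
      Subgroup.mem_map_equiv, Subgroup.mem_center_iff, Subgroup.mem_center_iff]
    refine ⟨fun h g => ?_, fun h g => e.injective ?_⟩
    · have := congrArg e (h (e.symm g))
      simpa using this
    · simpa using h (e g))

theorem diagAut_mk (l : Kˣ) (M : SpecialLinearGroup (Fin 3) K) :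
    diagAut l (QuotientGroup.mk M) = QuotientGroup.mk (diagConj l M) := rfl

theorem diagAut_pu (l : Kˣ) (a b c : K) :
    diagAut l (pu a b c) = pu ((l : K) * a) b ((l : K) * c) := by
  refine congrArg QuotientGroup.mk (Subtype.ext ?_)
  show Matrix.diagonal ![(l : K), 1, 1] * (uni K a b c).1 *
    Matrix.diagonal ![((l⁻¹ : Kˣ) : K), 1, 1] = _
  ext i j
  fin_cases i <;> fin_cases j <;> simp [uni, Matrix.mul_diagonal, Matrix.diagonal_mul]

theorem diagAut_cube (l : Kˣ) (hl : l ^ 3 = 1) (q : ProjectiveSpecialLinearGroup (Fin 3) K) :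
    diagAut l (diagAut l (diagAut l q)) = q := by
  obtain ⟨M, rfl⟩ := QuotientGroup.mk_surjective q
  rw [diagAut_mk, diagAut_mk, diagAut_mk]
  refine congrArg QuotientGroup.mk (Subtype.ext ?_)
  show Matrix.diagonal ![(l : K), 1, 1] * (Matrix.diagonal ![(l : K), 1, 1] *
    (Matrix.diagonal ![(l : K), 1, 1] * M.1 * Matrix.diagonal ![((l⁻¹ : Kˣ) : K), 1, 1]) *
    Matrix.diagonal ![((l⁻¹ : Kˣ) : K), 1, 1]) * Matrix.diagonal ![((l⁻¹ : Kˣ) : K), 1, 1] = M.1
  have h3 : (l : K) * ((l : K) * (l : K)) = 1 := by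
    have := congrArg (fun u : Kˣ => (u : K)) hl
    simpa [pow_succ, mul_assoc] using this
  have h3' : ((l⁻¹ : Kˣ) : K) * (((l⁻¹ : Kˣ) : K) * ((l⁻¹ : Kˣ) : K)) = 1 := by
    have := congrArg (fun u : Kˣ => ((u⁻¹ : Kˣ) : K)) hl
    simpa [pow_succ, mul_assoc] using this
  ext i j
  simp only [Matrix.mul_diagonal, Matrix.diagonal_mul]
  fin_cases i <;> fin_cases j <;> simp <;> grind

section lift

variable [Fintype K] {Γ : Type} [Group Γ] [Finite Γ]

theorem Cover.perfect_lift (C : Cover K Γ) (hK : Fintype.card K = 4)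
    (δ : ProjectiveSpecialLinearGroup (Fin 3) K ≃* ProjectiveSpecialLinearGroup (Fin 3) K) :
    ∃ D : MulAut Γ, ∀ x, C.p (D x) = δ (C.p x) := by
  classical
  let E : Subgroup (Γ × Γ) :=
    { carrier := {q | δ (C.p q.1) = C.p q.2}
      one_mem' := by simp
      mul_mem' := fun {u v} (hu : δ (C.p u.1) = C.p u.2) (hv : δ (C.p v.1) = C.p v.2) => by
        show δ (C.p (u.1 * v.1)) = C.p (u.2 * v.2)
        rw [map_mul, map_mul, map_mul, hu, hv]
      inv_mem' := fun {u} (hu : δ (C.p u.1) = C.p u.2) => by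
        show δ (C.p u.1⁻¹) = C.p u.2⁻¹
        rw [map_inv, map_inv, map_inv, hu] }
  let q : E →* ProjectiveSpecialLinearGroup (Fin 3) K :=
    C.p.comp ((MonoidHom.fst Γ Γ).comp E.subtype)
  have hq : Function.Surjective q := fun y => by
    obtain ⟨x, hx⟩ := C.surj y
    obtain ⟨x', hx'⟩ := C.surj (δ y)
    exact ⟨⟨(x, x'), by show δ (C.p x) = C.p x'; rw [hx, hx']⟩, hx⟩
  have hmem : ∀ u : E, u ∈ q.ker → (u : Γ × Γ).1 ∈ C.p.ker ∧ (u : Γ × Γ).2 ∈ C.p.ker := fun u hu => by
    have h2 : δ (C.p (u : Γ × Γ).1) = C.p (u : Γ × Γ).2 := u.2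
    have h1 : C.p (u : Γ × Γ).1 = 1 := hu
    exact ⟨h1, by rw [MonoidHom.mem_ker, ← h2, h1, map_one]⟩
  have hqc : q.ker ≤ Subgroup.center E := fun u hu => Subgroup.mem_center_iff.2 fun v => Subtype.ext
    (Prod.ext (C.central _ (hmem u hu).1 _).symm (C.central _ (hmem u hu).2 _).symm)
  set E' : Subgroup E := commutator E with hE'
  let q' : E' →* ProjectiveSpecialLinearGroup (Fin 3) K := q.comp E'.subtype
  have hq' : Function.Surjective q' := by
    intro y
    have h : commutator (ProjectiveSpecialLinearGroup (Fin 3) K) ≤ E'.map q := by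
      rw [hE', commutator_def, commutator_def, Subgroup.map_commutator,
        Subgroup.map_top_of_surjective q hq]
    obtain ⟨u, hu, huy⟩ := h ((commutator_psl_three (K := K)).symm ▸ Subgroup.mem_top y)
    exact ⟨⟨u, hu⟩, huy⟩
  have hperf : commutator E' = ⊤ := by
    have h := CfsgLib.StructB.commutator_le_map_of_central E'.subtype fun g => by
      obtain ⟨w, hw⟩ := hq' (q g)
      refine ⟨w, (w : E)⁻¹ * g, hqc ?_, (mul_inv_cancel_left _ _).symm⟩
      rw [MonoidHom.mem_ker, map_mul, map_inv, show q (w : E) = q g from hw, inv_mul_cancel]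
    refine eq_top_iff.2 fun x _ => ?_
    obtain ⟨y, hy, hyx⟩ := h x.2
    exact (Subtype.ext hyx : y = x) ▸ hy
  have hZ : ∀ z ∈ q'.ker, ∀ e : E', z * e = e * z := fun z hz e =>
    Subtype.ext (Subgroup.mem_center_iff.1 (hqc hz) e).symm
  have hZ2 : ∀ z ∈ q'.ker, z * z = 1 := fun z hz => by
    obtain ⟨h1, h2⟩ := hmem (z : E) hz
    exact Subtype.ext (Subtype.ext (Prod.ext (C.two _ h1) (C.two _ h2)))
  have hle := CfsgLib.Trans3.L34.kernel_card_le hK hperf q' hq' hZ hZ2
  let π₁ : E' →* Γ := (MonoidHom.fst Γ Γ).comp (E.subtype.comp E'.subtype)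
  let π₂ : E' →* Γ := (MonoidHom.snd Γ Γ).comp (E.subtype.comp E'.subtype)
  have hs : ∀ f : Γ × Γ →* Γ, Function.Surjective (f.comp E.subtype) →
      Function.Surjective (f.comp (E.subtype.comp E'.subtype)) := by
    intro f hf y
    have h : commutator Γ ≤ E'.map (f.comp E.subtype) := by
      rw [hE', commutator_def, commutator_def, Subgroup.map_commutator,
        Subgroup.map_top_of_surjective _ hf]
    obtain ⟨u, hu, huy⟩ := h (C.perfect ▸ Subgroup.mem_top y)
    exact ⟨⟨u, hu⟩, huy⟩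
  have h1 : Function.Surjective π₁ := hs (MonoidHom.fst Γ Γ) fun x => by
    obtain ⟨x', hx'⟩ := C.surj (δ (C.p x))
    exact ⟨⟨(x, x'), hx'.symm⟩, rfl⟩
  have h2 : Function.Surjective π₂ := hs (MonoidHom.snd Γ Γ) fun x => by
    obtain ⟨x', hx'⟩ := C.surj (δ.symm (C.p x))
    exact ⟨⟨(x', x), by show δ (C.p x') = C.p x; rw [hx', δ.apply_symm_apply]⟩, rfl⟩
  have hcard : Nat.card E' ≤ Nat.card Γ := by
    rw [← q'.ker.card_mul_index, ← C.p.ker.card_mul_index, Subgroup.index_eq_card,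
      Subgroup.index_eq_card, Nat.card_congr (QuotientGroup.quotientKerEquivOfSurjective q' hq').toEquiv,
      Nat.card_congr (QuotientGroup.quotientKerEquivOfSurjective C.p C.surj).toEquiv, C.card]
    exact Nat.mul_le_mul_right _ hle
  have hb : Function.Bijective π₁ := (Nat.bijective_iff_surjective_and_card π₁).2
    ⟨h1, le_antisymm hcard (Nat.card_le_card_of_surjective π₁ h1)⟩
  have hb2 : Function.Bijective π₂ := (Nat.bijective_iff_surjective_and_card π₂).2
    ⟨h2, le_antisymm hcard (Nat.card_le_card_of_surjective π₂ h2)⟩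
  refine ⟨(MulEquiv.ofBijective π₁ hb).symm.trans (MulEquiv.ofBijective π₂ hb2), fun x => ?_⟩
  obtain ⟨u, rfl⟩ := hb.2 x
  rw [MulEquiv.trans_apply, show π₁ u = MulEquiv.ofBijective π₁ hb u from rfl,
    MulEquiv.symm_apply_apply]
  exact ((u : E).2).symm

theorem eq_one_of_over (C : Cover K Γ) (D : MulAut Γ) (h : ∀ x, C.p (D x) = C.p x) : D = 1 := by
  have hk : ∀ x, x⁻¹ * D x ∈ C.p.ker := fun x => by
    rw [MonoidHom.mem_ker, map_mul, map_inv, h, inv_mul_cancel]
  let _ : CommGroup C.p.ker :=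
    { (inferInstance : Group C.p.ker) with
      mul_comm := fun a b => Subtype.ext (C.central a a.2 b) }
  let θ : Γ →* C.p.ker := MonoidHom.mk' (fun x => ⟨x⁻¹ * D x, hk x⟩) fun x y => Subtype.ext (by
    show (x * y)⁻¹ * D (x * y) = x⁻¹ * D x * (y⁻¹ * D y)
    rw [map_mul, C.central _ (hk x) (y⁻¹ * D y)]
    have h1 : D x = x * (x⁻¹ * D x) := (mul_inv_cancel_left _ _).symm
    rw [h1, mul_assoc x, C.central _ (hk x) (D y)]
    group)
  refine MulEquiv.ext fun x => ?_
  have hx : θ x = 1 :=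
    MonoidHom.mem_ker.1 (Abelianization.commutator_subset_ker θ (C.perfect ▸ Subgroup.mem_top x))
  exact (inv_mul_eq_one.1 (congrArg Subtype.val hx)).symm

end lift

/-- **The models.** -/
theorem exists_model {K : Type} [Field K] [Finite K] [CharP K 2] (hq : Nat.card K = 4) (full : Bool) :
    ∃ (G : Type) (_ : Group G) (_ : Finite G) (ι : U K →* G) (Z : Subgroup (U K)),
      Function.Injective ι ∧ (∃ T : Sylow 2 G, (T : Subgroup G) = ι.range) ∧ Z ≠ ⊥ ∧
      (∀ z ∈ Z, z.a = 0 ∧ z.b = 0) ∧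
      (∀ g : G, ∀ z ∈ Z, ∃ z2 ∈ Z, g * ι z * g⁻¹ = ι z2) ∧
      (∃ g : G, (∀ x ∈ U.grpA K, ∃ y ∈ U.grpA K, g * ι x * g⁻¹ = ι y) ∧
        ∃ x : U K, x.a = 0 ∧ x.b = 0 ∧ ∀ y : U K, y.a = 0 → y.b = 0 → g * ι x * g⁻¹ ≠ ι y) ∧
      (∃ g : G, (∀ x ∈ U.grpB K, ∃ y ∈ U.grpB K, g * ι x * g⁻¹ = ι y) ∧
        ∃ x : U K, x.a = 0 ∧ x.b = 0 ∧ ∀ y : U K, y.a = 0 → y.b = 0 → g * ι x * g⁻¹ ≠ ι y) ∧
      (full = false → ∀ g : G, ∀ z ∈ Z, g * ι z = ι z * g) ∧
      (full = true → ∃ g : G, (∀ x : U K, ∃ y, g * ι x * g⁻¹ = ι y) ∧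
        ∃ z ∈ Z, g * ι z * g⁻¹ ≠ ι z) := by
  classical
  letI : Fintype K := Fintype.ofFinite K
  have hK : Fintype.card K = 4 := by rw [← Nat.card_eq_fintype_card, hq]
  haveI : Fact (Nat.Prime 2) := ⟨Nat.prime_two⟩
  obtain ⟨Γ, _, _, ⟨C⟩⟩ := exists_cover (K := K) hK
  obtain ⟨φ, hφi, hφr, hpφ⟩ := C.exists_sylow_iso hK
  obtain ⟨hchar, w, hw0, hw1, -⟩ := f4_facts hK
  -- the kernel
  let Z : Subgroup (U K) := C.p.ker.comap φ
  have hZc : ∀ z ∈ Z, z.a = 0 ∧ z.b = 0 ∧ z.c = 0 := fun z hz => by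
    have h : C.p (φ z) = pu 0 0 0 := by rw [pu_zero]; exact hz
    rw [hpφ] at h
    exact pu_inj h
  have hpu : ∀ x : U K, ∀ {a b c : K}, C.p (φ x) = pu a b c → x.a = a ∧ x.b = b ∧ x.c = c :=
    fun x {a b c} h => pu_inj ((hpφ x).symm.trans h)
  have hmemT : ∀ {t : Γ}, C.p t ∈ uT → ∃ x : U K, φ x = t := fun {t} ht => by
    have : t ∈ φ.range := hφr ▸ ht
    exact this
  have hker : ∀ {t : Γ}, t ∈ C.p.ker → ∃ z ∈ Z, φ z = t := fun {t} ht => by
    obtain ⟨x, rfl⟩ := hmemT (t := t) (by rw [MonoidHom.mem_ker.1 ht]; exact one_mem _)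
    exact ⟨x, ht, rfl⟩
  have hZne : Z ≠ ⊥ := by
    intro h
    have hsub : C.p.ker = ⊥ := by
      refine eq_bot_iff.2 fun t ht => ?_
      obtain ⟨z, hz, rfl⟩ := hker ht
      rw [h, Subgroup.mem_bot] at hz
      rw [hz, map_one]
      exact one_mem _
    have := C.card
    rw [hsub, Subgroup.card_bot] at this
    omega
  -- the elements moving the centre
  let M : SpecialLinearGroup (Fin 2) K := ⟨!![0, 1; 1, 0], by
    rw [det_fin_two_of]
    linear_combination -hchar 1⟩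
  obtain ⟨gA, hgA⟩ := C.surj (levi M)
  obtain ⟨gB, hgB⟩ := C.surj (graph (levi M))
  have hswap : levi M * pu 0 0 1 * (levi M)⁻¹ = pu 0 1 0 := by
    refine conj_of_mul ?_
    change (!![(0 : K), 1, 0; 1, 0, 0; 0, 0, 1] : Matrix (Fin 3) (Fin 3) K) * _ =
      _ * (!![(0 : K), 1, 0; 1, 0, 0; 0, 0, 1] : Matrix (Fin 3) (Fin 3) K)
    ext i j
    fin_cases i <;> fin_cases j <;> simp [uni, Matrix.mul_apply, Fin.sum_univ_three]
  have hgraph : graph (levi M) * pu 0 0 1 * (graph (levi M))⁻¹ = pu 1 0 0 := by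
    have h1 : (pu 0 0 1 : ProjectiveSpecialLinearGroup (Fin 3) K) = graph (pu 0 0 1) := by
      rw [graph_pu]
      congr 1
      · simp
      · simp
      · linear_combination hchar 1
    rw [h1, ← map_mul, ← map_inv, ← map_mul, hswap, graph_pu]
    congr 1
    · linear_combination -hchar 1
    · simp
    · ring
  have hnA : ∀ x ∈ U.grpA K, ∃ y ∈ U.grpA K, gA * φ x * gA⁻¹ = φ y := fun x hx => by
    have hc : C.p (gA * φ x * gA⁻¹) ∈ colT := by
      rw [map_mul, map_mul, map_inv, hgA]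
      exact (Subgroup.mem_normalizer_iff.1 (levi_normalizes M) _).1
        ⟨x.b, x.c, by rw [hpφ, show x.a = 0 from hx]⟩
    obtain ⟨b, c, h⟩ := hc
    obtain ⟨y, hy⟩ := hmemT (t := gA * φ x * gA⁻¹) ⟨0, b, c, h⟩
    rw [← hy] at h
    exact ⟨y, (hpu y h).1, hy.symm⟩
  have hnB : ∀ x ∈ U.grpB K, ∃ y ∈ U.grpB K, gB * φ x * gB⁻¹ = φ y := fun x hx => by
    have hc : C.p (gB * φ x * gB⁻¹) ∈ rowT := by
      rw [map_mul, map_mul, map_inv, hgB]
      have h0 : C.p (φ x) ∈ (colT : Subgroup (ProjectiveSpecialLinearGroup (Fin 3) K)).map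
          graph.toMonoidHom := by
        rw [map_graph_colT]
        exact ⟨x.a, x.c, by rw [hpφ, show x.b = 0 from hx]⟩
      obtain ⟨v, hv, hvx⟩ := h0
      rw [← map_graph_colT, ← hvx]
      refine ⟨levi M * v * (levi M)⁻¹, (Subgroup.mem_normalizer_iff.1 (levi_normalizes M) _).1 hv, ?_⟩
      show graph _ = _
      rw [map_mul, map_mul, map_inv]
      rfl
    obtain ⟨a, c, h⟩ := hc
    obtain ⟨y, hy⟩ := hmemT (t := gB * φ x * gB⁻¹) ⟨a, 0, c, h⟩
    rw [← hy] at h
    exact ⟨y, (hpu y h).2.1, hy.symm⟩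
  let x₁ : U K := ⟨0, 0, 1, 0⟩
  have hmA : ∀ y : U K, y.a = 0 → y.b = 0 → gA * φ x₁ * gA⁻¹ ≠ φ y := fun y _ hb h => by
    have h' := congrArg C.p h
    rw [map_mul, map_mul, map_inv, hgA, hpφ x₁, hswap] at h'
    exact one_ne_zero ((hpu y h'.symm).2.1.symm.trans hb)
  have hmB : ∀ y : U K, y.a = 0 → y.b = 0 → gB * φ x₁ * gB⁻¹ ≠ φ y := fun y ha _ h => by
    have h' := congrArg C.p h
    rw [map_mul, map_mul, map_inv, hgB, hpφ x₁, hgraph] at h'
    exact one_ne_zero ((hpu y h'.symm).1.symm.trans ha)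
  have hodd : ¬ 2 ∣ φ.range.index := by
    rw [hφr, Subgroup.index_comap_of_surjective _ C.surj]
    exact (Nat.odd_iff.1 (odd_index_uT hK)) |> fun h => by omega
  have hpg : IsPGroup 2 φ.range := by
    rw [hφr]
    refine fun t => ⟨2, Subtype.ext ?_⟩
    obtain ⟨x, hx⟩ := hmemT (t := (t : Γ)) t.2
    show (t : Γ) ^ (2 ^ 2) = 1
    rw [← hx, ← map_pow, show x ^ (2 ^ 2) = (x * x) * (x * x) by simp [pow_succ, mul_assoc]]
    have h2 : (2 : K) = 0 := CharTwo.two_eq_zero
    rw [show x * x * (x * x) = 1 by ext <;> simp [U.mul_def, U.one_def] <;> grind, map_one]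
  cases full with
  | false =>
    refine ⟨Γ, inferInstance, inferInstance, φ, Z, hφi, ⟨hpg.toSylow hodd, rfl⟩, hZne,
      fun z hz => ⟨(hZc z hz).1, (hZc z hz).2.1⟩, fun g z hz => ⟨z, hz, ?_⟩,
      ⟨gA, hnA, x₁, rfl, rfl, hmA⟩, ⟨gB, hnB, x₁, rfl, rfl, hmB⟩,
      fun _ g z hz => (C.central _ hz g).symm, fun h => absurd h Bool.false_ne_true⟩
    rw [← C.central _ hz g, mul_inv_cancel_right]
  | true =>
    let l : Kˣ := Units.mk0 w hw0
    have hl : l ^ 3 = 1 := Units.ext (by simpa [l] using cube_eq_one hK hw0)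
    obtain ⟨D, hD⟩ := C.perfect_lift hK (diagAut l)
    have hD3 : D ^ 3 = 1 := eq_one_of_over C _ fun x => by
      show C.p (D (D (D x))) = C.p x
      rw [hD, hD, hD, diagAut_cube l hl]
    let L : Subgroup (MulAut Γ) := Subgroup.zpowers D
    haveI : Finite (MulAut Γ) := Finite.of_injective _ DFunLike.coe_injective
    let G := SemidirectProduct Γ L L.subtype
    haveI : Finite G := Finite.of_equiv _ (SemidirectProduct.equivProd (φ := L.subtype)).symm
    let j : Γ →* G := SemidirectProduct.inl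
    have hj : Function.Injective j := SemidirectProduct.inl_injective
    have hL : Nat.card L ∣ 3 := by
      rw [Nat.card_zpowers]
      exact orderOf_dvd_of_pow_eq_one hD3
    have hrange : (j.comp φ).range = φ.range.map j := MonoidHom.range_comp j φ
    have hT : ¬ 2 ∣ (j.comp φ).range.index := by
      rw [hrange, Subgroup.index_map, (MonoidHom.ker_eq_bot_iff j).2 hj, sup_bot_eq]
      intro h
      have hidx : j.range.index = Nat.card L := by
        have h1 := j.range.card_mul_index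
        rw [← Nat.card_congr (MonoidHom.ofInjective hj).toEquiv,
          Nat.card_congr (SemidirectProduct.equivProd (φ := L.subtype)), Nat.card_prod] at h1
        exact Nat.eq_of_mul_eq_mul_left Nat.card_pos h1
      rw [hidx] at h
      rcases Nat.prime_two.dvd_mul.1 h with h | h
      · exact hodd h
      · exact absurd (h.trans hL) (by decide)
    have hTp : IsPGroup 2 (j.comp φ).range := by
      rw [hrange]
      exact hpg.map j
    have hDT : ∀ x : U K, ∃ y, D (φ x) = φ y := fun x => by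
      obtain ⟨y, hy⟩ := hmemT (t := D (φ x)) (by
        rw [hD, hpφ, diagAut_pu]
        exact ⟨_, _, _, rfl⟩)
      exact ⟨y, hy.symm⟩
    have hinr : ∀ x : Γ, (SemidirectProduct.inr ⟨D, Subgroup.mem_zpowers D⟩ : G) * j x *
        (SemidirectProduct.inr ⟨D, Subgroup.mem_zpowers D⟩ : G)⁻¹ = j (D x) := fun x => by
      rw [← map_inv]
      exact (SemidirectProduct.inl_aut (φ := L.subtype) ⟨D, Subgroup.mem_zpowers D⟩ x).symm
    have hconjker : ∀ (g : G) (z : U K), z ∈ Z → ∃ z2 ∈ Z, g * j (φ z) * g⁻¹ = j (φ z2) := by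
      intro g z hz
      have hp1 : ∀ (n : ℕ) (t : Γ), t ∈ C.p.ker → (D ^ n) t ∈ C.p.ker := by
        intro n
        induction n with
        | zero => exact fun t ht => by simpa using ht
        | succ n ih =>
          intro t ht
          rw [pow_succ, MulAut.mul_apply]
          refine ih _ ?_
          rw [MonoidHom.mem_ker, hD, MonoidHom.mem_ker.1 ht, map_one]
      obtain ⟨n, hn⟩ := mem_powers_iff_mem_zpowers.2 g.right.2
      have hn' : D ^ n = (g.right : MulAut Γ) := hn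
      have hfk : (g.right : MulAut Γ) (φ z) ∈ C.p.ker := hn' ▸ hp1 n _ hz
      obtain ⟨z2, hz2, he⟩ := hker hfk
      refine ⟨z2, hz2, ?_⟩
      rw [he]
      have h1 : (SemidirectProduct.inr g.right : G) * j (φ z) * (SemidirectProduct.inr g.right : G)⁻¹ =
          j ((g.right : MulAut Γ) (φ z)) := by
        rw [← map_inv]
        exact (SemidirectProduct.inl_aut (φ := L.subtype) g.right (φ z)).symm
      calc g * j (φ z) * g⁻¹
          = (j g.left * SemidirectProduct.inr g.right) * j (φ z) *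
              (j g.left * SemidirectProduct.inr g.right)⁻¹ := by
            rw [SemidirectProduct.inl_left_mul_inr_right]
        _ = j g.left * ((SemidirectProduct.inr g.right : G) * j (φ z) *
              (SemidirectProduct.inr g.right : G)⁻¹) * (j g.left)⁻¹ := by
            simp only [_root_.mul_inv_rev, mul_assoc]
        _ = j ((g.right : MulAut Γ) (φ z)) := by
            rw [h1, ← map_inv, ← map_mul, ← map_mul, ← C.central _ hfk, mul_inv_cancel_right]
    refine ⟨G, inferInstance, inferInstance, j.comp φ, Z, hj.comp hφi, ⟨hTp.toSylow hT, rfl⟩, hZne,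
      fun z hz => ⟨(hZc z hz).1, (hZc z hz).2.1⟩, hconjker,
      ⟨j gA, fun x hx => ?_, x₁, rfl, rfl, fun y ha hb h => ?_⟩,
      ⟨j gB, fun x hx => ?_, x₁, rfl, rfl, fun y ha hb h => ?_⟩,
      fun h => absurd h (by decide), fun _ => ⟨SemidirectProduct.inr ⟨D, Subgroup.mem_zpowers D⟩,
        fun x => ?_, ?_⟩⟩
    · obtain ⟨y, hy, he⟩ := hnA x hx
      exact ⟨y, hy, by simp only [MonoidHom.comp_apply, ← map_inv, ← map_mul, he]⟩
    · exact hmA y ha hb (hj (by simpa only [MonoidHom.comp_apply, ← map_inv, ← map_mul] using h))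
    · obtain ⟨y, hy, he⟩ := hnB x hx
      exact ⟨y, hy, by simp only [MonoidHom.comp_apply, ← map_inv, ← map_mul, he]⟩
    · exact hmB y ha hb (hj (by simpa only [MonoidHom.comp_apply, ← map_inv, ← map_mul] using h))
    · obtain ⟨y, hy⟩ := hDT x
      exact ⟨y, by rw [MonoidHom.comp_apply, hinr, hy]; rfl⟩
    · -- a central element which is moved
      let a : K → U K := fun t => ⟨t, 0, 0, 0⟩
      let b : K → U K := fun t => ⟨0, t, 0, 0⟩
      have hDa : ∀ t, ∃ k ∈ C.p.ker, D (φ (a t)) = k * φ (a ((l : K) * t)) := fun t => by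
        refine ⟨D (φ (a t)) * (φ (a ((l : K) * t)))⁻¹, ?_, (inv_mul_cancel_right _ _).symm⟩
        rw [MonoidHom.mem_ker, map_mul, map_inv, hD, hpφ, hpφ, diagAut_pu]
        show pu ((l : K) * t) 0 ((l : K) * 0) * (pu ((l : K) * t) 0 0)⁻¹ = 1
        rw [mul_zero, mul_inv_cancel]
      have hDb : ∀ t, ∃ k ∈ C.p.ker, D (φ (b t)) = k * φ (b t) := fun t => by
        refine ⟨D (φ (b t)) * (φ (b t))⁻¹, ?_, (inv_mul_cancel_right _ _).symm⟩
        rw [MonoidHom.mem_ker, map_mul, map_inv, hD, hpφ, diagAut_pu]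
        show pu ((l : K) * 0) t ((l : K) * 0) * (pu 0 t 0)⁻¹ = 1
        rw [mul_zero, mul_inv_cancel]
      have hDc : ∀ s t, D (φ (a s * b t * (a s)⁻¹ * (b t)⁻¹)) =
          φ (a ((l : K) * s) * b t * (a ((l : K) * s))⁻¹ * (b t)⁻¹) := fun s t => by
        obtain ⟨k, hk, h1⟩ := hDa s
        obtain ⟨k', hk', h2⟩ := hDb t
        simp only [map_mul, map_inv, h1, h2]
        generalize φ (a ((l : K) * s)) = A
        generalize φ (b t) = B
        have hc : ∀ g, k * g = g * k := C.central k hk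
        have hc' : ∀ g, k' * g = g * k' := C.central k' hk'
        rw [_root_.mul_inv_rev, _root_.mul_inv_rev]
        calc k * A * (k' * B) * (A⁻¹ * k⁻¹) * (B⁻¹ * k'⁻¹)
            = k * (A * k') * B * A⁻¹ * k⁻¹ * B⁻¹ * k'⁻¹ := by group
          _ = k * (k' * A) * B * A⁻¹ * k⁻¹ * B⁻¹ * k'⁻¹ := by rw [hc' A]
          _ = (k * k') * (A * B * A⁻¹) * k⁻¹ * B⁻¹ * k'⁻¹ := by group
          _ = k' * (k * (A * B * A⁻¹) * k⁻¹) * B⁻¹ * k'⁻¹ := by rw [hc k']; group
          _ = k' * (A * B * A⁻¹ * B⁻¹) * k'⁻¹ := by rw [hc (A * B * A⁻¹), mul_inv_cancel_right]; group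
          _ = A * B * A⁻¹ * B⁻¹ := by rw [hc', mul_inv_cancel_right]
      have h2 : (2 : K) = 0 := CharTwo.two_eq_zero
      have hcomm : ∀ s t, a s * b t * (a s)⁻¹ * (b t)⁻¹ = (⟨0, 0, s * t, s ^ 2 * t⟩ : U K) := fun s t => by
        ext <;> simp [a, b, U.mul_def, U.inv_def] <;> grind
      have hw3 : w * w + w + 1 = 0 := by
        have h := cube_eq_one hK hw0
        have h' : (w - 1) * (w * w + w + 1) = 0 := by linear_combination h
        exact (mul_eq_zero.1 h').resolve_left (sub_ne_zero.2 hw1)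
      let z₀ : U K := ⟨0, 0, 0, 1⟩
      have hz₀e : z₀ = (⟨0, 0, 1 * w, (1 : K) ^ 2 * w⟩ : U K) * ⟨0, 0, w * 1, w ^ 2 * 1⟩ := by
        ext <;> simp [z₀, U.mul_def] <;> grind
      have hz₀ : z₀ ∈ Z := by
        show C.p (φ z₀) = 1
        rw [hpφ]
        exact pu_zero
      refine ⟨z₀, hz₀, fun h => ?_⟩
      rw [MonoidHom.comp_apply, hinr] at h
      have hD0 : D (φ z₀) = φ z₀ := hj h
      have hval : D (φ z₀) = φ ⟨0, 0, 0, w * w⟩ := by
        rw [hz₀e, map_mul, map_mul, ← hcomm, ← hcomm w 1, hDc, hDc, hcomm, hcomm, ← map_mul]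
        congr 1
        ext <;> simp [U.mul_def, l] <;> grind
      rw [hval] at hD0
      have hd : w * w = 1 := congrArg U.d (hφi hD0)
      exact hw0 (by linear_combination hw3 - hd - hchar 1)

end CfsgLib.Fusion.SpFour.Four
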