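import Cfsg.Agent.Lib.Fusion.SpFour.SmallTwo
import Cfsg.Agent.Lib.Fusion.SpFour.SmallFourMain
import Cfsg.Agent.Lib.Fusion.SpFour.SmallFourModel

/-!
The two small fields.
-/

set_option autoImplicit false
set_option linter.unusedVariables false

namespace CfsgLib.Fusion.SpFour

open Cfsg Cfsg.FusionSystem

universe u

variable {K : Type*} [Field K] [Finite K]

/-- Saturated systems on `U K`, `|K| ≤ 4` even, with a central normal subgroup and both abelian
maximal subgroups essential are realizable. -/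
theorem Small.realizable {Ω : Type u} [Group Ω] {S : Subgroup Ω} [Finite S] [CharP K 2]
    (hS : IsPGroup 2 S) (F : FusionSystem S) (hF : F.IsSaturated 2)
    (hq : Nat.card K = 2 ∨ Nat.card K = 4) (e : S ≃* U K)
    (hcand : HasCandidates F 2 ![pull e (U.grpA K), pull e (U.grpB K)])
    (Q : Subgroup Ω) (hQ : F.IsNormal Q) (hQ1 : Q ≠ ⊥)
    (hQz : ∀ x (hx : x ∈ S), x ∈ Q → (e ⟨x, hx⟩).a = 0 ∧ (e ⟨x, hx⟩).b = 0)
    (hA : ¬ ((autInducedBy S (pull e (U.grpA K))).subgroupOf (F.autGroup (pull e (U.grpA K)))).Normal)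
    (hB : ¬ ((autInducedBy S (pull e (U.grpB K))).subgroupOf (F.autGroup (pull e (U.grpB K)))).Normal) :
    F.IsRealizable 2 := by
  rcases hq with hq | hq
  · exact SmallTwo.realizable hS F hF hq e hcand Q hQ hQ1 hQz hA hB
  · exact Four.realizable_of_models (fun h full => Four.exists_model h full) hS F hF hq e Q hQ hQ1
      hQz hA hB

end CfsgLib.Fusion.SpFour
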