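import Cfsg.Agent.Lib.Fusion.SpFour.TwoCore

/-!
Characteristic two: the automizer of `bcd`. Only the `c` axis can carry a normal subgroup for more
than four elements, as a torus element fixing the `d` axis forces cube roots of unity.
-/

set_option autoImplicit false
set_option linter.unusedSectionVars false

namespace CfsgLib.Fusion.SpFour

variable {K : Type*} [Field K]

/-- The displacement by `a_t`. -/
def trA (t x : K) : K × K := (t * x, t ^ 2 * x)

theorem isTr_trA [CharP K 2] (g : MulAut (V3 K)) (t : K) : IsTr trA g t ↔ IsActA g t := by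
  refine forall_congr' fun x => forall_congr' fun y => forall_congr' fun z => ?_
  simp [trA, (CharTwo.two_eq_zero : (2 : K) = 0)]

theorem twoData_A [CharP K 2] {G : Subgroup (MulAut (V3 K))} {T : Sylow 2 G}
    (hT : ∀ g : G, g ∈ (T : Subgroup G) ↔ ∃ t, IsActA (g : MulAut (V3 K)) t)
    (hTall : ∀ t : K, ∃ g ∈ G, IsActA g t) : TwoData trA G T where
  mem g := by simp only [isTr_trA]; exact hT g
  all t := by simpa only [isTr_trA] using hTall t
  zero t := by simp [trA]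
  triv x := by simp [trA]
  ne t x ht hx := by simp [trA, ht, hx]
  uniq t x t' x' ht hx h := by
    simp only [trA, Prod.ext_iff] at h
    refine mul_left_cancel₀ (mul_ne_zero ht hx) ?_
    linear_combination t' * h.1 - h.2
  onto y z hy hz := ⟨z / y, y ^ 2 / z, by
    simp only [trA, Prod.ext_iff]
    constructor <;> field_simp⟩

variable [Finite K]

theorem TwoA.fixed [CharP K 2] (G : Subgroup (MulAut (V3 K))) (T : Sylow 2 G)
    (hT : ∀ g : G, g ∈ (T : Subgroup G) ↔ ∃ t, IsActA (g : MulAut (V3 K)) t)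
    (hTall : ∀ t : K, ∃ g ∈ G, IsActA g t)
    (C : Subgroup (V3 K)) (hC : C ≠ ⊥) (hCz : ∀ x ∈ C, c1 x = 0)
    (hinv : ∀ g ∈ G, ∀ x ∈ C, g x ∈ C) (hn : ¬ (T : Subgroup G).Normal) (hq : 2 < Nat.card K) :
    ((∀ x ∈ C, c3 x = 0) ∧ ∀ g : G, ∀ t ∈ (T : Subgroup G), ∀ v : K,
        ((g * t * g⁻¹ : G) : MulAut (V3 K)) (v3 0 v 0) = v3 0 v 0) ∨
      ((∀ x ∈ C, c2 x = 0) ∧ ∀ g : G, ∀ t ∈ (T : Subgroup G), ∀ v : K,
        ((g * t * g⁻¹ : G) : MulAut (V3 K)) (v3 0 0 v) = v3 0 0 v) :=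
  (twoData_A hT hTall).fixed C hC hCz hinv hq hn

/-- Many elements of a finite field are no cube roots of unity. -/
theorem exists_pow_three_ne (h : 4 < Nat.card K) : ∃ l : K, l ≠ 0 ∧ l ^ 3 ≠ 1 := by
  classical
  haveI := Fintype.ofFinite K
  by_contra hcon
  push Not at hcon
  have hsub : (Finset.univ : Finset K) ⊆
      insert 0 (Polynomial.nthRoots 3 (1 : K)).toFinset := fun l _ => by
    rcases eq_or_ne l 0 with rfl | hl
    · exact Finset.mem_insert_self _ _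
    · exact Finset.mem_insert_of_mem (by
        rw [Multiset.mem_toFinset, Polynomial.mem_nthRoots (by norm_num)]
        exact hcon l hl)
  have h1 := (Finset.card_le_card hsub).trans (Finset.card_insert_le _ _)
  have h2 := ((Polynomial.nthRoots 3 (1 : K)).toFinset_card_le).trans
    (Polynomial.card_nthRoots 3 (1 : K))
  rw [Finset.card_univ, ← Nat.card_eq_fintype_card] at h1
  omega

theorem TwoA.axis [CharP K 2] (G : Subgroup (MulAut (V3 K))) (T : Sylow 2 G)
    (hT : ∀ g : G, g ∈ (T : Subgroup G) ↔ ∃ t, IsActA (g : MulAut (V3 K)) t)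
    (hTall : ∀ t : K, ∃ g ∈ G, IsActA g t)
    (C : Subgroup (V3 K)) (hC : C ≠ ⊥) (hCz : ∀ x ∈ C, c1 x = 0)
    (hinv : ∀ g ∈ G, ∀ x ∈ C, g x ∈ C) (hn : ¬ (T : Subgroup G).Normal) :
    (2 < Nat.card K → (∀ x ∈ C, c3 x = 0) ∨ ∀ x ∈ C, c2 x = 0) ∧
      (4 < Nat.card K → ∀ x ∈ C, c3 x = 0) := by
  classical
  refine ⟨fun hq => (TwoA.fixed G T hT hTall C hC hCz hinv hn hq).imp And.left And.left,
    fun hq => ?_⟩
  obtain ⟨h3, -⟩ | ⟨-, hP⟩ := TwoA.fixed G T hT hTall C hC hCz hinv hn (by omega)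
  · exact h3
  exfalso
  let P : Subgroup (V3 K) := (MonoidHom.mk' (fun w : Multiplicative K => v3 0 0 w.toAdd)
    fun a b => by simp [v3_add]).range
  let π : V3 K →* V2 K := MonoidHom.mk' (fun v => v2 (c1 v) (c2 v)) fun a b => rfl
  let sec : V2 K →* V3 K := MonoidHom.mk' (fun w => v3 w.toAdd.1 w.toAdd.2 0) fun a b => by
    rw [v3_add, add_zero]; rfl
  obtain ⟨l, hl, hl3⟩ := exists_pow_three_ne hq
  obtain ⟨h, -, φ, hfix, hpi, hcomm⟩ := (twoData_A hT hTall).torus hn P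
    (by rintro _ ⟨w, rfl⟩; exact rfl)
    (by rintro g t ht _ ⟨w, rfl⟩; exact hP g t ht _)
    π sec (fun w => rfl)
    (fun v => by
      obtain ⟨x, y, z, rfl⟩ := v3_cover v
      constructor
      · intro e
        obtain ⟨rfl, rfl⟩ := v2_inj.1 (e : v2 x y = v2 0 0)
        exact ⟨Multiplicative.ofAdd z, rfl⟩
      · rintro ⟨w, e⟩
        obtain ⟨rfl, rfl, -⟩ := v3_eq_iff.1 (e : v3 0 0 w.toAdd = v3 x y z)
        rfl)
    (fun t τ hτ x y => by
      show π (τ (v3 x y 0)) = _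
      rw [hτ]
      rfl)
    l hl
  have hd : ∀ d, h (v3 0 0 d) = v3 0 0 d := fun d => hfix _ ⟨Multiplicative.ofAdd d, rfl⟩
  have hc : ∀ c, ∃ ψ, h (v3 0 c 0) = v3 0 (l⁻¹ * c) ψ := fun c => by
    obtain ⟨x, y, z, e⟩ := v3_cover (h (v3 0 c 0))
    have h1 := hpi (v3 0 c 0) 0 c rfl
    rw [e] at h1
    have h1' : v2 x y = v2 (l * 0) (l⁻¹ * (c - φ 0) + φ (l * 0)) := h1
    rw [mul_zero, map_zero, sub_zero, add_zero, v2_inj] at h1'
    exact ⟨z, by rw [e, h1'.1, h1'.2]⟩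
  choose ψ hψ using hc
  have key : ∀ t b, ψ (t * b) = t ^ 2 * b * (l⁻¹ ^ 3 + 1) := by
    intro t b
    obtain ⟨τ, -, hτ⟩ := (twoData_A hT hTall).all t
    obtain ⟨τ', -, hτ'⟩ := (twoData_A hT hTall).all (t / l ^ 2)
    obtain ⟨x, y, z, e⟩ := v3_cover (h (v3 b 0 0))
    have h1 := hpi (v3 b 0 0) b 0 rfl
    rw [e] at h1
    have hx : x = l * b := (v2_inj.1 h1).1
    have h2 := hcomm t τ τ' hτ hτ' (v3 b 0 0)
    rw [hτ, e, hτ', show v3 b (0 + (trA t b).1) (0 + (trA t b).2) =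
      v3 b 0 0 * v3 0 (t * b) 0 * v3 0 0 (t ^ 2 * b) by
      rw [v3_add, v3_add]; simp [trA], map_mul, map_mul, hψ, hd, e, v3_add, v3_add, v3_eq_iff] at h2
    obtain ⟨-, -, h23⟩ := h2
    simp only [trA, hx] at h23
    have h4 : ψ (t * b) + t ^ 2 * b = (t / l ^ 2) ^ 2 * (l * b) :=
      add_left_cancel (a := z) (by rw [← h23]; ring)
    have h5 : (t / l ^ 2) ^ 2 * (l * b) = t ^ 2 * b * l⁻¹ ^ 3 := by field_simp
    linear_combination h4 + h5 - (t ^ 2 * b) * (CharTwo.two_eq_zero : (2 : K) = 0)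
  obtain ⟨t, ht⟩ : ∃ t : K, t ∉ ({0, 1} : Finset K) := by
    by_contra hcon
    push Not at hcon
    haveI := Fintype.ofFinite K
    have h1 := Finset.card_le_card (s := Finset.univ) fun a _ => hcon a
    rw [Finset.card_univ, ← Nat.card_eq_fintype_card] at h1
    have h2 := Finset.card_le_two (a := (0 : K)) (b := 1)
    omega
  simp only [Finset.mem_insert, Finset.mem_singleton, not_or] at ht
  have e1 := key t 1
  have e2 := key 1 t
  rw [mul_one] at e1
  rw [one_mul] at e2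
  have e3 : t * (t - 1) * (l⁻¹ ^ 3 + 1) = 0 := by
    linear_combination e2 - e1
  rcases mul_eq_zero.1 e3 with e | e
  · rcases mul_eq_zero.1 e with e | e
    · exact ht.1 e
    · exact ht.2 (sub_eq_zero.1 e)
  · refine hl3 ?_
    rw [← CharTwo.sub_eq_add, sub_eq_zero, inv_pow, inv_eq_one] at e
    exact e

end CfsgLib.Fusion.SpFour
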