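import Cfsg.Agent.Lib.Fusion.SpFour.TwoA
import Mathlib.FieldTheory.Perfect

/-!
Characteristic two: the automizer of `acd`. Only the `d` axis can carry a normal subgroup for more
than four elements; modulo the `c` axis the natural module has coordinates `a²`, `d`.
-/

set_option autoImplicit false
set_option linter.unusedSectionVars false

namespace CfsgLib.Fusion.SpFour

variable {K : Type*} [Field K]

/-- The displacement by `b_u`. -/
def trB (u x : K) : K × K := (x * u, x ^ 2 * u)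

theorem isTr_trB (g : MulAut (V3 K)) (u : K) : IsTr trB g u ↔ IsActB g u := Iff.rfl

theorem twoData_B {G : Subgroup (MulAut (V3 K))} {T : Sylow 2 G}
    (hT : ∀ g : G, g ∈ (T : Subgroup G) ↔ ∃ u, IsActB (g : MulAut (V3 K)) u)
    (hTall : ∀ u : K, ∃ g ∈ G, IsActB g u) : TwoData trB G T where
  mem := hT
  all := hTall
  zero u := by simp [trB]
  triv x := by simp [trB]
  ne u x hu hx := by simp [trB, hu, hx]
  uniq u x u' x' hu hx h := by
    simp only [trB, Prod.ext_iff] at h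
    refine mul_left_cancel₀ (mul_ne_zero (mul_ne_zero hx hx) hu) ?_
    linear_combination u' * h.2 - (x * u + x' * u') * h.1
  onto y z hy hz := ⟨y ^ 2 / z, z / y, by
    simp only [trB, Prod.ext_iff]
    constructor <;> field_simp⟩

variable [Finite K]

theorem TwoB.fixed [CharP K 2] (G : Subgroup (MulAut (V3 K))) (T : Sylow 2 G)
    (hT : ∀ g : G, g ∈ (T : Subgroup G) ↔ ∃ u, IsActB (g : MulAut (V3 K)) u)
    (hTall : ∀ u : K, ∃ g ∈ G, IsActB g u)
    (C : Subgroup (V3 K)) (hC : C ≠ ⊥) (hCz : ∀ x ∈ C, c1 x = 0)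
    (hinv : ∀ g ∈ G, ∀ x ∈ C, g x ∈ C) (hn : ¬ (T : Subgroup G).Normal) (hq : 2 < Nat.card K) :
    ((∀ x ∈ C, c3 x = 0) ∧ ∀ g : G, ∀ t ∈ (T : Subgroup G), ∀ v : K,
        ((g * t * g⁻¹ : G) : MulAut (V3 K)) (v3 0 v 0) = v3 0 v 0) ∨
      ((∀ x ∈ C, c2 x = 0) ∧ ∀ g : G, ∀ t ∈ (T : Subgroup G), ∀ v : K,
        ((g * t * g⁻¹ : G) : MulAut (V3 K)) (v3 0 0 v) = v3 0 0 v) :=
  (twoData_B hT hTall).fixed C hC hCz hinv hq hn

theorem TwoB.axis [CharP K 2] (G : Subgroup (MulAut (V3 K))) (T : Sylow 2 G)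
    (hT : ∀ g : G, g ∈ (T : Subgroup G) ↔ ∃ u, IsActB (g : MulAut (V3 K)) u)
    (hTall : ∀ u : K, ∃ g ∈ G, IsActB g u)
    (C : Subgroup (V3 K)) (hC : C ≠ ⊥) (hCz : ∀ x ∈ C, c1 x = 0)
    (hinv : ∀ g ∈ G, ∀ x ∈ C, g x ∈ C) (hn : ¬ (T : Subgroup G).Normal) :
    (2 < Nat.card K → (∀ x ∈ C, c3 x = 0) ∨ ∀ x ∈ C, c2 x = 0) ∧
      (4 < Nat.card K → ∀ x ∈ C, c2 x = 0) := by
  classical
  refine ⟨fun hq => (TwoB.fixed G T hT hTall C hC hCz hinv hn hq).imp And.left And.left,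
    fun hq => ?_⟩
  obtain ⟨-, hP⟩ | ⟨h2, -⟩ := TwoB.fixed G T hT hTall C hC hCz hinv hn (by omega)
  swap
  · exact h2
  exfalso
  haveI : ExpChar K 2 := ExpChar.prime Nat.prime_two
  haveI : PerfectRing K 2 := PerfectRing.ofFiniteOfIsReduced 2 K
  set rt := (frobeniusEquiv K 2).symm with hrt
  have hsq : ∀ x : K, rt x ^ 2 = x := fun x => by
    rw [← frobeniusEquiv_def, hrt, RingEquiv.apply_symm_apply]
  let P : Subgroup (V3 K) := (MonoidHom.mk' (fun w : Multiplicative K => v3 0 w.toAdd 0)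
    fun a b => by simp [v3_add]).range
  let π : V3 K →* V2 K := MonoidHom.mk' (fun v => v2 (c1 v ^ 2) (c3 v)) fun a b => by
    rw [v2_mul, ← CharTwo.add_sq]; rfl
  let sec : V2 K →* V3 K := MonoidHom.mk' (fun w => v3 (rt w.toAdd.1) 0 w.toAdd.2) fun a b => by
    rw [v3_add, add_zero, ← map_add]; rfl
  obtain ⟨s, hs, hs3⟩ := exists_pow_three_ne hq
  obtain ⟨h, -, φ, hfix, hpi, hcomm⟩ := (twoData_B hT hTall).torus hn P
    (by rintro _ ⟨w, rfl⟩; exact rfl)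
    (by rintro g t ht _ ⟨w, rfl⟩; exact hP g t ht _)
    π sec (fun w => by
      obtain ⟨x, y, rfl⟩ := v2_surj w
      show v2 (rt x ^ 2) y = v2 x y
      rw [hsq])
    (fun v => by
      obtain ⟨x, y, z, rfl⟩ := v3_cover v
      constructor
      · intro e
        obtain ⟨hx, rfl⟩ := v2_inj.1 (e : v2 (x ^ 2) z = v2 0 0)
        rw [pow_eq_zero_iff two_ne_zero] at hx
        subst hx
        exact ⟨Multiplicative.ofAdd y, rfl⟩
      · rintro ⟨w, e⟩
        obtain ⟨rfl, -, rfl⟩ := v3_eq_iff.1 (e : v3 0 w.toAdd 0 = v3 x y z)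
        show v2 ((0 : K) ^ 2) 0 = 1
        rw [zero_pow two_ne_zero]; rfl)
    (fun u τ hτ x y => by
      show π (τ (v3 (rt x) 0 y)) = _
      rw [hτ]
      show v2 (rt x ^ 2) (y + rt x ^ 2 * u) = _
      rw [hsq, mul_comm x u])
    (s ^ 2) (pow_ne_zero 2 hs)
  have hcax : ∀ c, h (v3 0 c 0) = v3 0 c 0 := fun c => hfix _ ⟨Multiplicative.ofAdd c, rfl⟩
  have hd : ∀ d, ∃ ψ, h (v3 0 0 d) = v3 0 ψ ((s ^ 2)⁻¹ * d) := fun d => by
    obtain ⟨x, y, z, e⟩ := v3_cover (h (v3 0 0 d))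
    have h1 := hpi (v3 0 0 d) 0 d (by show v2 ((0 : K) ^ 2) d = _; rw [zero_pow two_ne_zero])
    rw [e] at h1
    have h1' : v2 (x ^ 2) z = v2 (s ^ 2 * 0) ((s ^ 2)⁻¹ * (d - φ 0) + φ (s ^ 2 * 0)) := h1
    rw [mul_zero, map_zero, sub_zero, add_zero, v2_inj] at h1'
    rw [pow_eq_zero_iff two_ne_zero] at h1'
    exact ⟨y, by rw [e, h1'.1, h1'.2]⟩
  choose ψ hψ using hd
  have key : ∀ u a, ψ (a ^ 2 * u) = a * u * (s⁻¹ ^ 3 + 1) := by
    intro u a
    obtain ⟨τ, -, hτ⟩ := (twoData_B hT hTall).all u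
    obtain ⟨τ', -, hτ'⟩ := (twoData_B hT hTall).all (u / (s ^ 2) ^ 2)
    obtain ⟨x, y, z, e⟩ := v3_cover (h (v3 a 0 0))
    have h1 := hpi (v3 a 0 0) (a ^ 2) 0 rfl
    rw [e] at h1
    have hx : x ^ 2 = s ^ 2 * a ^ 2 := (v2_inj.1 h1).1
    have hx' : x = s * a := CharTwo.sq_inj.1 (by rw [hx, mul_pow])
    have h2 := hcomm u τ τ' hτ hτ' (v3 a 0 0)
    rw [hτ, e, hτ', show v3 a (0 + (trB u a).1) (0 + (trB u a).2) =
      v3 a 0 0 * v3 0 (a * u) 0 * v3 0 0 (a ^ 2 * u) by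
      rw [v3_add, v3_add]; simp [trB], map_mul, map_mul, hψ, hcax, e, v3_add, v3_add, v3_eq_iff] at h2
    obtain ⟨-, h22, -⟩ := h2
    simp only [trB, hx'] at h22
    have h4 : ψ (a ^ 2 * u) + a * u = s * a * (u / (s ^ 2) ^ 2) :=
      add_left_cancel (a := y) (by rw [← h22]; ring)
    have h5 : s * a * (u / (s ^ 2) ^ 2) = a * u * s⁻¹ ^ 3 := by field_simp
    linear_combination h4 + h5 - (a * u) * (CharTwo.two_eq_zero : (2 : K) = 0)
  obtain ⟨t, ht⟩ : ∃ t : K, t ∉ ({0, 1} : Finset K) := by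
    by_contra hcon
    push Not at hcon
    haveI := Fintype.ofFinite K
    have h1 := Finset.card_le_card (s := Finset.univ) fun a _ => hcon a
    rw [Finset.card_univ, ← Nat.card_eq_fintype_card] at h1
    have h2 := Finset.card_le_two (a := (0 : K)) (b := 1)
    omega
  simp only [Finset.mem_insert, Finset.mem_singleton, not_or] at ht
  have e1 := key 1 t
  have e2 := key (t ^ 2) 1
  rw [mul_one] at e1
  rw [one_pow, one_mul] at e2
  have e3 : t * (t - 1) * (s⁻¹ ^ 3 + 1) = 0 := by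
    linear_combination e1 - e2
  rcases mul_eq_zero.1 e3 with e | e
  · rcases mul_eq_zero.1 e with e | e
    · exact ht.1 e
    · exact ht.2 (sub_eq_zero.1 e)
  · refine hs3 ?_
    rw [← CharTwo.sub_eq_add, sub_eq_zero, inv_pow, inv_eq_one] at e
    exact e

end CfsgLib.Fusion.SpFour
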