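import Cfsg.Agent.Lib.Fusion.SpFour.Model
import Cfsg.Agent.Lib.Fusion.SpFour.Reduce
import Cfsg.Agent.Lib.Fusion.SpFour.Module
import Cfsg.Agent.Lib.Fusion.SpFour.OddTorus
import Cfsg.Agent.Lib.Fusion.SpFour.OddA
import Cfsg.Agent.Lib.Fusion.SpFour.TwoA
import Cfsg.Agent.Lib.Fusion.SpFour.TwoB
import Cfsg.Agent.Lib.Fusion.SpFour.Small
import Cfsg.Agent.S5090

/-!
An exotic saturated fusion system over a Sylow subgroup of `Sp₄(K)` has trivial core.
-/

set_option autoImplicit false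
set_option linter.style.haveILetI false
set_option linter.unusedSectionVars false
set_option linter.unusedVariables false
set_option linter.unusedSimpArgs false

namespace CfsgLib.Fusion.SpFour

open Cfsg Cfsg.FusionSystem Subgroup

universe u

variable {Ω : Type u} [Group Ω] {S : Subgroup Ω} [Finite S] {p : ℕ} [Fact p.Prime]
  {F : FusionSystem S} {K : Type*} [Field K] [Finite K]

theorem centralizerIn_pull_le (e : S ≃* U K) {H : Subgroup (U K)} (y : U K) (hy : y ∈ H)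
    (h : ∀ x : U K, y * x = x * y → x ∈ H) : centralizerIn S (pull e H) ≤ pull e H := by
  rintro z ⟨hz, hzc⟩
  rw [← el_coord e hz, el_mem_pull]
  refine h _ (el_injective e ?_)
  rw [el_mul, el_mul, el_coord]
  exact hzc _ ((el_mem_pull e).2 hy)

theorem pull_invariant (e : S ≃* U K) {H : Subgroup (U K)}
    (h : ∀ σ ∈ autTop e F, ∀ x ∈ H, σ x ∈ H) :
    ∀ α ∈ F.autGroup S, ∀ x : S, (x : Ω) ∈ pull e H → ((α x : S) : Ω) ∈ pull e H := by
  intro α hα x hx
  obtain ⟨y, hy, hyx⟩ := (mem_pull e).1 hx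
  have hx' : x = ⟨el e y, el_mem e y⟩ := Subtype.ext hyx.symm
  rw [hx', ← el_congr, el_mem_pull]
  exact h _ ⟨α, hα, rfl⟩ y hy

/-- The second component of a comparison of two extended involutions. -/
theorem l_unique [CharP K p] (h2 : (2 : K) ≠ 0) (hS : IsPGroup p S) (hF : F.IsSaturated p)
    (e : S ≃* U K) {σ σ' : MulAut (U K)} (hσ : σ ∈ autTop e F) (hσ' : σ' ∈ autTop e F)
    {l l' : K} (ha : ∀ x, (σ x).a = -x.a) (hb : ∀ x, (σ x).b = x.b - 2 * l * x.a)
    (ha' : ∀ x, (σ' x).a = -x.a) (hb' : ∀ x, (σ' x).b = x.b - 2 * l' * x.a) : l = l' := by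
  have h := b_eq_of_unipotent hS hF e (mul_mem hσ' hσ)
    (fun x => by rw [MulAut.mul_apply, ha', ha, neg_neg])
    (fun x hx => by rw [MulAut.mul_apply, hb', hb, ha, hx]; ring) (U.aEl 1)
  rw [MulAut.mul_apply, hb', hb, ha] at h
  simp [U.aEl] at h
  have h3 : (2 : K) * (l' - l) = 0 := by linear_combination h
  exact (sub_eq_zero.1 ((mul_eq_zero.1 h3).resolve_left h2)).symm

/-- The `-1` eigenspace is invariant. -/
theorem grpL_invariant [CharP K p] (h2 : (2 : K) ≠ 0) (hS : IsPGroup p S) (hF : F.IsSaturated p)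
    (e : S ≃* U K) {σ : MulAut (U K)} (hσ : σ ∈ autTop e F) {l : K}
    (ha : ∀ x, (σ x).a = -x.a) (hb : ∀ x, (σ x).b = x.b - 2 * l * x.a) :
    ∀ ρ ∈ autTop e F, ∀ x ∈ U.grpL l, ρ x ∈ U.grpL l := by
  intro ρ hρ x hx
  set κ := ρ * σ * ρ⁻¹ * σ⁻¹ with hκ
  have hA := fun τ : MulAut (U K) => (invariant_odd hS hF h2 τ).2
  have hcd := fun τ : MulAut (U K) => (invariant_odd hS hF h2 τ).1
  have hmodA : ∀ (τ : MulAut (U K)) (y z : U K), y.a = z.a → (τ y).a = (τ z).a := by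
    intro τ y z h
    have h1 := hA τ (y⁻¹ * z) (by rw [U.inv_mul_eq]; exact sub_eq_zero.2 h.symm)
    rw [map_mul, map_inv, U.inv_mul_eq] at h1
    exact (sub_eq_zero.1 h1).symm
  have hmodB : ∀ (τ : MulAut (U K)) (y z : U K), y.a = z.a → y.b = z.b → (τ y).b = (τ z).b := by
    intro τ y z h h'
    have h1 := (hcd τ (y⁻¹ * z) (by
      rw [U.inv_mul_eq]; exact ⟨sub_eq_zero.2 h.symm, sub_eq_zero.2 h'.symm⟩)).2
    rw [map_mul, map_inv, U.inv_mul_eq] at h1
    exact (sub_eq_zero.1 h1).symm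
  have hneg : ∀ (τ : MulAut (U K)) (y z : U K), z.a = -y.a → (τ z).a = -(τ y).a := by
    intro τ y z h
    rw [hmodA τ z y⁻¹ (by rw [h]; rfl), map_inv]
    rfl
  have hκa : ∀ y, (κ y).a = y.a := by
    intro y
    show (ρ (σ (ρ⁻¹ (σ⁻¹ y)))).a = y.a
    set w := σ⁻¹ y with hw
    have hwa : y.a = -w.a := by rw [← ha w, hw, MulAut.apply_inv_self]
    have h1 : (σ (ρ⁻¹ w)).a = (ρ⁻¹ y).a := by rw [ha, ← hneg ρ⁻¹ w y hwa]
    rw [hmodA ρ _ _ h1, MulAut.apply_inv_self]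
  have hκA : ∀ y : U K, y.a = 0 → (κ y).b = y.b := by
    intro y hy
    show (ρ (σ (ρ⁻¹ (σ⁻¹ y)))).b = y.b
    have h3 : (σ⁻¹ y).a = 0 := hA σ⁻¹ y hy
    have h1 : (σ⁻¹ y).b = y.b := by
      have h4 := hb (σ⁻¹ y)
      rw [MulAut.apply_inv_self, h3, mul_zero, sub_zero] at h4
      exact h4.symm
    set v := ρ⁻¹ (σ⁻¹ y) with hv
    have hva : v.a = 0 := hA ρ⁻¹ _ h3
    rw [hmodB ρ (σ v) v (by rw [ha, hva, neg_zero]) (by rw [hb, hva]; ring), hv,
      MulAut.apply_inv_self, h1]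
  have hκb := b_eq_of_unipotent hS hF e (mul_mem (mul_mem (mul_mem hρ hσ) (inv_mem hρ))
    (inv_mem hσ)) hκa hκA
  have hdiag : ∀ y, (σ (ρ y)).a = (ρ (σ y)).a ∧ (σ (ρ y)).b = (ρ (σ y)).b := by
    intro y
    have e1 : κ (σ (ρ y)) = ρ (σ y) := by
      rw [hκ]
      simp [MulAut.mul_apply, MulAut.inv_apply_self]
    exact ⟨by rw [← e1, hκa], by rw [← e1, hκb]⟩
  have hx' : x.b = l * x.a := hx
  have h1 : (σ x).a = (x⁻¹).a ∧ (σ x).b = (x⁻¹).b := by
    refine ⟨by rw [ha]; rfl, ?_⟩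
    rw [hb, hx']
    show l * x.a - 2 * l * x.a = -x.b
    rw [hx']
    ring
  have h3 : (σ (ρ x)).b = -(ρ x).b := by
    rw [(hdiag x).2, hmodB ρ _ _ h1.1 h1.2, map_inv]
    rfl
  rw [hb] at h3
  show (ρ x).b = l * (ρ x).a
  refine mul_left_cancel₀ h2 ?_
  linear_combination h3

/-- Odd characteristic. -/
theorem false_odd [Fintype K] [CharP K p] (h2 : (2 : K) ≠ 0) (hS : IsPGroup p S)
    (hF : F.IsSaturated p) (e : S ≃* U K) (hnc : ¬ F.IsConstrained p) {Q : Subgroup Ω}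
    (hQ : F.IsNormal Q) (hQ1 : Q ≠ ⊥) (hQc : coords e Q ≤ Subgroup.center (U K)) : False := by
  have hcandA : ∀ E, F.IsEssential p E → E = pull e (U.grpA K) ∨ ∃ l, E = pull e (U.grpL l) :=
    fun E hE => essential_eq_odd h2 hS hF e hQ hQ1 hQc hE
  obtain ⟨l, hl⟩ : ∃ l, F.IsEssential p (pull e (U.grpL l)) := by
    by_contra h
    refine hnc (constrained_of_unique hS hF (pull_le e (U.grpA K))
      (centralizerIn_pull_le e (U.bEl 1) rfl fun x hx => ?_)
      (pull_invariant e fun σ _ x hx => (invariant_odd hS hF h2 σ).2 x hx) fun E hE => ?_)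
    · have h1 := ((U.commute_iff _ _).1 hx).1
      simp [U.bEl] at h1
      exact h1.symm
    · exact (hcandA E hE).resolve_right fun ⟨l, hl⟩ => h ⟨l, hl ▸ hE⟩
  obtain ⟨σ, hσ, hσa, hσb, -, -⟩ := exists_torus_top h2 hS hF e hl (-1) (by simp)
  replace hσa : ∀ x, (σ x).a = -x.a := fun x => by rw [hσa, neg_one_mul]
  replace hσb : ∀ x, (σ x).b = x.b - 2 * l * x.a := fun x => by
    rw [hσb, inv_neg_one]; ring
  have huniq : ∀ l', F.IsEssential p (pull e (U.grpL l')) → l' = l := by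
    intro l' hl'
    obtain ⟨τ, hτ, hτa, hτb, -, -⟩ := exists_torus_top h2 hS hF e hl' (-1) (by simp)
    exact (l_unique h2 hS hF e hσ hτ hσa hσb (fun x => by rw [hτa, neg_one_mul])
      fun x => by rw [hτb, inv_neg_one]; ring).symm
  by_cases hA : F.IsEssential p (pull e (U.grpA K))
  swap
  · refine hnc (constrained_of_unique hS hF (pull_le e (U.grpL l))
      (centralizerIn_pull_le e (⟨1, l, 0, 0⟩ : U K) (show l = l * 1 by ring) fun x hx => ?_)
      (pull_invariant e (grpL_invariant h2 hS hF e hσ hσa hσb)) fun E hE => ?_)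
    · have h1 := ((U.commute_iff _ _).1 hx).1
      show x.b = l * x.a
      simp at h1
      rw [h1, mul_comm]
    · rcases hcandA E hE with rfl | ⟨l', rfl⟩
      · exact absurd hE hA
      · rw [huniq l' hE]
  -- both are essential
  obtain ⟨T, hT, hmem, hn, hC, hCmem, hinv⟩ :=
    module_data hS hF e hA normalizes_grpA hQ hQ1 hQc (eqA K)
  refine hn (OddA.normal (p := p) (fun h => h2 (by simpa [h] using CharP.cast_eq_zero K p)) _ T
    (fun g => ⟨fun hg => ?_, fun ⟨t, ht⟩ => ?_⟩) (fun t => ?_) _ hC (fun x hx => ?_) hinv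
    fun s hs => ?_)
  · obtain ⟨a, ha⟩ := (hT g).1 hg
    exact ⟨a.a, ha ▸ eqA_conj _⟩
  · exact (hT g).2 ⟨U.aEl t, actA_unique ht (eqA_conj _)⟩
  · exact ⟨_, hmem (U.aEl t), eqA_conj _⟩
  · obtain ⟨-, hb, hc⟩ := (U.mem_center_odd h2).1 (hQc ((hCmem x).1 hx))
    exact ⟨hb, hc⟩
  · obtain ⟨τ, hτ, hτa, hτb, hτc, hτd⟩ := exists_torus_top h2 hS hF e hl s hs
    obtain ⟨α, hα, hατ⟩ := restrict_mem e hτ (H := U.grpA K) fun x hx => by
      show (τ x).a = 0
      rw [hτa, show x.a = 0 from hx, mul_zero]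
    have hval : ∀ b c d, MulAut.congr (eqA K) α (v3 b c d) =
        v3 (τ ⟨0, b, c, d⟩).b (τ ⟨0, b, c, d⟩).c (τ ⟨0, b, c, d⟩).d := fun b c d => by
      rw [← hατ ⟨⟨0, b, c, d⟩, rfl⟩]
      rfl
    refine ⟨_, ⟨α, hα, rfl⟩, fun b c d => ?_, fun c d => ?_, fun d => ?_⟩
    · rw [MulEquiv.coe_toMonoidHom, hval]
      show (τ ⟨0, b, c, d⟩).b = _
      rw [hτb]
      simp
    · rw [MulEquiv.coe_toMonoidHom, hval]
      show (τ ⟨0, 0, c, d⟩).c = _
      have e1 : (⟨0, 0, c, d⟩ : U K) = ⟨0, 0, c, 0⟩ * U.dEl d := by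
        simp [U.mul_def, U.dEl]
      rw [e1, map_mul, hτd]
      show (τ ⟨0, 0, c, 0⟩).c + 0 + (τ ⟨0, 0, c, 0⟩).a * 0 = _
      rw [hτc]
      ring
    · rw [MulEquiv.coe_toMonoidHom, hval]
      show v3 (τ (U.dEl d)).b (τ (U.dEl d)).c (τ (U.dEl d)).d = _
      rw [hτd]
      rfl

/-- Characteristic two. -/
theorem false_two [Fintype K] [CharP K 2] (hS : IsPGroup 2 S) (hF : F.IsSaturated 2)
    (e : S ≃* U K) (hnc : ¬ F.IsConstrained 2) (hnr : ¬ F.IsRealizable 2) {Q : Subgroup Ω}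
    (hQ : F.IsNormal Q) (hQ1 : Q ≠ ⊥) (hQc : coords e Q ≤ Subgroup.center (U K)) : False := by
  haveI : Fact (Nat.Prime 2) := ⟨Nat.prime_two⟩
  have hinv2 := fun σ hσ => invariant_two hS hF e rfl (ρ := σ) hσ
  have hA : F.IsEssential 2 (pull e (U.grpA K)) := by
    by_contra h
    refine hnc (constrained_of_unique hS hF (pull_le e (U.grpB K))
      (centralizerIn_pull_le e (U.aEl 1) rfl fun x hx => ?_)
      (pull_invariant e fun σ hσ x hx => (hinv2 σ hσ).2 x hx) fun E hE => ?_)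
    · have h1 := ((U.commute_iff _ _).1 hx).1
      simp [U.aEl] at h1
      exact h1
    · exact (essential_eq_two hS hF e hE).resolve_left fun he => h (he ▸ hE)
  have hB : F.IsEssential 2 (pull e (U.grpB K)) := by
    by_contra h
    refine hnc (constrained_of_unique hS hF (pull_le e (U.grpA K))
      (centralizerIn_pull_le e (U.bEl 1) rfl fun x hx => ?_)
      (pull_invariant e fun σ hσ x hx => (hinv2 σ hσ).1 x hx) fun E hE => ?_)
    · have h1 := ((U.commute_iff _ _).1 hx).1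
      simp [U.bEl] at h1
      exact h1.symm
    · exact (essential_eq_two hS hF e hE).resolve_right fun he => h (he ▸ hE)
  by_cases hq : Nat.card K = 2 ∨ Nat.card K = 4
  · exact hnr (Small.realizable hS F hF hq e (hasCandidates_two hS hF e) Q hQ hQ1
      (fun x hx hxQ => U.mem_center_two.1 (hQc ((mem_coords e).2 (by rwa [el_coord]))))
      (not_normal_of_essential hS hF hA) (not_normal_of_essential hS hF hB))
  have hq4 : 4 < Nat.card K := by
    obtain ⟨⟨n, hn0⟩, hn⟩ := FiniteField.card K 2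
    rw [Nat.card_eq_fintype_card, hn.2] at hq ⊢
    simp only [PNat.mk_coe] at hq ⊢
    match n, hn0, hq with
    | 1, _, hq => exact absurd (Or.inl (by norm_num)) hq
    | 2, _, hq => exact absurd (Or.inr (by norm_num)) hq
    | m + 3, _, _ =>
      calc 4 < 2 ^ 3 := by norm_num
        _ ≤ 2 ^ (m + 3) := Nat.pow_le_pow_right (by norm_num) (by omega)
  obtain ⟨TA, hTA, hmA, hnA, hCA, hCAm, hiA⟩ :=
    module_data hS hF e hA normalizes_grpA hQ hQ1 hQc (eqA K)
  have hAd := (TwoA.axis _ TA (fun g => ⟨fun hg => by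
      obtain ⟨a, ha⟩ := (hTA g).1 hg
      exact ⟨a.a, ha ▸ eqA_conj _⟩,
    fun ⟨t, ht⟩ => (hTA g).2 ⟨U.aEl t, actA_unique ht (eqA_conj _)⟩⟩)
    (fun t => ⟨_, hmA (U.aEl t), eqA_conj _⟩) _ hCA
    (fun x hx => (U.mem_center_two.1 (hQc ((hCAm x).1 hx))).2) hiA hnA).2 hq4
  obtain ⟨TB, hTB, hmB, hnB, hCB, hCBm, hiB⟩ :=
    module_data hS hF e hB normalizes_grpB hQ hQ1 hQc (eqB K)
  have hBc := (TwoB.axis _ TB (fun g => ⟨fun hg => by
      obtain ⟨a, ha⟩ := (hTB g).1 hg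
      exact ⟨a.b, ha ▸ eqB_conj _⟩,
    fun ⟨t, ht⟩ => (hTB g).2 ⟨U.bEl t, actB_unique ht (eqB_conj _)⟩⟩)
    (fun t => ⟨_, hmB (U.bEl t), eqB_conj _⟩) _ hCB
    (fun x hx => (U.mem_center_two.1 (hQc ((hCBm x).1 hx))).1) hiB hnB).2 hq4
  refine hQ1 (eq_bot_iff.2 fun x hx => ?_)
  have hxS := hQ.1 hx
  set y := e ⟨x, hxS⟩ with hy
  have hyQ : y ∈ coords e Q := (mem_coords e).2 (by rwa [el_coord])
  obtain ⟨ya, yb⟩ := U.mem_center_two.1 (hQc hyQ)
  have hd : y.d = 0 := hAd (eqA K ⟨y, ya⟩) ((hCAm _).2 (by rw [(eqA K).symm_apply_apply]; exact hyQ))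
  have hc : y.c = 0 := hBc (eqB K ⟨y, yb⟩) ((hCBm _).2 (by rw [(eqB K).symm_apply_apply]; exact hyQ))
  rw [Subgroup.mem_bot, ← el_coord e hxS, show e ⟨x, hxS⟩ = 1 from U.ext ya yb hc hd, el_one]

/-- An exotic system over a Sylow subgroup of `Sp₄(K)` has trivial core. -/
theorem core_eq_bot_of_exotic [Fintype K] [CharP K p] (hS : IsPGroup p S) (F : FusionSystem S)
    (hF : F.IsSaturated p) (T : Sylow p (Matrix.symplecticGroup (Fin 2) K))
    (e₀ : S ≃* (T : Subgroup (Matrix.symplecticGroup (Fin 2) K))) (hex : F.IsExotic p) :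
    F.core = ⊥ := by
  by_contra hc
  classical
  obtain ⟨eU⟩ := nonempty_equiv T
  let e : S ≃* U K := e₀.trans eU
  have hnc : ¬ F.IsConstrained p :=
    not_constrained_of_exotic hS hex (Cfsg.Agent.S5090.result p hS F)
  have hQc : coords e F.core ≤ Subgroup.center (U K) := by
    by_contra h
    exact hnc (constrained_of_not_central hS hF e h)
  have hQn : F.IsNormal F.core := core_isNormal
  rcases eq_or_ne (2 : K) 0 with h2 | h2
  · have hp2 : p = 2 := by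
      have h : p ∣ 2 := (CharP.cast_eq_zero_iff K p 2).1 (by exact_mod_cast h2)
      exact (Nat.prime_dvd_prime_iff_eq Fact.out Nat.prime_two).1 h
    subst hp2
    haveI : CharP K 2 := CharTwo.of_one_ne_zero_of_two_eq_zero one_ne_zero h2
    exact false_two hS hF e hnc hex.2 hQn hc hQc
  · exact false_odd h2 hS hF e hnc hQn hc hQc

end CfsgLib.Fusion.SpFour
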