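import Cfsg.Agent.Lib.Fusion.SpFour.Defs
import Cfsg.Agent.Lib.Pres.SpFourModel

/-!
The root coordinate group is a Sylow subgroup of `Sp₄(K)`.
-/

set_option autoImplicit false
set_option linter.style.haveILetI false

namespace CfsgLib.Fusion.SpFour

open Matrix

variable {K : Type*} [Field K]

local notation "Sp4" => Matrix.symplecticGroup (Fin 2) K

/-- The matrix of an element. -/
def uMat (x : U K) : Matrix (Fin 2 ⊕ Fin 2) (Fin 2 ⊕ Fin 2) K :=
  Matrix.fromBlocks !![1, x.a; 0, 1] !![x.d - x.a * x.c, x.c; x.c - x.a * x.b, x.b] 0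
    !![1, 0; -x.a, 1]

theorem uMat_mem (x : U K) : uMat x ∈ Sp4 := by
  rw [SymplecticGroup.mem_iff]
  ext i j
  rcases i with i | i <;> rcases j with j | j <;> fin_cases i <;> fin_cases j <;>
    simp [uMat, Matrix.J, Matrix.mul_apply, Fintype.sum_sum_type, Fin.sum_univ_two] <;> ring

theorem uMat_mul (x y : U K) : uMat (x * y) = uMat x * uMat y := by
  ext i j
  rcases i with i | i <;> rcases j with j | j <;> fin_cases i <;> fin_cases j <;>
    simp [uMat, U.mul_def, Matrix.mul_apply, Fintype.sum_sum_type, Fin.sum_univ_two] <;> ring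

/-- The embedding. -/
def toSp : U K →* Sp4 :=
  MonoidHom.mk' (fun x => ⟨uMat x, uMat_mem x⟩) fun x y => Subtype.ext (uMat_mul x y)

theorem toSp_injective : Function.Injective (toSp (K := K)) := by
  intro x y h
  have h' : uMat x = uMat y := congrArg Subtype.val h
  have ha := congrFun (congrFun h' (Sum.inl 0)) (Sum.inl 1)
  have hc := congrFun (congrFun h' (Sum.inl 0)) (Sum.inr 1)
  have hb := congrFun (congrFun h' (Sum.inl 1)) (Sum.inr 1)
  have hd := congrFun (congrFun h' (Sum.inl 0)) (Sum.inr 0)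
  simp [uMat] at ha hb hc hd
  refine U.ext ha hb hc ?_
  rw [ha, hc] at hd
  linear_combination hd

omit [Field K] in
theorem card_U : Nat.card (U K) = Nat.card K ^ 4 := by
  let f : U K ≃ K × K × K × K :=
    { toFun := fun x => (x.a, x.b, x.c, x.d)
      invFun := fun t => ⟨t.1, t.2.1, t.2.2.1, t.2.2.2⟩
      left_inv := fun x => rfl
      right_inv := fun t => rfl }
  rw [Nat.card_congr f, Nat.card_prod, Nat.card_prod, Nat.card_prod]
  ring

theorem isPGroup_U [Fintype K] {p : ℕ} [Fact p.Prime] [CharP K p] : IsPGroup p (U K) := by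
  obtain ⟨n, hn⟩ := FiniteField.card K p
  refine IsPGroup.of_card (n := n * 4) ?_
  rw [card_U, Nat.card_eq_fintype_card, hn.2, ← pow_mul]

/-- A Sylow subgroup of `Sp₄(K)` is isomorphic to the coordinate group. -/
theorem nonempty_equiv [Fintype K] {p : ℕ} [Fact p.Prime] [CharP K p] (T : Sylow p Sp4) :
    Nonempty (↥(T : Subgroup Sp4) ≃* U K) := by
  classical
  haveI : Finite Sp4 := inferInstance
  have e0 : U K ≃* (toSp (K := K)).range := MonoidHom.ofInjective toSp_injective
  have hP : IsPGroup p (toSp (K := K)).range := isPGroup_U.of_equiv e0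
  have hidx : ¬ p ∣ (toSp (K := K)).range.index := by
    intro hdvd
    have h1 := (toSp (K := K)).range.card_mul_index
    rw [← Nat.card_congr e0.toEquiv, card_U, ← Nat.card_congr (CfsgLib.Geom.spEquiv 2 K).toEquiv,
      CfsgLib.Classical.card_formIsoms_alt (CfsgLib.Geom.sympBilin 2 K) CfsgLib.Geom.sympBilin_self
        CfsgLib.Geom.sympBilin_sep 2 (by simp)] at h1
    simp only [Finset.prod_range_succ, Finset.prod_range_zero, one_mul, Nat.reducePow,
      Nat.reduceMul, Nat.reduceAdd, zero_add, mul_one] at h1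
    have hq : 2 ≤ Fintype.card K := Fintype.one_lt_card
    obtain ⟨n, hn⟩ := FiniteField.card K p
    rw [Nat.card_eq_fintype_card] at h1
    have h2 := mul_left_cancel₀ (pow_ne_zero 4 (by omega : Fintype.card K ≠ 0)) h1
    have hp : p ∣ Fintype.card K := hn.2 ▸ dvd_pow_self p (PNat.ne_zero n)
    rw [h2] at hdvd
    rcases (Fact.out : p.Prime).dvd_mul.1 hdvd with h | h <;>
      exact (Fact.out : p.Prime).not_dvd_one
        ((Nat.dvd_sub (dvd_pow hp (by norm_num)) h).trans (dvd_of_eq
          (Nat.sub_sub_self (Nat.one_le_pow _ _ (by omega)))))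
  exact ⟨(T.equiv (hP.toSylow hidx)).trans e0.symm⟩

end CfsgLib.Fusion.SpFour
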