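import Cfsg.Agent.Lib.Fusion.SpFour.Calc
import Cfsg.Agent.Lib.Fusion.SpFour.Local

/-!
With a nontrivial invariant subgroup of the centre, the only possible essential subgroups are `bcd`
and the subgroups `{b = l a}`, and only `l = 0` in characteristic two.
-/

set_option autoImplicit false
set_option linter.style.haveILetI false
set_option linter.unusedSectionVars false

namespace CfsgLib.Fusion.SpFour.Shapes

open Subgroup U

variable {K : Type*} [Field K] [Finite K] {p : ℕ} [Fact p.Prime] {H : Subgroup (U K)}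
  {G : Subgroup (MulAut H)} {Q : Subgroup (U K)}

theorem mem_normalizer_of_comm {g : U K} (h : ∀ x ∈ H, g * x * g⁻¹ * x⁻¹ ∈ H) :
    g ∈ Subgroup.normalizer (H : Set (U K)) :=
  Subgroup.mem_normalizer_fintype fun x hx => by simpa using H.mul_mem (h x hx) hx

theorem eq_grpA (L : LocBase p H G) (h : ∀ x ∈ H, x.a = 0) : H = grpA K :=
  le_antisymm h fun _ hy => L.self_cent fun x hx => comm_grpA (h x hx) hy

/-- The centre of `H` is central or `H` is abelian. -/
theorem centre_cases (H : Subgroup (U K)) :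
    (∀ w ∈ H, (∀ y ∈ H, y * w = w * y) → w ∈ Subgroup.center (U K)) ∨
      ∀ y ∈ H, ∀ z ∈ H, y * z = z * y := by
  by_cases h : ∃ w ∈ H, (∀ y ∈ H, y * w = w * y) ∧ w ∉ Subgroup.center (U K)
  · obtain ⟨w, _, hwc, hwn⟩ := h
    exact Or.inr fun y hy z hz => comm_trans hwn (hwc y hy) (hwc z hz).symm
  · left
    intro w hw hc
    by_contra hn
    exact h ⟨w, hw, hc, hn⟩

theorem shape_two [CharP K 2] (hX : IsPGroup p (U K)) (L : LocBase p H G) :
    H = grpA K ∨ H = grpB K := by
  by_cases hA : ∀ x ∈ H, x.a = 0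
  · exact Or.inl (eq_grpA L hA)
  by_cases hB : ∀ x ∈ H, x.b = 0
  · exact Or.inr (le_antisymm hB fun y hy => L.self_cent fun x hx => comm_grpB (hB x hx) hy)
  exfalso
  push Not at hA hB
  obtain ⟨x, hxH, hxa⟩ := hA
  obtain ⟨y, hyH, hyb⟩ := hB
  have hcd : ∀ g x : U K, g * x * g⁻¹ * x⁻¹ ∈ Subgroup.center (U K) := fun g x =>
    mem_center_two.2 (by rw [comm_eq]; exact ⟨rfl, rfl⟩)
  have hn : ∀ g : U K, g ∈ Subgroup.normalizer (H : Set (U K)) := fun g =>
    mem_normalizer_of_comm fun z _ => L.center_le (hcd g z)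
  have hcen : ∀ g : U K, ∀ z ∈ Subgroup.center (U K), g * z * g⁻¹ = z := fun g z hz => by
    rw [Subgroup.mem_center_iff.1 hz g, mul_inv_cancel_right]
  have key : (∀ α ∈ G, ∀ z : H, (z : U K) ∈ Subgroup.center (U K) →
      ((α z : H) : U K) ∈ Subgroup.center (U K)) → False := fun hinv =>
    L.proper (eq_top_iff.2 fun g _ =>
      L.mem_of_step hX _ hinv (hn g) (fun z _ hz => hcen g z hz) fun z _ => hcd g z)
  rcases centre_cases H with hz | hab
  · refine key fun α _ z hzc => hz _ (α z).2 (inv_centre H α z ?_)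
    exact fun y _ => Subgroup.mem_center_iff.1 hzc y
  · -- abelian: the involutions are central
    refine key fun α _ z hzc => ?_
    have hxb : x.b ≠ 0 := fun h => hxa (by
      have h1 := ((commute_iff _ _).1 (hab x hxH y hyH)).1
      rw [h, mul_zero] at h1
      exact (mul_eq_zero.1 h1).resolve_right hyb)
    have hinvol : ∀ w ∈ H, w * w = 1 → w ∈ Subgroup.center (U K) := by
      intro w hw hww
      rw [mul_self_two] at hww
      have hc : w.a * w.b = 0 := congrArg U.c hww
      have h1 := ((commute_iff _ _).1 (hab x hxH w hw)).1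
      refine mem_center_two.2 ?_
      rcases mul_eq_zero.1 hc with h | h
      · rw [h, zero_mul] at h1
        exact ⟨h, (mul_eq_zero.1 h1).resolve_left hxa⟩
      · rw [h, mul_zero] at h1
        exact ⟨(mul_eq_zero.1 h1.symm).resolve_right hxb, h⟩
    obtain ⟨za, zb⟩ := mem_center_two.1 hzc
    have hz2 : z * z = 1 := Subtype.ext (by
      rw [Subgroup.coe_mul, mul_self_two, za, zb, Subgroup.coe_one, one_def]
      simp)
    refine hinvol _ (α z).2 ?_
    rw [← Subgroup.coe_mul, ← map_mul, hz2, map_one, Subgroup.coe_one]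

theorem shape_odd [CharP K p] (h2 : (2 : K) ≠ 0) (hX : IsPGroup p (U K)) (L : Loc p H G Q) :
    H = grpA K ∨ ∃ l, H = grpL l := by
  by_cases hA : ∀ x ∈ H, x.a = 0
  · exact Or.inl (eq_grpA L.toLocBase hA)
  right
  push Not at hA
  obtain ⟨x₀, hx₀, hx₀a⟩ := hA
  set Z := Subgroup.center (U K) with hZ
  have hmemZ : ∀ {z : U K}, z ∈ Z ↔ z.a = 0 ∧ z.b = 0 ∧ z.c = 0 := mem_center_odd h2
  have hcen : ∀ g : U K, ∀ z ∈ Z, g * z * g⁻¹ = z := fun g z hz => by
    rw [Subgroup.mem_center_iff.1 hz g, mul_inv_cancel_right]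
  rcases centre_cases H with hz | hab
  · -- the centre of `H` is central
    have hinvZ : ∀ α ∈ G, ∀ z : H, (z : U K) ∈ Z → ((α z : H) : U K) ∈ Z := fun α _ z hzc =>
      hz _ (α z).2 (inv_centre H α z fun y _ => Subgroup.mem_center_iff.1 hzc y)
    have hcv : ∀ v w : K, (⟨0, 0, v, w⟩ : U K) ∈ H := fun v w => by
      have hc : ∀ x : U K, (⟨0, 0, v, w⟩ : U K) * x * (⟨0, 0, v, w⟩ : U K)⁻¹ * x⁻¹ ∈ Z :=
        fun x => hmemZ.2 (by rw [comm_eq]; exact ⟨rfl, rfl, by ring⟩)
      exact L.mem_of_step hX Z hinvZ (mem_normalizer_of_comm fun x _ => L.center_le (hc x))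
        (fun z _ hz => hcen _ z hz) fun x _ => hc x
    have hcd : ∀ z : U K, z.a = 0 → z.b = 0 → z ∈ H := fun z ha hb => by
      have h := hcv z.c z.d
      have e : z = ⟨0, 0, z.c, z.d⟩ := U.ext ha hb rfl rfl
      rwa [e]
    by_cases hcol : ∀ x ∈ H, ∀ y ∈ H, x.a * y.b = y.a * x.b
    · refine ⟨x₀.b / x₀.a, le_antisymm (fun y hy => ?_) fun g hg => ?_⟩
      · show y.b = x₀.b / x₀.a * y.a
        rw [div_mul_eq_mul_div, eq_div_iff hx₀a]
        linear_combination hcol x₀ hx₀ y hy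
      · replace hg : g.b = x₀.b / x₀.a * g.a := hg
        have hc : ∀ x ∈ H, g * x * g⁻¹ * x⁻¹ ∈ Z := fun x hx => hmemZ.2 (by
          rw [comm_eq]
          refine ⟨rfl, rfl, mul_left_cancel₀ hx₀a ?_⟩
          show x₀.a * (g.a * x.b - x.a * g.b) = x₀.a * 0
          rw [hg]
          field_simp
          linear_combination g.a * hcol x₀ hx₀ x hx)
        exact L.mem_of_step hX Z hinvZ (mem_normalizer_of_comm fun x hx => L.center_le (hc x hx))
          (fun z _ hz => hcen g z hz) hc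
    · exfalso
      push Not at hcol
      obtain ⟨x₁, hx₁, x₂, hx₂, hne⟩ := hcol
      let E : Subgroup (U K) := grpA K ⊓ grpB K
      have hE : ∀ {z : U K}, z ∈ E ↔ z.a = 0 ∧ z.b = 0 := Iff.rfl
      have hinvE : ∀ α ∈ G, ∀ z : H, (z : U K) ∈ E → ((α z : H) : U K) ∈ E := by
        intro α hα z hz
        obtain ⟨za, zb⟩ := hE.1 hz
        set u : U K := ((α z : H) : U K) with hu
        have hcomm : ∀ y ∈ H, u.a * y.b - y.a * u.b = 0 := fun y hy => by
          have h0 : ((z * α⁻¹ ⟨y, hy⟩ * z⁻¹ * (α⁻¹ ⟨y, hy⟩)⁻¹ : H) : U K) ∈ Z := by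
            rw [Subgroup.coe_mul, Subgroup.coe_mul, Subgroup.coe_mul, Subgroup.coe_inv,
              Subgroup.coe_inv, hmemZ, comm_eq, za, zb]
            exact ⟨rfl, rfl, by ring⟩
          have h := hinvZ α hα _ h0
          simp only [map_mul, map_inv, MulAut.apply_inv_self, Subgroup.coe_mul,
            Subgroup.coe_inv] at h
          have h1 := (hmemZ.1 h).2.2
          rwa [comm_eq] at h1
        have h1 := hcomm x₁ hx₁
        have h2' := hcomm x₂ hx₂
        refine hE.2 ⟨?_, ?_⟩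
        · exact (mul_eq_zero.1 (show u.a * (x₁.a * x₂.b - x₂.a * x₁.b) = 0 by
            linear_combination x₁.a * h2' - x₂.a * h1)).resolve_right (sub_ne_zero.2 hne)
        · exact (mul_eq_zero.1 (show u.b * (x₁.a * x₂.b - x₂.a * x₁.b) = 0 by
            linear_combination x₁.b * h2' - x₂.b * h1)).resolve_right (sub_ne_zero.2 hne)
      refine L.proper (eq_top_iff.2 fun g _ => ?_)
      have hcE : ∀ x : U K, g * x * g⁻¹ * x⁻¹ ∈ E := fun x => hE.2 (by
        rw [comm_eq]
        exact ⟨rfl, rfl⟩)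
      refine L.mem_of_two_steps hX Z E (fun z hz => hE.2 ⟨(hmemZ.1 hz).1, (hmemZ.1 hz).2.1⟩)
        hinvZ hinvE (mem_normalizer_of_comm fun x _ => hcd _ (hE.1 (hcE x)).1 (hE.1 (hcE x)).2)
        (fun z _ hz => hcen g z hz) (fun x _ hx => hmemZ.2 ?_) fun x _ => hcE x
      rw [comm_eq, (hE.1 hx).1, (hE.1 hx).2]
      exact ⟨rfl, rfl, by ring⟩
  · -- the abelian case
    exfalso
    have hHA : ∀ z ∈ H, z.a = 0 → z ∈ Z := fun z hz ha => by
      obtain ⟨h1, h2'⟩ := (commute_iff _ _).1 (hab x₀ hx₀ z hz)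
      rw [ha, zero_mul] at h1
      have hb := (mul_eq_zero.1 h1).resolve_left hx₀a
      refine hmemZ.2 ⟨ha, hb, ?_⟩
      rw [ha, hb] at h2'
      exact (mul_eq_zero.1 (show 2 * x₀.a * z.c = 0 by linear_combination h2')).resolve_left
        (mul_ne_zero h2 hx₀a)
    have hconjZ : ∀ g ∈ Subgroup.normalizer (H : Set (U K)), ∀ x ∈ H,
        g * x * g⁻¹ * x⁻¹ ∈ Z := fun g hg x hx =>
      hHA _ (H.mul_mem ((hg x).1 hx) (H.inv_mem hx)) (by rw [comm_eq])
    obtain ⟨T, hT⟩ := L.sylow
    have hN : (T : Subgroup G).Normal := by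
      refine FixedExactly.normal_of_fixed G (hX.to_subgroup H) T (Z.subgroupOf H) (Q.subgroupOf H)
        (fun t ht => ?_) (fun t ht ht1 y hy => ?_) (fun y hy z hz => ?_) ?_
        (fun q hq => L.le_center hq) fun α hα q hq => L.inv α hα q hq
      · obtain ⟨g, hg, hge⟩ := (hT t).1 ht
        refine ⟨fun z hz => ?_, fun y => ?_⟩
        · rw [hge]; exact Subtype.ext (hcen g z hz)
        · rw [hge]; exact hconjZ g hg y y.2
      · obtain ⟨g, hg, hge⟩ := (hT t).1 ht
        by_contra hyZ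
        have hgy : g * (y : U K) = (y : U K) * g := by
          rw [hge] at hy
          exact mul_inv_eq_iff_eq_mul.1 (congrArg Subtype.val hy)
        have hgH : g ∈ H := L.self_cent fun x hx =>
          comm_trans hyZ (hab x hx y y.2) hgy.symm
        refine ht1 (Subtype.ext ?_)
        rw [hge]
        refine MulEquiv.ext fun x => Subtype.ext ?_
        show g * (x : U K) * g⁻¹ = _
        rw [hab g hgH x x.2, mul_inv_cancel_right]
        rfl
      · have hya : (y : U K).a ≠ 0 := fun h => hy (hHA y y.2 h)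
        obtain ⟨za, zb, zc⟩ := hmemZ.1 (show (z : U K) ∈ Z from hz)
        set v : K := -((z : U K).d) / (2 * (y : U K).a) with hv
        set g : U K := ⟨0, 0, v, 0⟩ with hg
        have hgn : g ∈ Subgroup.normalizer (H : Set (U K)) := mem_normalizer_of_comm fun x _ =>
          L.center_le (hmemZ.2 (by rw [comm_eq, hg]; exact ⟨rfl, rfl, by ring⟩))
        refine ⟨⟨_, L.conj_mem g hgn⟩, (hT _).2 ⟨g, hgn, rfl⟩, Subtype.ext ?_⟩
        show g * (y : U K) * g⁻¹ = (z : U K) * y
        rw [← mul_inv_eq_iff_eq_mul, comm_eq, hg]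
        refine U.ext za.symm zb.symm ?_ ?_
        · show (0 : K) * (y : U K).b - (y : U K).a * 0 = (z : U K).c
          rw [zc]; ring
        · show (0 : K) ^ 2 * (y : U K).b + 2 * 0 * (y : U K).c -
            ((y : U K).a ^ 2 * 0 + 2 * (y : U K).a * v) = (z : U K).d
          rw [hv]
          field_simp
          ring
      · exact fun h => L.ne_bot ((Subgroup.subgroupOf_eq_bot.1 h).eq_bot_of_le L.Q_le)
    obtain ⟨g, hg, hgH⟩ := L.exists_normalizing hX
    exact hgH (L.radical _ hN T.isPGroup' g hg (L.conj_mem g hg) ((hT _).2 ⟨g, hg, rfl⟩))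

end CfsgLib.Fusion.SpFour.Shapes
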