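import Cfsg.Agent.Lib.Fusion.SpFour.SmallFourSide
import Cfsg.Agent.Lib.Fusion.SpFour.Calc
import Mathlib.GroupTheory.SchurZassenhaus

/-!
Automorphisms of the root coordinate group over four elements.
-/

set_option autoImplicit false
set_option linter.style.haveILetI false
set_option linter.unusedSectionVars false

namespace CfsgLib.Fusion.SpFour.Four

/-- A field isomorphism on coordinates. -/
def mapU {K L : Type*} [Field K] [Field L] (f : K ≃+* L) : U K ≃* U L where
  toFun x := ⟨f x.a, f x.b, f x.c, f x.d⟩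
  invFun x := ⟨f.symm x.a, f.symm x.b, f.symm x.c, f.symm x.d⟩
  left_inv x := by ext <;> simp
  right_inv x := by ext <;> simp
  map_mul' x y := by ext <;> simp [U.mul_def, map_ofNat]

variable {K : Type*} [Field K] [Finite K] [CharP K 2]

/-- The diagonal automorphisms. -/
def dgU : Kˣ × Kˣ →* MulAut (U K) where
  toFun lm :=
    { toFun := fun x => ⟨lm.1 * x.a, lm.2 * x.b, (lm.1 * lm.2 : K) * x.c, (lm.1 ^ 2 * lm.2 : K) * x.d⟩
      invFun := fun x => ⟨(lm.1⁻¹ : Kˣ) * x.a, (lm.2⁻¹ : Kˣ) * x.b,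
        ((lm.1⁻¹ : Kˣ) * (lm.2⁻¹ : Kˣ) : K) * x.c, ((lm.1⁻¹ : Kˣ) ^ 2 * (lm.2⁻¹ : Kˣ) : K) * x.d⟩
      left_inv := fun x => by ext <;> simp <;> field_simp
      right_inv := fun x => by ext <;> simp <;> field_simp
      map_mul' := fun x y => by ext <;> simp only [U.mul_def] <;> ring }
  map_one' := MulEquiv.ext fun x => by ext <;> simp
  map_mul' p q := MulEquiv.ext fun x => by ext <;> simp [MulAut.mul_apply] <;> ring

omit [Finite K] [CharP K 2] in
theorem dgU_apply (l m : Kˣ) (x : U K) :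
    dgU (l, m) x = ⟨l * x.a, m * x.b, (l * m : K) * x.c, (l ^ 2 * m : K) * x.d⟩ := rfl

omit [Finite K] [CharP K 2] in
theorem dgU_injective : Function.Injective (dgU (K := K)) := by
  rintro ⟨l, m⟩ ⟨l', m'⟩ h
  have e := congrArg (fun α : MulAut (U K) => α ⟨1, 1, 0, 0⟩) h
  simp only [dgU_apply, U.ext_iff, mul_one] at e
  exact Prod.ext (Units.ext e.1) (Units.ext e.2.1)

/-- The automorphism exchanging the two central coordinates. -/
def piU (hq : Nat.card K = 4) : MulAut (U K) where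
  toFun x := ⟨x.a ^ 2, x.b, x.d, x.c⟩
  invFun x := ⟨x.a ^ 2, x.b, x.d, x.c⟩
  left_inv x := U.ext (by show (x.a ^ 2) ^ 2 = x.a; rw [← pow_mul]; exact pow_four hq _) rfl rfl rfl
  right_inv x := U.ext (by show (x.a ^ 2) ^ 2 = x.a; rw [← pow_mul]; exact pow_four hq _) rfl rfl rfl
  map_mul' x y := by
    have h2 : (2 : K) = 0 := CharTwo.two_eq_zero
    ext <;> simp only [U.mul_def, h2, zero_mul, add_zero]
    · exact CharTwo.add_sq x.a y.a
    · rw [← pow_mul, show 2 * 2 = 4 from rfl, pow_four hq]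

theorem piU_apply (hq : Nat.card K = 4) (x : U K) : piU hq x = ⟨x.a ^ 2, x.b, x.d, x.c⟩ := rfl

/-- The central automorphisms moving `d`. -/
def psiU (β γ : K) : MulAut (U K) where
  toFun x := ⟨x.a, x.b, x.c, x.d + β * x.b ^ 2 + γ * x.a⟩
  invFun x := ⟨x.a, x.b, x.c, x.d + β * x.b ^ 2 + γ * x.a⟩
  left_inv x := by
    have h2 : (2 : K) = 0 := CharTwo.two_eq_zero
    ext <;> simp only
    linear_combination (β * x.b ^ 2 + γ * x.a) * h2
  right_inv x := by
    have h2 : (2 : K) = 0 := CharTwo.two_eq_zero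
    ext <;> simp only
    linear_combination (β * x.b ^ 2 + γ * x.a) * h2
  map_mul' x y := by
    have h2 : (2 : K) = 0 := CharTwo.two_eq_zero
    ext <;> simp only [U.mul_def, CharTwo.add_sq, h2, zero_mul, add_zero]
    ring

theorem psiU_apply (β γ : K) (x : U K) :
    psiU β γ x = ⟨x.a, x.b, x.c, x.d + β * x.b ^ 2 + γ * x.a⟩ := rfl

/-- The automorphisms stabilising `bcd`. -/
def PA (K : Type*) [Field K] : Subgroup (MulAut (U K)) where
  carrier := {α | ∀ x, (α x).a = 0 ↔ x.a = 0}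
  one_mem' := fun x => Iff.rfl
  mul_mem' := fun {α β} hα hβ x => (hα (β x)).trans (hβ x)
  inv_mem' := fun {α} hα x => by
    conv_rhs => rw [← MulAut.apply_inv_self (U K) α x]
    exact (hα _).symm

theorem sq_one_iff (x : U K) : x * x = 1 ↔ x.a = 0 ∨ x.b = 0 := by
  rw [U.mul_self_two, U.one_def, U.ext_iff]
  refine ⟨fun h => mul_eq_zero.1 h.2.2.1, fun h => ?_⟩
  rcases h with h | h <;> simp [h]

theorem center_of_mem {α : MulAut (U K)} {x : U K} (h : x.a = 0 ∧ x.b = 0) :
    (α x).a = 0 ∧ (α x).b = 0 := by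
  rw [← U.mem_center_two] at h ⊢
  rw [Subgroup.mem_center_iff] at h ⊢
  intro y
  have := congrArg α (h (α.symm y))
  simpa using this

theorem pa_b {α : MulAut (U K)} (hα : α ∈ PA K) (x : U K) : (α x).b = 0 ↔ x.b = 0 := by
  have key : ∀ β ∈ PA K, ∀ y : U K, y.b = 0 → (β y).b = 0 := fun β hβ y hy => by
    by_cases ha : y.a = 0
    · exact (center_of_mem ⟨ha, hy⟩).2
    · have h : β y * β y = 1 := by rw [← map_mul, (sq_one_iff y).2 (Or.inr hy), map_one]
      exact ((sq_one_iff _).1 h).resolve_left fun h' => ha ((hβ y).1 h')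
  refine ⟨fun h => ?_, key α hα x⟩
  have := key α⁻¹ (inv_mem hα) _ h
  rwa [MulAut.inv_apply_self] at this

/-- An automorphism stabilises `bcd` or maps it onto `acd`. -/
theorem image_grpA (α : MulAut (U K)) :
    α ∈ PA K ∨ ∀ x : U K, x.a = 0 → (α x).b = 0 := by
  by_cases h : ∀ x : U K, x.a = 0 → (α x).a = 0
  · refine Or.inl fun x => ⟨fun hx => ?_, h x⟩
    let L : Subgroup (U K) := (U.grpA K).map α.toMonoidHom
    have hle : L ≤ U.grpA K := by rintro _ ⟨y, hy, rfl⟩; exact h y hy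
    have he := Subgroup.eq_of_le_of_card_ge hle
      (Subgroup.card_map_of_injective α.injective).ge
    have hm : α x ∈ L := he ▸ hx
    obtain ⟨y, hy, e⟩ := hm
    exact α.injective e ▸ hy
  · push Not at h
    obtain ⟨y, hy, hy'⟩ := h
    refine Or.inr fun x hx => ?_
    have inv : ∀ z : U K, z.a = 0 → (α z).a = 0 ∨ (α z).b = 0 := fun z hz => (sq_one_iff _).1 (by
      rw [← map_mul, (sq_one_iff z).2 (Or.inl hz), map_one])
    have hb : (α y).b = 0 := (inv y hy).resolve_left hy'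
    rcases inv x hx with h1 | h1
    · by_contra h2
      rcases inv (y * x) (show y.a + x.a = 0 by rw [hy, hx, add_zero]) with h3 | h3 <;>
        rw [map_mul] at h3
      · exact hy' (by simpa [U.mul_def, h1] using h3)
      · exact h2 (by simpa [U.mul_def, hb] using h3)
    · exact h1

theorem not_pa_mul {α β : MulAut (U K)} (hα : α ∉ PA K) (hβ : β ∉ PA K) : α * β ∈ PA K := by
  have hA := (image_grpA α).resolve_left hα
  have hB := (image_grpA β).resolve_left hβ
  refine (image_grpA (α * β)).resolve_right fun h => hα ?_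
  -- `β` maps `bcd` onto `acd`, so `α` would map both into `acd`
  exfalso
  let L : Subgroup (U K) := (U.grpA K).map β.toMonoidHom
  have hle : L ≤ U.grpB K := by rintro _ ⟨y, hy, rfl⟩; exact hB y hy
  have hc : Nat.card (U.grpB K) ≤ Nat.card L := by
    rw [Subgroup.card_map_of_injective β.injective]
    exact Nat.card_le_card_of_injective (fun x : U.grpB K =>
        (⟨⟨0, x.1.a, x.1.c, x.1.d⟩, rfl⟩ : U.grpA K))
      fun x y e => by
        have := congrArg Subtype.val e
        simp only [U.ext_iff, true_and] at this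
        exact Subtype.ext (U.ext this.1 (x.2.trans y.2.symm) this.2.1 this.2.2)
  have he := Subgroup.eq_of_le_of_card_ge hle hc
  have hall : ∀ z : U K, (α z).b = 0 := fun z => by
    rw [show z = ⟨0, z.b, 0, 0⟩ * ⟨z.a, 0, z.c, z.d⟩ by ext <;> simp [U.mul_def], map_mul]
    have h1 := hA ⟨0, z.b, 0, 0⟩ rfl
    have hm : (⟨z.a, 0, z.c, z.d⟩ : U K) ∈ L := he ▸ rfl
    obtain ⟨y, hy, e⟩ := hm
    have h2 : (α ⟨z.a, 0, z.c, z.d⟩).b = 0 := by rw [← e]; exact h y hy
    simp [U.mul_def, h1, h2]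
  have := hall (α.symm ⟨0, 1, 0, 0⟩)
  simp at this

/-- The two actions on the quotient by the centre. -/
theorem a_mul_center (α : MulAut (U K)) (x z : U K) (hz : z.a = 0) (hα : α ∈ PA K) :
    (α (x * z)).a = (α x).a := by
  rw [map_mul, U.mul_def]
  show (α x).a + (α z).a = _
  rw [(hα z).2 hz, add_zero]

theorem a_eq {α : MulAut (U K)} (hα : α ∈ PA K) (x : U K) : (α x).a = (α ⟨x.a, 0, 0, 0⟩).a := by
  set y : U K := ⟨x.a, 0, 0, 0⟩
  rw [show x = y * (y⁻¹ * x) by rw [mul_inv_cancel_left]]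
  refine a_mul_center α _ _ ?_ hα
  show -y.a + x.a = 0
  exact neg_add_cancel x.a

theorem b_eq {α : MulAut (U K)} (hα : α ∈ PA K) (x : U K) : (α x).b = (α ⟨0, x.b, 0, 0⟩).b := by
  set y : U K := ⟨0, x.b, 0, 0⟩
  rw [show x = y * (y⁻¹ * x) by rw [mul_inv_cancel_left], map_mul, U.mul_def]
  show (α y).b + (α (y⁻¹ * x)).b = (α y).b
  rw [(pa_b hα (y⁻¹ * x)).2 (show -y.b + x.b = 0 from neg_add_cancel x.b), add_zero]

/-- The permutations of the nonzero elements induced on the two quotients. -/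
def actAB : PA K →* Equiv.Perm {x : K // x ≠ 0} × Equiv.Perm {x : K // x ≠ 0} :=
  MonoidHom.prod
    { toFun := fun α =>
        { toFun := fun t => ⟨((α : MulAut (U K)) ⟨t, 0, 0, 0⟩).a, fun h => t.2 ((α.2 _).1 h)⟩
          invFun := fun t => ⟨(((α⁻¹ : PA K) : MulAut (U K)) ⟨t, 0, 0, 0⟩).a,
            fun h => t.2 (((α⁻¹ : PA K).2 _).1 h)⟩
          left_inv := fun t => Subtype.ext (by
            show (((α⁻¹ : PA K) : MulAut (U K)) ⟨_, 0, 0, 0⟩).a = _
            rw [← a_eq (α⁻¹ : PA K).2, Subgroup.coe_inv, MulAut.inv_apply_self])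
          right_inv := fun t => Subtype.ext (by
            show ((α : MulAut (U K)) ⟨_, 0, 0, 0⟩).a = _
            rw [← a_eq α.2, Subgroup.coe_inv, MulAut.apply_inv_self]) }
      map_one' := Equiv.ext fun t => rfl
      map_mul' := fun α β => Equiv.ext fun t => Subtype.ext (by
        show ((α : MulAut (U K)) ((β : MulAut (U K)) ⟨t, 0, 0, 0⟩)).a = _
        rw [a_eq α.2]; rfl) }
    { toFun := fun α =>
        { toFun := fun t => ⟨((α : MulAut (U K)) ⟨0, t, 0, 0⟩).b, fun h => t.2 ((pa_b α.2 _).1 h)⟩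
          invFun := fun t => ⟨(((α⁻¹ : PA K) : MulAut (U K)) ⟨0, t, 0, 0⟩).b,
            fun h => t.2 ((pa_b (α⁻¹ : PA K).2 _).1 h)⟩
          left_inv := fun t => Subtype.ext (by
            show (((α⁻¹ : PA K) : MulAut (U K)) ⟨0, _, 0, 0⟩).b = _
            rw [← b_eq (α⁻¹ : PA K).2, Subgroup.coe_inv, MulAut.inv_apply_self])
          right_inv := fun t => Subtype.ext (by
            show ((α : MulAut (U K)) ⟨0, _, 0, 0⟩).b = _
            rw [← b_eq α.2, Subgroup.coe_inv, MulAut.apply_inv_self]) }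
      map_one' := Equiv.ext fun t => rfl
      map_mul' := fun α β => Equiv.ext fun t => Subtype.ext (by
        show ((α : MulAut (U K)) ((β : MulAut (U K)) ⟨0, t, 0, 0⟩)).b = _
        rw [b_eq α.2]; rfl) }

/-- Every central element is a product of two squares. -/
theorem center_squares (hq : Nat.card K = 4) {z : U K} (hz : z.a = 0 ∧ z.b = 0) :
    ∃ x y : U K, z = (x * x) * (y * y) := by
  have h2 : (2 : K) = 0 := CharTwo.two_eq_zero
  obtain ⟨w, h0, h1, -⟩ := exists_ne hq 0 1 1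
  have hw := omega_sq hq h0 h1
  refine ⟨⟨1, (w + 1) * z.c + w * z.d, 0, 0⟩, ⟨w, z.c + z.d, 0, 0⟩, ?_⟩
  rw [U.mul_self_two, U.mul_self_two]
  ext <;> simp only [U.mul_def, h2, zero_mul, add_zero, mul_zero, zero_add, one_mul, one_pow]
  · exact hz.1
  · exact hz.2
  · linear_combination -(w * z.c + w * z.d) * h2
  · linear_combination -(z.c + z.d) * hw - (w * z.c + w * z.d + z.c) * h2 + (z.c - z.c) * h2

/-- An element inducing nothing on the quotient is an involution. -/
theorem sq_of_act_one (hq : Nat.card K = 4) (α : PA K) (h : actAB α = 1) : α * α = 1 := by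
  have ha : ∀ x : U K, ((α : MulAut (U K)) x).a = x.a := fun x => by
    rw [a_eq α.2]
    by_cases hx : x.a = 0
    · rw [hx]; exact (α.2 _).2 rfl
    · exact congrArg Subtype.val (Equiv.congr_fun (congrArg Prod.fst h) ⟨x.a, hx⟩)
  have hb : ∀ x : U K, ((α : MulAut (U K)) x).b = x.b := fun x => by
    rw [b_eq α.2]
    by_cases hx : x.b = 0
    · rw [hx]; exact (pa_b α.2 _).2 rfl
    · exact congrArg Subtype.val (Equiv.congr_fun (congrArg Prod.snd h) ⟨x.b, hx⟩)
  have hfix : ∀ z : U K, z.a = 0 ∧ z.b = 0 → (α : MulAut (U K)) z = z := fun z hz => by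
    obtain ⟨x, y, rfl⟩ := center_squares hq hz
    simp only [map_mul]
    rw [← map_mul, ← map_mul, map_mul (α : MulAut (U K)) x x, map_mul (α : MulAut (U K)) y y,
      U.mul_self_two, U.mul_self_two, U.mul_self_two x, U.mul_self_two y, ha, ha, hb, hb]
  refine Subtype.ext (MulEquiv.ext fun x => ?_)
  show (α : MulAut (U K)) ((α : MulAut (U K)) x) = x
  set z := x⁻¹ * (α : MulAut (U K)) x with hz
  have hzc : z.a = 0 ∧ z.b = 0 := ⟨by show -x.a + _ = 0; rw [ha, neg_add_cancel],
    by show -x.b + _ = 0; rw [hb, neg_add_cancel]⟩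
  have hz2 : z * z = 1 := (sq_one_iff z).2 (Or.inl hzc.1)
  have e : (α : MulAut (U K)) x = x * z := by rw [hz, mul_inv_cancel_left]
  rw [e, map_mul, hfix z hzc, e, mul_assoc, hz2, mul_one]

omit [Finite K] [CharP K 2] in
theorem dgU_mem (p : Kˣ × Kˣ) : dgU p ∈ PA K := fun x => by
  obtain ⟨l, m⟩ := p
  rw [dgU_apply]
  exact mul_eq_zero.trans (or_iff_right l.ne_zero)

theorem card_perm (hq : Nat.card K = 4) :
    Nat.card (Equiv.Perm {x : K // x ≠ 0} × Equiv.Perm {x : K // x ≠ 0}) = 36 := by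
  classical
  letI : Fintype K := Fintype.ofFinite K
  rw [Nat.card_prod, Nat.card_eq_fintype_card, Fintype.card_perm, Fintype.card_subtype_compl,
    Fintype.card_subtype_eq, ← Nat.card_eq_fintype_card, hq]
  decide

theorem card_dvd_nine (hq : Nat.card K = 4) (R : Subgroup (PA K)) (h : Odd (Nat.card R)) :
    Nat.card R ∣ 9 := by
  have hinj : Function.Injective (actAB.comp R.subtype) := by
    refine (injective_iff_map_eq_one _).2 fun r hr => ?_
    have h1 := sq_of_act_one hq (r : PA K) hr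
    have h2 : orderOf r ∣ 2 := orderOf_dvd_of_pow_eq_one (Subtype.ext (by
      rw [pow_two, Subgroup.coe_mul, h1]; rfl))
    have h3 : orderOf r ∣ Nat.card R := orderOf_dvd_natCard r
    have h4 : Nat.Coprime 2 (Nat.card R) := (Nat.coprime_two_left).2 h
    exact orderOf_eq_one_iff.1 (Nat.eq_one_of_dvd_coprimes h4 h2 h3)
  have h5 : Nat.card R ∣ 36 := by
    rw [← card_perm hq, Nat.card_congr (MonoidHom.ofInjective hinj).toEquiv]
    exact Subgroup.card_subgroup_dvd_card _
  have h6 : Nat.Coprime (Nat.card R) 4 := (Nat.Coprime.pow_right 2 (Nat.coprime_two_right.2 h))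
  exact h6.dvd_of_dvd_mul_left h5

/-- A subgroup containing the inner automorphisms with odd index is diagonal in suitable
coordinates. -/
theorem exists_torus_form (hq : Nat.card K = 4) (X : Subgroup (MulAut (U K))) (hinn : Cfsg.Inn (U K) ≤ X)
    (hodd : Odd ((Cfsg.Inn (U K)).relIndex X)) :
    ∃ φ ∈ PA K, ∀ α ∈ X, ∃ (u : U K) (p : Kˣ × Kˣ), φ * α * φ⁻¹ = MulAut.conj u * dgU p := by
  haveI : Fact (Nat.Prime 3) := ⟨Nat.prime_three⟩
  haveI : Finite (MulAut (U K)) := Finite.of_injective _ MulEquiv.toEquiv_injective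
  have hIP : Cfsg.Inn (U K) ≤ PA K := by
    rintro _ ⟨u, rfl⟩ x
    rw [MulAut.conj_apply, U.conj_eq]
  have hXP : X ≤ PA K := fun α hα => by
    by_contra hn
    obtain ⟨k, hk⟩ := hodd
    have h2 : α * α ∈ PA K := not_pa_mul hn hn
    have ho : α ^ (Cfsg.Inn (U K)).relIndex X ∈ Cfsg.Inn (U K) := by
      have := Subgroup.pow_index_mem ((Cfsg.Inn (U K)).subgroupOf X) ⟨α, hα⟩
      exact this
    rw [hk, pow_succ, pow_mul, pow_two] at ho
    exact hn ((Subgroup.mul_mem_cancel_left _ (Subgroup.pow_mem _ h2 k)).1 (hIP ho))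
  set I := (Cfsg.Inn (U K)).subgroupOf X with hI
  haveI : I.Normal := Subgroup.Normal.subgroupOf inferInstance X
  have hcopI : (Nat.card I).Coprime I.index := by
    have hp : IsPGroup 2 (U K) := IsPGroup.of_card (n := 8) (by
      let f : U K ≃ K × K × K × K :=
        { toFun := fun x => (x.a, x.b, x.c, x.d)
          invFun := fun t => ⟨t.1, t.2.1, t.2.2.1, t.2.2.2⟩
          left_inv := fun x => rfl
          right_inv := fun t => rfl }
      rw [Nat.card_congr f, Nat.card_prod, Nat.card_prod, Nat.card_prod, hq]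
      norm_num)
    haveI : Fact (Nat.Prime 2) := ⟨Nat.prime_two⟩
    obtain ⟨n, hn⟩ := (hp.to_quotient (Subgroup.center (U K))).exists_card_eq
    have hc : Nat.card (Cfsg.Inn (U K)) = 2 ^ n := by
      rw [← hn]
      refine Nat.card_congr ?_
      exact ((QuotientGroup.quotientMulEquivOfEq (by
        ext u; rw [MonoidHom.mem_ker, Subgroup.mem_center_iff]
        constructor
        · intro h; ext y : 1; exact mul_inv_eq_iff_eq_mul.2 (h y).symm
        · intro h y; exact (mul_inv_eq_iff_eq_mul.1 (DFunLike.congr_fun h y : u * y * u⁻¹ = y)).symm :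
        Subgroup.center (U K) = (MulAut.conj : U K →* MulAut (U K)).ker)).trans
        (QuotientGroup.quotientKerEquivRange _)).symm.toEquiv
    rw [Nat.card_congr (Subgroup.subgroupOfEquivOfLe hinn).toEquiv, hc]
    exact Nat.Coprime.pow_left n (Nat.coprime_two_left.2 hodd)
  obtain ⟨R, hR⟩ := Subgroup.exists_right_complement'_of_coprime hcopI
  set R' : Subgroup (PA K) := (R.map X.subtype).subgroupOf (PA K) with hR'
  have hRP : R.map X.subtype ≤ PA K := (Subgroup.map_subtype_le R).trans hXP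
  have hcR : Nat.card R' = I.index := by
    rw [Nat.card_congr (Subgroup.subgroupOfEquivOfLe hRP).toEquiv,
      Subgroup.card_map_of_injective X.subtype_injective]
    exact (hR.symm.index_eq_card).symm
  have h9 := card_dvd_nine hq R' (hcR ▸ hodd)
  obtain ⟨j, -, hj⟩ := (Nat.dvd_prime_pow Nat.prime_three).1 (show Nat.card R' ∣ 3 ^ 2 from h9)
  let D : Subgroup (PA K) := ((dgU (K := K)).codRestrict (PA K) dgU_mem).range
  have hD : Nat.card D = 9 := by
    rw [← Nat.card_congr (MonoidHom.ofInjective (f := (dgU (K := K)).codRestrict (PA K) dgU_mem)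
      fun a b e => dgU_injective (congrArg Subtype.val e)).toEquiv, Nat.card_prod]
    letI : Fintype K := Fintype.ofFinite K
    classical
    rw [Nat.card_eq_fintype_card, Fintype.card_units, ← Nat.card_eq_fintype_card, hq]
  obtain ⟨P, hP⟩ := (IsPGroup.of_card (p := 3) (n := 2) hD).exists_le_sylow
  have hPD : D = (P : Subgroup (PA K)) := by
    refine Subgroup.eq_of_le_of_card_ge hP ?_
    have hodd3 : Odd (Nat.card P) := by
      obtain ⟨n, hn⟩ := P.2.exists_card_eq
      rw [hn]; exact Odd.pow (by decide)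
    rw [hD]
    exact Nat.le_of_dvd (by norm_num) (card_dvd_nine hq _ hodd3)
  obtain ⟨Q, hQ⟩ := (IsPGroup.of_card (p := 3) hj).exists_le_sylow
  obtain ⟨φ, hφ⟩ := MulAction.exists_smul_eq (PA K) Q P
  refine ⟨φ, φ.2, fun α hα => ?_⟩
  obtain ⟨⟨i, r⟩, hir, -⟩ := hR.existsUnique ⟨α, hα⟩
  have hrR : (⟨(r : X).1, hXP (r : X).2⟩ : PA K) ∈ R' := ⟨r, r.2, rfl⟩
  have h1 : φ * ⟨(r : X).1, hXP (r : X).2⟩ * φ⁻¹ ∈ D := by
    rw [hPD, ← hφ]
    exact Subgroup.smul_mem_pointwise_smul _ (MulAut.conj φ) _ (hQ hrR)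
  obtain ⟨p, hp⟩ := h1
  obtain ⟨u, hu⟩ : ((i : X) : MulAut (U K)) ∈ Cfsg.Inn (U K) := i.2
  refine ⟨(φ : MulAut (U K)) u, p, ?_⟩
  have hp' : dgU p = (φ : MulAut (U K)) * (r : X).1 * (φ : MulAut (U K))⁻¹ := congrArg Subtype.val hp
  have hir' : ((i : X) : MulAut (U K)) * (r : X).1 = α := congrArg Subtype.val hir
  have hcj : MulAut.conj ((φ : MulAut (U K)) u) = (φ : MulAut (U K)) * MulAut.conj u * (φ : MulAut (U K))⁻¹ :=
    MulEquiv.ext fun x => by
      simp [MulAut.mul_apply, MulAut.conj_apply]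
  rw [hp', hcj, ← hir', ← hu]
  group

end CfsgLib.Fusion.SpFour.Four
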