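import Cfsg.Agent.Lib.Fusion.SpFour.SmallFourGen
import Cfsg.Agent.Lib.Fusion.SpFour.SmallFourAut
import Cfsg.Agent.Lib.Fusion.SpFour.Transport
import Cfsg.Agent.Lib.Fusion.SpFour.Top

/-!
The automizers of the two abelian subgroups of index four in coordinates.
-/

set_option autoImplicit false
set_option linter.style.haveILetI false
set_option linter.unusedSectionVars false

namespace CfsgLib.Fusion.SpFour.Four

open Cfsg Cfsg.FusionSystem

universe u

/-- A side of the root coordinate group. -/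
structure Side (K : Type*) [Field K] where
  H : Subgroup (U K)
  normal : H.Normal
  i : V3 K ≃* H
  σ : K → K → K
  law : ShearLaw σ
  sOf : U K → K
  sOf_surj : Function.Surjective sOf
  P : Kˣ → Kˣ → K
  coef : K → K → K
  center : ∀ c d, (i (v3 0 c d) : U K) = ⟨0, 0, c, d⟩
  conj : ∀ (u : U K) (x c d : K),
    u * (i (v3 x c d) : U K) * u⁻¹ = i (v3 x (c + σ (sOf u) x) (d + sOf u * x))
  dg : ∀ (l m : Kˣ) (x c d : K), dgU (l, m) (i (v3 x c d) : U K) =
    i (v3 (P l m * x) ((l * m : K) * c) ((l ^ 2 * m : K) * d))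
  twist : ∀ l m : Kˣ, (l * m : K) ≠ 1 → (l ^ 2 * m : K) ≠ P l m ^ 2

variable {K : Type*} [Field K] [Finite K] [CharP K 2]

/-- The side `bcd`. -/
def sideA (hq : Nat.card K = 4) : Side K where
  H := U.grpA K
  normal := ⟨fun x (hx : x.a = 0) u => show (u * x * u⁻¹).a = 0 by rw [U.conj_eq]; exact hx⟩
  i :=
    { toFun := fun v => ⟨⟨0, c1 v, c2 v, c3 v⟩, rfl⟩
      invFun := fun x => v3 x.1.b x.1.c x.1.d
      left_inv := fun v => rfl
      right_inv := fun x => Subtype.ext (U.ext x.2.symm rfl rfl rfl)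
      map_mul' := fun v w => Subtype.ext (by
        ext <;> simp [U.mul_def, c1_mul, c2_mul, c3_mul]) }
  σ s x := s ^ 2 * x
  law :=
    { zero_right := fun s => mul_zero _
      zero_left := fun x => by simp
      cov := fun c d hc hd => ⟨c / d, d / (c / d), div_ne_zero hc hd,
        by field_simp, by field_simp⟩
      uniq := fun s s' x x' h1 h2 h3 => by
        have e : (s - s') * (s * x) = 0 := by linear_combination h1 - s' * h2
        exact sub_eq_zero.1 ((mul_eq_zero.1 e).resolve_right h3) }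
  sOf u := u.a ^ 2
  sOf_surj s := ⟨⟨s ^ 2, 0, 0, 0⟩, by show (s ^ 2) ^ 2 = s; rw [← pow_mul]; exact pow_four hq s⟩
  P _ m := m
  coef β _ := β
  center c d := rfl
  conj u x c d := by
    have h2 : (2 : K) = 0 := CharTwo.two_eq_zero
    show u * (⟨0, x, c, d⟩ : U K) * u⁻¹ = ⟨0, x, c + (u.a ^ 2) ^ 2 * x, d + u.a ^ 2 * x⟩
    rw [U.conj_eq, ← pow_mul, show 2 * 2 = 4 from rfl, pow_four hq, h2]
    ext <;> simp only <;> ring
  dg l m x c d := by
    show dgU (l, m) (⟨0, x, c, d⟩ : U K) = ⟨0, m * x, (l * m : K) * c, (l ^ 2 * m : K) * d⟩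
    rw [dgU_apply, mul_zero]
  twist l m h e := h (by
    have h1 : (l : K) ^ 2 = m := mul_right_cancel₀ m.ne_zero (e.trans (pow_two (m : K)))
    rw [← h1]
    linear_combination pow_three hq l.ne_zero)

/-- The side `acd`, with `a = x²`. -/
def sideB (hq : Nat.card K = 4) : Side K where
  H := U.grpB K
  normal := ⟨fun x (hx : x.b = 0) u => show (u * x * u⁻¹).b = 0 by rw [U.conj_eq]; exact hx⟩
  i :=
    { toFun := fun v => ⟨⟨c1 v ^ 2, 0, c2 v, c3 v⟩, rfl⟩
      invFun := fun x => v3 (x.1.a ^ 2) x.1.c x.1.d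
      left_inv := fun v => by
        show v3 ((c1 v ^ 2) ^ 2) (c2 v) (c3 v) = v
        rw [← pow_mul, pow_four hq, v3_eta]
      right_inv := fun x => Subtype.ext (U.ext (by
        show (x.1.a ^ 2) ^ 2 = x.1.a
        rw [← pow_mul, pow_four hq]) x.2.symm rfl rfl)
      map_mul' := fun v w => Subtype.ext (by
        have h2 : (2 : K) = 0 := CharTwo.two_eq_zero
        ext <;> simp [U.mul_def, c1_mul, c2_mul, c3_mul, CharTwo.add_sq, h2]) }
  σ s x := s * x ^ 2
  law :=
    { zero_right := fun s => by simp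
      zero_left := fun x => zero_mul _
      cov := fun c d hc hd => ⟨d ^ 2 / c, c / d, div_ne_zero (pow_ne_zero 2 hd) hc,
        by field_simp, by field_simp⟩
      uniq := fun s s' x x' h1 h2 h3 => by
        by_contra hne
        have e : (s' - s) * (s * x ^ 2) = 0 := by
          linear_combination s' * h1 - (s * x + s' * x') * h2
        rcases mul_eq_zero.1 e with h | h
        · exact hne (sub_eq_zero.1 h).symm
        · exact h3 (by
            rcases mul_eq_zero.1 h with h | h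
            · rw [h, zero_mul]
            · rw [pow_eq_zero_iff two_ne_zero] at h; rw [h, mul_zero]) }
  sOf u := u.b
  sOf_surj s := ⟨⟨0, s, 0, 0⟩, rfl⟩
  P l _ := l ^ 2
  coef _ γ := γ
  center c d := by
    show (⟨(0 : K) ^ 2, 0, c, d⟩ : U K) = _
    rw [zero_pow two_ne_zero]
  conj u x c d := by
    have h2 : (2 : K) = 0 := CharTwo.two_eq_zero
    show u * (⟨x ^ 2, 0, c, d⟩ : U K) * u⁻¹ = ⟨x ^ 2, 0, c + u.b * x ^ 2, d + u.b * x⟩
    rw [U.conj_eq, ← pow_mul, show 2 * 2 = 4 from rfl, pow_four hq, h2]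
    ext <;> simp only
    · linear_combination (-(x ^ 2 * u.b)) * h2
    · linear_combination (-(x * u.b)) * h2
  dg l m x c d := by
    show dgU (l, m) (⟨x ^ 2, 0, c, d⟩ : U K) =
      ⟨((l : K) ^ 2 * x) ^ 2, 0, (l * m : K) * c, (l ^ 2 * m : K) * d⟩
    rw [dgU_apply, mul_zero, mul_pow, ← pow_mul, show 2 * 2 = 4 from rfl, pow_four hq]
  twist l m h e := h (by
    have h4 : ((l : K) ^ 2) ^ 2 = l := by rw [← pow_mul]; exact pow_four hq _
    rw [h4] at e
    exact mul_left_cancel₀ l.ne_zero (by rw [mul_one]; linear_combination e))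

variable {Ω : Type u} [Group Ω] {S : Subgroup Ω} [Finite S] {F : FusionSystem S}

/-- Automizers read through an isomorphism. -/
theorem mem_map_congr {M : Type*} [Group M] {P : Subgroup Ω} (hP : P ≤ S) (j : M ≃* P)
    {g : MulAut M} : g ∈ (F.autGroup P).map (MulAut.congr j.symm).toMonoidHom ↔
      ∃ f, IsMap F P f ∧ ∀ m, f (j m) = (j (g m) : Ω) := by
  constructor
  · rintro ⟨α, hα, rfl⟩
    refine ⟨_, isMap_of_autGroup hP hα, fun m => ?_⟩
    rw [toFun_apply]
    show ((α (j m) : P) : Ω) = (j (j.symm (α (j m))) : Ω)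
    rw [MulEquiv.apply_symm_apply]
  · rintro ⟨f, hf, hfm⟩
    refine ⟨MulAut.congr j g, (autGroup_iff_isMap hP (α := MulAut.congr j g) fun x => ?_).2 hf, ?_⟩
    · obtain ⟨m, rfl⟩ := j.surjective x
      rw [hfm]
      show (j (g (j.symm (j m))) : Ω) = _
      rw [MulEquiv.symm_apply_apply]
    · refine MulEquiv.ext fun m => ?_
      show j.symm (j (g (j.symm (j m)))) = g m
      rw [MulEquiv.symm_apply_apply, MulEquiv.symm_apply_apply]

variable (e : S ≃* U K)

theorem mem_autTop {α : MulAut (U K)} :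
    α ∈ autTop e F ↔ ∃ f, IsMap F S f ∧ ∀ x, f (el e x) = el e (α x) :=
  mem_map_congr le_rfl e.symm

/-- The coordinates of a side. -/
noncomputable def pi (D : Side K) : V3 K ≃* pull e D.H := D.i.trans (pe e D.H)

theorem pi_coe (D : Side K) (v : V3 K) : ((pi e D v : pull e D.H) : Ω) = el e (D.i v : U K) := rfl

/-- The automizer of a side in coordinates. -/
noncomputable def GH (F : FusionSystem S) (D : Side K) : Subgroup (MulAut (V3 K)) :=
  (F.autGroup (pull e D.H)).map (MulAut.congr (pi e D).symm).toMonoidHom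

theorem mem_GH {D : Side K} {g : MulAut (V3 K)} : g ∈ GH e F D ↔
    ∃ f, IsMap F (pull e D.H) f ∧ ∀ v, f (el e (D.i v : U K)) = el e (D.i (g v) : U K) :=
  mem_map_congr (pull_le e D.H) (pi e D)

theorem el_inj {x y : U K} : el e x = el e y ↔ x = y := ⟨fun h => el_injective e h, fun h => h ▸ rfl⟩

theorem res_mem {D : Side K} {α : MulAut (U K)} (hα : α ∈ autTop e F) {g : MulAut (V3 K)}
    (h : ∀ v, α (D.i v : U K) = (D.i (g v) : U K)) : g ∈ GH e F D := by
  obtain ⟨f, hf, hfx⟩ := (mem_autTop e).1 hα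
  exact (mem_GH e).2 ⟨f, hf.mono (pull_le e D.H), fun v => by rw [hfx, h]⟩

theorem conj_mem_autTop (u : U K) : MulAut.conj u ∈ autTop e F := by
  refine (mem_autTop e).2 ⟨fun x => el e u * x * (el e u)⁻¹,
    isMap_conj F le_rfl (el_mem e u), fun x => ?_⟩
  show el e u * el e x * (el e u)⁻¹ = _
  rw [el_conj, MulAut.conj_apply]

/-- A shear. -/
noncomputable def shAut (D : Side K) (s : K) : MulAut (V3 K) :=
  MulAut.congr D.i.symm (conjAut D.H (Classical.choose (D.sOf_surj s))
    (by haveI := D.normal; rw [Subgroup.normalizer_eq_top]; exact Subgroup.mem_top _))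

theorem shAut_isSh (D : Side K) (s : K) : IsSh D.σ (shAut D s) s := fun x c d => by
  set u := Classical.choose (D.sOf_surj s) with hu
  have hs : D.sOf u = s := Classical.choose_spec (D.sOf_surj s)
  apply D.i.injective
  show D.i (D.i.symm (conjAut D.H u _ (D.i (v3 x c d)))) = _
  rw [MulEquiv.apply_symm_apply]
  refine Subtype.ext ?_
  rw [conjAut_apply, D.conj, hs]

theorem conj_i_of_isSh {D : Side K} {g : MulAut (V3 K)} {s : K} (h : IsSh D.σ g s) {u : U K}
    (hu : D.sOf u = s) (v : V3 K) : (D.i (g v) : U K) = u * (D.i v : U K) * u⁻¹ := by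
  rw [← v3_eta v, h, D.conj, hu]

theorem shAut_mem (D : Side K) (s : K) : shAut D s ∈ GH e F D := by
  obtain ⟨u, hu⟩ := D.sOf_surj s
  exact res_mem e (conj_mem_autTop e u) fun v => (conj_i_of_isSh (shAut_isSh D s) hu v).symm

variable (hS : IsPGroup 2 S) (hF : F.IsSaturated 2)
include hS hF

theorem fullyNormalized_side (D : Side K) : F.IsFullyNormalized (pull e D.H) := by
  refine ⟨pull_le e D.H, fun Q hQ => ?_⟩
  have h : normalizerIn S (pull e D.H) = S := inf_eq_left.2 fun x hx => by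
    rw [← el_coord e hx, el_mem_normalizer]
    haveI := D.normal
    rw [Subgroup.normalizer_eq_top]
    exact Subgroup.mem_top _
  rw [h]
  exact Nat.card_le_card_of_injective (Subgroup.inclusion (inf_le_left : normalizerIn S Q ≤ S))
    (Subgroup.inclusion_injective _)

/-- The side hypotheses. -/
theorem exists_sideHyp (hq : Nat.card K = 4) (D : Side K)
    (hn : ¬ ((autInducedBy S (pull e D.H)).subgroupOf (F.autGroup (pull e D.H))).Normal) :
    ∃ T : Sylow 2 (GH e F D), SideHyp D.σ (GH e F D) T := by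
  haveI : Fact (Nat.Prime 2) := ⟨Nat.prime_two⟩
  haveI := finite_of_le (pull_le e D.H)
  obtain ⟨T₀, hT₀⟩ := (fullyAutomized_of_fullyNormalized hS hF (fullyNormalized_side e hS hF D)).2
  let c := MulAut.congr (pi e D).symm
  let E : F.autGroup (pull e D.H) ≃* GH e F D := Subgroup.equivMapOfInjective _ _ c.injective
  let T : Sylow 2 (GH e F D) := T₀.mapSurjective (f := E.toMonoidHom) E.surjective
  have hco : ∀ (a : F.autGroup (pull e D.H)) v, ((pi e D ((E a : MulAut (V3 K)) v) : pull e D.H) : Ω) =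
      ((a : MulAut (pull e D.H)) (pi e D v) : Ω) := fun a v => by
    show ((pi e D ((pi e D).symm ((a : MulAut (pull e D.H)) (pi e D v))) : pull e D.H) : Ω) = _
    rw [MulEquiv.apply_symm_apply]
  have hmem : ∀ g : GH e F D, g ∈ (T : Subgroup (GH e F D)) ↔ ∃ s, IsSh D.σ (g : MulAut (V3 K)) s := by
    intro g
    obtain ⟨a, rfl⟩ := E.surjective g
    show E a ∈ (T₀ : Subgroup _).map E.toMonoidHom ↔ _
    rw [show (E a ∈ (T₀ : Subgroup _).map E.toMonoidHom) ↔ a ∈ (T₀ : Subgroup _) from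
      Subgroup.mem_map_iff_mem (f := E.toMonoidHom) E.injective, hT₀, Subgroup.mem_subgroupOf,
      mem_autInducedBy_iff]
    constructor
    · rintro ⟨s, hs, hsx⟩
      refine ⟨D.sOf (e ⟨s, hs⟩), fun x c' d => ?_⟩
      apply D.i.injective
      refine Subtype.ext (el_injective e ?_)
      rw [← D.conj, ← el_conj, el_coord, ← pi_coe, hco, hsx, pi_coe]
    · rintro ⟨s, hs⟩
      obtain ⟨u, hu⟩ := D.sOf_surj s
      refine ⟨el e u, el_mem e u, fun x => ?_⟩
      obtain ⟨v, rfl⟩ := (pi e D).surjective x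
      rw [← hco, pi_coe, conj_i_of_isSh hs hu, ← el_conj, pi_coe]
  refine ⟨T, hq, D.law, hmem, fun s => ⟨_, shAut_mem e D s, shAut_isSh D s⟩, fun hN => hn ?_⟩
  rw [← hT₀]
  have : (T₀ : Subgroup _) = (T : Subgroup _).comap E.toMonoidHom :=
    (Subgroup.comap_map_eq_self_of_injective E.injective _).symm
  rw [this]
  exact hN.comap _

/-- An element normalising the shears extends. -/
theorem exists_extend (D : Side K) (g : GH e F D)
    (hg : ∀ t : GH e F D, (∃ s, IsSh D.σ (t : MulAut (V3 K)) s) →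
      ∃ s, IsSh D.σ ((g * t * g⁻¹ : GH e F D) : MulAut (V3 K)) s) :
    ∃ α ∈ autTop e F, ∀ v, α (D.i v : U K) = (D.i ((g : MulAut (V3 K)) v) : U K) := by
  haveI : Fact (Nat.Prime 2) := ⟨Nat.prime_two⟩
  obtain ⟨f, hf, hfv⟩ := (mem_GH e).1 g.2
  have hfull := fullyNormalized_side e hS hF D
  have hr := receptive_of_fullyNormalized hS hF hfull
  haveI := finite_of_le (pull_le e D.H)
  have hi : img (pull e D.H) f = pull e D.H := by
    refine eq_of_le_of_card_le (fun y hy => ?_) hf.card_img.ge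
    obtain ⟨x, hx, rfl⟩ := hf.mem_img.1 hy
    obtain ⟨v, hv⟩ := (pi e D).surjective ⟨x, hx⟩
    have hx' : el e (D.i v : U K) = x := congrArg Subtype.val hv
    rw [← hx', hfv]
    exact (el_mem_pull e).2 (D.i ((g : MulAut (V3 K)) v)).2
  obtain ⟨χ, hχ, hχx⟩ := receptive_extend hr hf hi (pull_le e D.H) (fun a ha => by
    have han : a ∈ Subgroup.normalizer (pull e D.H : Set Ω) := by
      rw [← el_coord e ha, el_mem_normalizer]
      haveI := D.normal
      rw [Subgroup.normalizer_eq_top]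
      exact Subgroup.mem_top _
    refine ⟨ha, han, ?_⟩
    set s := D.sOf (e ⟨a, ha⟩) with hs
    obtain ⟨s', hs'⟩ := hg ⟨_, shAut_mem e D s⟩ ⟨s, shAut_isSh D s⟩
    obtain ⟨u', hu'⟩ := D.sOf_surj s'
    refine ⟨el e u', el_mem e u', fun x hx => ?_⟩
    obtain ⟨v, hv⟩ := (pi e D).surjective ⟨x, hx⟩
    have hx' : el e (D.i v : U K) = x := congrArg Subtype.val hv
    have e1 : a * x * a⁻¹ = el e (D.i (shAut D s v) : U K) := by
      rw [conj_i_of_isSh (shAut_isSh D s) hs.symm, ← el_conj, el_coord, hx']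
    rw [e1, hfv, ← hx', hfv, el_conj, ← conj_i_of_isSh hs' hu']
    show _ = el e (D.i ((g : MulAut (V3 K)) (shAut D s ((g⁻¹ : GH e F D).1 ((g : MulAut (V3 K)) v)))) : U K)
    rw [Subgroup.coe_inv, MulAut.inv_apply_self])
  let α₀ : U K →* U K := MonoidHom.mk' (fun x => e ⟨χ (el e x), hχ.mem (el_mem e x)⟩) fun x y => by
    rw [← map_mul]
    congr 1
    exact Subtype.ext (by show χ (el e (x * y)) = χ (el e x) * χ (el e y); rw [el_mul]; exact hχ.map_mul (el_mem e x) (el_mem e y))
  have hinj : Function.Injective α₀ := fun x y h =>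
    el_injective e (hχ.inj (el_mem e x) (el_mem e y) (congrArg Subtype.val (e.injective h)))
  haveI := finite_U e
  refine ⟨MulEquiv.ofBijective α₀ ⟨hinj, Finite.surjective_of_injective hinj⟩,
    (mem_autTop e).2 ⟨χ, hχ, fun x => ?_⟩, fun v => el_injective e ?_⟩
  · exact (el_coord e _).symm
  · show el e (e ⟨χ (el e (D.i v : U K)), _⟩) = _
    rw [el_coord, hχx _ ((el_mem_pull e).2 (D.i v).2), hfv]

omit hF in
/-- The automizer preserves a normal subgroup. -/
theorem inv_normal (D : Side K) {Q : Subgroup Ω} (hQ : F.IsNormal Q) {g : MulAut (V3 K)}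
    (hg : g ∈ GH e F D) {v : V3 K} (hv : el e (D.i v : U K) ∈ Q) :
    el e (D.i (g v) : U K) ∈ Q := by
  obtain ⟨f, hf, hfv⟩ := (mem_GH e).1 hg
  obtain ⟨ψ, -, hψ1, hψ2⟩ := hQ.2 _ _ hf.toHom_mem
  have hvP : el e (D.i v : U K) ∈ pull e D.H := (el_mem_pull e).2 (D.i v).2
  rw [← hfv, ← hψ2]
  exact ⟨Subgroup.inclusion le_sup_left ⟨_, hvP⟩, hv, by rw [hψ1]; rfl⟩

end CfsgLib.Fusion.SpFour.Four
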