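import Cfsg.Agent.S2088
import Cfsg.Agent.Lib.Invol.L34Covers
import Cfsg.Agent.Lib.StructB.StemOfCentral
import Cfsg.Agent.Lib.Classical.SLGen
import Cfsg.Agent.Lib.Fusion.SpFour.Defs

/-!
The cover `2².L₃(4)`: its Sylow subgroup is the group `U K` for four elements, and the diagonal
automorphism of order three lifts.
-/

set_option autoImplicit false
set_option maxHeartbeats 1000000
set_option linter.unusedSectionVars false
set_option linter.style.haveILetI false

namespace CfsgLib.Fusion.SpFour.Four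

open Matrix CfsgLib.Trans3.L34 CfsgLib.Invol.L34Parabolic CfsgLib.Invol.L34Covers
open scoped MatrixGroups commutatorElement

variable {K : Type} [Field K] [Fintype K]

theorem commutator_psl_three : commutator (ProjectiveSpecialLinearGroup (Fin 3) K) = ⊤ := by
  have h : Group.IsPerfect (SpecialLinearGroup (Fin 3) K) :=
    ⟨CfsgLib.Classical.commutator_sl_eq_top (by simp)⟩
  exact (inferInstance :
    Group.IsPerfect (ProjectiveSpecialLinearGroup (Fin 3) K)).commutator_eq_top

theorem commutator_eq_top_of_stem {Γ P : Type*} [Group Γ] [Group P] {p : Γ →* P}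
    (h : Cfsg.IsStemExtension p) (hP : commutator P = ⊤) : commutator Γ = ⊤ := by
  refine eq_top_iff.2 fun x _ => ?_
  have hle : commutator P ≤ (commutator Γ).map p := by
    rw [commutator_def, commutator_def, Subgroup.map_commutator,
      Subgroup.map_top_of_surjective p h.1]
  obtain ⟨y, hy, hyx⟩ := hle (hP ▸ Subgroup.mem_top (p x))
  have hk : y⁻¹ * x ∈ p.ker := by
    rw [MonoidHom.mem_ker, map_mul, map_inv, hyx, inv_mul_cancel]
  simpa using mul_mem hy (h.2.2 hk)

/-- The double cover of both kinds: a perfect central extension with kernel of order four. -/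
structure Cover (K : Type) [Field K] [Fintype K] (Γ : Type) [Group Γ] where
  /-- The projection. -/
  p : Γ →* ProjectiveSpecialLinearGroup (Fin 3) K
  /-- It is onto. -/
  surj : Function.Surjective p
  /-- The kernel is central. -/
  central : ∀ z ∈ p.ker, ∀ e : Γ, z * e = e * z
  /-- The kernel has exponent two. -/
  two : ∀ z ∈ p.ker, z * z = 1
  /-- The kernel has order four. -/
  card : Nat.card p.ker = 4
  /-- The group is perfect. -/
  perfect : commutator Γ = ⊤

theorem exists_cover (hK : Fintype.card K = 4) :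
    ∃ (Γ : Type) (_ : Group Γ) (_ : Finite Γ), Nonempty (Cover K Γ) := by
  obtain ⟨⟨E, iG, iF, σ, hσ, ⟨e⟩⟩, -⟩ := Cfsg.Agent.S2088.result (F := K) hK
  let cast2 : Multiplicative (ZMod 3 × ZMod 4 × ZMod 4) →* Multiplicative (ZMod 2 × ZMod 2) :=
    AddMonoidHom.toMultiplicative
      { toFun := fun x => ((ZMod.castHom (show 2 ∣ 4 by norm_num) (ZMod 2)) x.2.1,
          (ZMod.castHom (show 2 ∣ 4 by norm_num) (ZMod 2)) x.2.2)
        map_zero' := by simp
        map_add' := fun x y => by simp }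
  let χ : σ.ker →* Multiplicative (ZMod 2 × ZMod 2) := cast2.comp e.toMonoidHom
  have hχ : Function.Surjective χ := by
    have h : ∀ y : ZMod 2 × ZMod 2, ∃ x : ZMod 3 × ZMod 4 × ZMod 4,
        ((ZMod.castHom (show 2 ∣ 4 by norm_num) (ZMod 2)) x.2.1,
          (ZMod.castHom (show 2 ∣ 4 by norm_num) (ZMod 2)) x.2.2) = y := by decide +kernel
    intro y
    obtain ⟨x, hx⟩ := h (Multiplicative.toAdd y)
    refine ⟨e.symm (Multiplicative.ofAdd x), ?_⟩
    show cast2 (e (e.symm _)) = y
    rw [e.apply_symm_apply]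
    exact congrArg Multiplicative.ofAdd hx
  set N : Subgroup E := χ.ker.map σ.ker.subtype with hN
  have hNk : N ≤ σ.ker := Subgroup.map_subtype_le _
  haveI : N.Normal := ⟨fun x hx g => by
    rwa [Subgroup.mem_center_iff.mp (hσ.2.1 (hNk hx)) g, mul_inv_cancel_right]⟩
  let p : E ⧸ N →* ProjectiveSpecialLinearGroup (Fin 3) K := QuotientGroup.lift N σ hNk
  let ψ : σ.ker →* E ⧸ N := (QuotientGroup.mk' N).comp σ.ker.subtype
  have hψker : ψ.ker = χ.ker := by
    ext x
    rw [MonoidHom.mem_ker]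
    show ((x : E) : E ⧸ N) = 1 ↔ _
    rw [QuotientGroup.eq_one_iff, hN]
    constructor
    · rintro ⟨y, hy, hyx⟩
      exact (Subtype.ext hyx : y = x) ▸ hy
    · exact fun h => ⟨x, h, rfl⟩
  have hψr : ψ.range = p.ker := by
    ext y
    constructor
    · rintro ⟨x, rfl⟩
      exact x.2
    · intro hy
      obtain ⟨x, rfl⟩ := QuotientGroup.mk_surjective y
      exact ⟨⟨x, hy⟩, rfl⟩
  refine ⟨E ⧸ N, inferInstance, inferInstance,
    ⟨{ p := p, surj := ?_, central := ?_, two := ?_, card := ?_, perfect := ?_ }⟩⟩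
  · intro y
    obtain ⟨x, rfl⟩ := hσ.1 y
    exact ⟨x, rfl⟩
  · rw [← hψr]
    rintro _ ⟨z, rfl⟩ y
    obtain ⟨y, rfl⟩ := QuotientGroup.mk_surjective y
    show (((z : E) * y : E) : E ⧸ N) = ((y * z : E) : E ⧸ N)
    rw [Subgroup.mem_center_iff.mp (hσ.2.1 z.2) y]
  · rw [← hψr]
    rintro _ ⟨z, rfl⟩
    rw [← map_mul, ← MonoidHom.mem_ker, hψker, MonoidHom.mem_ker, map_mul]
    have h : ∀ y : Multiplicative (ZMod 2 × ZMod 2), y * y = 1 := by decide +kernel
    exact h _
  · rw [← hψr, ← Nat.card_congr (QuotientGroup.quotientKerEquivRange ψ).toEquiv,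
      Nat.card_congr (QuotientGroup.quotientMulEquivOfEq hψker).toEquiv,
      Nat.card_congr (QuotientGroup.quotientKerEquivOfSurjective χ hχ).toEquiv,
      Nat.card_eq_fintype_card]
    rfl
  · have hE := commutator_eq_top_of_stem hσ commutator_psl_three
    have hle : (commutator E).map (QuotientGroup.mk' N) ≤ commutator (E ⧸ N) := by
      rw [commutator_def, commutator_def, Subgroup.map_commutator]
      exact Subgroup.commutator_mono le_top le_top
    rw [hE, Subgroup.map_top_of_surjective _ (QuotientGroup.mk'_surjective N)] at hle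
    exact top_le_iff.1 hle

theorem exists_section {Γ P A : Type*} [Group Γ] [Finite Γ] [Group P] [CommGroup A]
    (p : Γ →* P) (hp : Function.Surjective p) (ρ : A →* P) (hρ : Function.Injective ρ)
    (h2 : ∀ x ∈ ρ.range.comap p, x * x = 1)
    (hc : ∀ x ∈ ρ.range.comap p, ∀ y ∈ ρ.range.comap p, x * y = y * x) :
    ∃ s : A →* Γ, ∀ a, p (s a) = ρ a := by
  haveI : Fact (Nat.Prime 2) := ⟨Nat.prime_two⟩
  let B : Subgroup Γ := ρ.range.comap p
  let _ : CommGroup B :=
    { (inferInstance : Group B) with mul_comm := fun x y => Subtype.ext (hc x x.2 y y.2) }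
  let f : B →* A :=
    (MonoidHom.ofInjective hρ).symm.toMonoidHom.comp ((p.comp B.subtype).codRestrict _ fun x => x.2)
  have hf : ∀ x : B, ρ (f x) = p x := fun x => by
    have := MonoidHom.ofInjective_apply hρ (x := f x)
    rw [← this]
    simp [f]
    rfl
  obtain ⟨R, hR⟩ := CfsgLib.Solvable.exists_isCompl_of_pow_eq_one (p := 2)
    (fun q : B => Subtype.ext (by rw [Subgroup.coe_pow, pow_two]; exact h2 q q.2)) f.ker
  have hbij : Function.Bijective (f.comp R.subtype) := by
    refine ⟨(injective_iff_map_eq_one _).2 fun r hr => ?_, fun a => ?_⟩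
    · exact Subtype.ext (Subgroup.disjoint_def.1 hR.disjoint hr r.2)
    · obtain ⟨x, hx⟩ := hp (ρ a)
      obtain ⟨k, hk, r, hr, hkr⟩ := Subgroup.mem_sup.1
        (hR.sup_eq_top ▸ Subgroup.mem_top (⟨x, ⟨a, hx.symm⟩⟩ : B) : _ ∈ f.ker ⊔ R)
      refine ⟨⟨r, hr⟩, hρ ?_⟩
      show ρ (f r) = ρ a
      rw [← hx, ← hf ⟨x, ⟨a, hx.symm⟩⟩, ← hkr, map_mul f, MonoidHom.mem_ker.1 hk, one_mul]
  refine ⟨(B.subtype.comp R.subtype).comp (MulEquiv.ofBijective _ hbij).symm.toMonoidHom, fun a => ?_⟩
  obtain ⟨r, rfl⟩ := hbij.2 a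
  rw [show (f.comp R.subtype) r = (MulEquiv.ofBijective _ hbij) r from rfl, MonoidHom.comp_apply,
    MulEquiv.coe_toMonoidHom, MulEquiv.symm_apply_apply]
  exact (hf r).symm

/-- The root group `a`. -/
def rhoA : Multiplicative K →* ProjectiveSpecialLinearGroup (Fin 3) K :=
  MonoidHom.mk' (fun x => pu (Multiplicative.toAdd x) 0 0) fun x y => by
    rw [pu_mul]; simp

/-- The root group `b`. -/
def rhoB : Multiplicative K →* ProjectiveSpecialLinearGroup (Fin 3) K :=
  MonoidHom.mk' (fun x => pu 0 (Multiplicative.toAdd x) 0) fun x y => by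
    rw [pu_mul]; simp

theorem Cover.exists_sylow_iso {Γ : Type} [Group Γ] [Finite Γ] [CharP K 2] (C : Cover K Γ)
    (hK : Fintype.card K = 4) :
    ∃ φ : U K →* Γ, Function.Injective φ ∧ φ.range = uT.comap C.p ∧
      ∀ x, C.p (φ x) = pu x.a x.b x.c := by
  classical
  obtain ⟨hchar, w, hw0, hw1, hall⟩ := f4_facts hK
  have hw3 : w * w + w + 1 = 0 := by
    have h := cube_eq_one hK hw0
    have h' : (w - 1) * (w * w + w + 1) = 0 := by linear_combination h
    exact (mul_eq_zero.1 h').resolve_left (sub_ne_zero.2 hw1)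
  obtain ⟨⟨hA2, hAc⟩, hB2, hBc⟩ := preimages_elementary hK C.surj C.central C.two
  have hρA : Function.Injective (rhoA (K := K)) := fun x y h =>
    Multiplicative.toAdd.injective (pu_inj h).1
  have hρB : Function.Injective (rhoB (K := K)) := fun x y h =>
    Multiplicative.toAdd.injective (pu_inj h).2.1
  have hrA : (rhoA (K := K)).range.comap C.p ≤ rowT.comap C.p :=
    Subgroup.comap_mono (by rintro _ ⟨x, rfl⟩; exact ⟨_, _, rfl⟩)
  have hrB : (rhoB (K := K)).range.comap C.p ≤ colT.comap C.p :=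
    Subgroup.comap_mono (by rintro _ ⟨x, rfl⟩; exact ⟨_, _, rfl⟩)
  obtain ⟨SA, hSA⟩ := exists_section C.p C.surj rhoA hρA (fun x hx => hB2 x (hrA hx))
    fun x hx y hy => hBc x (hrA hx) y (hrA hy)
  obtain ⟨SB, hSB⟩ := exists_section C.p C.surj rhoB hρB (fun x hx => hA2 x (hrB hx))
    fun x hx y hy => hAc x (hrB hx) y (hrB hy)
  let sA : K → Γ := fun a => SA (Multiplicative.ofAdd a)
  let sB : K → Γ := fun b => SB (Multiplicative.ofAdd b)
  have hpA : ∀ a, C.p (sA a) = pu a 0 0 := fun a => hSA _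
  have hpB : ∀ b, C.p (sB b) = pu 0 b 0 := fun b => hSB _
  have hsA : ∀ a a', sA (a + a') = sA a * sA a' := fun a a' => by
    show SA _ = SA _ * SA _; rw [← map_mul, ofAdd_add]
  have hsB : ∀ a a', sB (a + a') = sB a * sB a' := fun a a' => by
    show SB _ = SB _ * SB _; rw [← map_mul, ofAdd_add]
  have hAA : ∀ a, sA a ∈ rowT.comap C.p := fun a => ⟨a, 0, hpA a⟩
  have hBB : ∀ b, sB b ∈ colT.comap C.p := fun b => ⟨b, 0, hpB b⟩
  obtain ⟨β, hβ⟩ : ∃ β : K → K → Γ, ∀ a b, β a b = sA a * sB b * (sA a)⁻¹ * (sB b)⁻¹ :=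
    ⟨_, fun a b => rfl⟩
  have hpβ : ∀ a b, C.p (β a b) = pu 0 0 (a * b) := fun a b => by
    simp only [hβ, map_mul, map_inv, hpA, hpB, pu_inv, pu_mul]
    congr 1 <;> ring
  have hcA : ∀ a b, β a b ∈ rowT.comap C.p ∧ β a b ∈ colT.comap C.p := fun a b =>
    ⟨⟨0, a * b, hpβ a b⟩, ⟨0, a * b, hpβ a b⟩⟩
  have hcomA : ∀ a a' b, β a' b * sA a = sA a * β a' b := fun a a' b =>
    hBc _ (hcA a' b).1 _ (hAA a)
  have hcomB : ∀ a b b', β a b * sB b' = sB b' * β a b := fun a b b' =>
    hAc _ (hcA a b).2 _ (hBB b')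
  have hββ : ∀ a b a' b', β a b * β a' b' = β a' b' * β a b := fun a b a' b' =>
    hBc _ (hcA a b).1 _ (hcA a' b').1
  have hswap : ∀ a b, sA a * sB b = β a b * (sB b * sA a) := fun a b => by
    rw [hβ]
    group
  have hadd2 : ∀ a b b', β a (b + b') = β a b * β a b' := fun a b b' => by
    refine mul_right_cancel (b := sB (b + b') * sA a) ?_
    calc β a (b + b') * (sB (b + b') * sA a) = sA a * sB b * sB b' := by
          rw [← hswap, hsB, mul_assoc]
      _ = β a b * sB b * (sA a * sB b') := by rw [hswap a b]; group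
      _ = β a b * (sB b * β a b') * sB b' * sA a := by rw [hswap a b']; group
      _ = β a b * β a b' * (sB (b + b') * sA a) := by rw [← hcomB, hsB]; group
  have hadd1 : ∀ a a' b, β (a + a') b = β a b * β a' b := fun a a' b => by
    refine mul_right_cancel (b := sB b * sA (a + a')) ?_
    calc β (a + a') b * (sB b * sA (a + a')) = sA a * (sA a' * sB b) := by
          rw [← hswap, hsA, mul_assoc]
      _ = sA a * β a' b * (sB b * sA a') := by rw [hswap a' b]; group
      _ = β a' b * (sA a * sB b) * sA a' := by rw [← hcomA]; group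
      _ = β a' b * β a b * (sB b * sA (a + a')) := by rw [hswap a b, hsA]; group
      _ = β a b * β a' b * (sB b * sA (a + a')) := by rw [hββ a' b]
  have hzero : ∀ b, β 0 b = 1 := fun b => by
    have h := hadd1 0 0 b
    rw [add_zero] at h
    exact mul_left_cancel (h.symm.trans (mul_one _).symm)
  let Λ : K → K → Γ := fun c d => β 1 (c + w * (c + d)) * β w (c + d)
  have hΛ : ∀ a b, Λ (a * b) (a ^ 2 * b) = β a b := fun a b => by
    rcases hall a with e | e | e | e <;> rw [e]
    · simp only [Λ]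
      rw [show (0 : K) * b + w * (0 * b + 0 ^ 2 * b) = 0 by ring,
        show (0 : K) * b + 0 ^ 2 * b = 0 by ring, hzero]
      have h : ∀ a, β a 0 = 1 := fun a => by
        have h := hadd2 a 0 0
        rw [add_zero] at h
        exact mul_left_cancel (h.symm.trans (mul_one _).symm)
      rw [h, h, one_mul]
    · simp only [Λ]
      rw [show 1 * b + w * (1 * b + 1 ^ 2 * b) = b by linear_combination w * hchar b,
        show 1 * b + (1 : K) ^ 2 * b = 0 by linear_combination hchar b]
      have h : β w 0 = 1 := by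
        have h := hadd2 w 0 0
        rw [add_zero] at h
        exact mul_left_cancel (h.symm.trans (mul_one _).symm)
      rw [h, mul_one]
    · simp only [Λ]
      rw [show w * b + w * (w * b + w ^ 2 * b) = 0 by
          linear_combination (w * b) * hw3,
        show w * b + w ^ 2 * b = b by linear_combination b * hw3 - hchar b]
      have h : β 1 0 = 1 := by
        have h := hadd2 1 0 0
        rw [add_zero] at h
        exact mul_left_cancel (h.symm.trans (mul_one _).symm)
      rw [h, one_mul]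
    · rw [hadd1]
      simp only [Λ]
      rw [show (1 + w) * b + (1 + w) ^ 2 * b = b by
          linear_combination b * hw3 + hchar (w * b),
        show (1 + w) * b + w * b = b by linear_combination hchar (w * b)]
  have hΛadd : ∀ c d c' d', Λ (c + c') (d + d') = Λ c d * Λ c' d' := fun c d c' d' => by
    show β 1 _ * β w _ = β 1 _ * β w _ * (β 1 _ * β w _)
    rw [show c + c' + w * (c + c' + (d + d')) = c + w * (c + d) + (c' + w * (c' + d')) by ring,
      show c + c' + (d + d') = c + d + (c' + d') by ring, hadd2 1 (c + w * (c + d)),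
      hadd2 w (c + d)]
    have key : ∀ A B C D : Γ, B * C = C * B → A * B * (C * D) = A * C * (B * D) := fun A B C D h => by
      rw [mul_assoc, ← mul_assoc B, h, mul_assoc C, ← mul_assoc]
    exact key _ _ _ _ (hββ _ _ _ _)
  have hΛB : ∀ c d b, Λ c d * sB b = sB b * Λ c d := fun c d b => by
    show β 1 _ * β w _ * sB b = sB b * (β 1 _ * β w _)
    rw [mul_assoc, hcomB, ← mul_assoc, hcomB, mul_assoc]
  have hΛA : ∀ c d a, Λ c d * sA a = sA a * Λ c d := fun c d a => by
    show β 1 _ * β w _ * sA a = sA a * (β 1 _ * β w _)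
    rw [mul_assoc, hcomA, ← mul_assoc, hcomA, mul_assoc]
  have hpΛ : ∀ c d, C.p (Λ c d) = pu 0 0 c := fun c d => by
    show C.p (β 1 _ * β w _) = _
    rw [map_mul, hpβ, hpβ, pu_mul]
    congr 1
    · ring
    · ring
    · linear_combination hchar (w * (c + d))
  have h2 : (2 : K) = 0 := CharTwo.two_eq_zero
  let φ : U K →* Γ := MonoidHom.mk' (fun x => sB x.b * Λ x.c x.d * sA x.a) fun x y => by
    show sB (x.b + y.b) * Λ (x.c + y.c + x.a * y.b)
        (x.d + y.d + x.a ^ 2 * y.b + 2 * x.a * y.c) * sA (x.a + y.a) = _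
    have hΛβ : Λ (x.c + y.c + x.a * y.b) (x.d + y.d + x.a ^ 2 * y.b + 2 * x.a * y.c) =
        Λ x.c x.d * Λ y.c y.d * β x.a y.b := by
      rw [h2, zero_mul, zero_mul, add_zero, hΛadd, hΛadd, hΛ]
    symm
    calc sB x.b * Λ x.c x.d * sA x.a * (sB y.b * Λ y.c y.d * sA y.a)
        = sB x.b * Λ x.c x.d * (sA x.a * sB y.b) * Λ y.c y.d * sA y.a := by group
      _ = sB x.b * Λ x.c x.d * (β x.a y.b * sB y.b) * (sA x.a * Λ y.c y.d) * sA y.a := by
          rw [hswap]; group
      _ = sB x.b * (Λ x.c x.d * sB y.b) * (β x.a y.b * Λ y.c y.d) * (sA x.a * sA y.a) := by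
          rw [hcomB, ← hΛA]; group
      _ = sB (x.b + y.b) * (Λ x.c x.d * (β x.a y.b * Λ y.c y.d)) * sA (x.a + y.a) := by
          rw [hΛB, hsA, hsB]; group
      _ = _ := by
          have hc : β x.a y.b * Λ y.c y.d = Λ y.c y.d * β x.a y.b := by
            show β x.a y.b * (β 1 _ * β w _) = β 1 _ * β w _ * β x.a y.b
            rw [← mul_assoc, hββ x.a y.b 1, mul_assoc, hββ x.a y.b w, ← mul_assoc]
          rw [hΛβ, hc]; group
  have hpφ : ∀ x, C.p (φ x) = pu x.a x.b x.c := fun x => by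
    show C.p (sB x.b * Λ x.c x.d * sA x.a) = _
    rw [map_mul, map_mul, hpB, hpΛ, hpA, pu_mul, pu_mul]
    congr 1 <;> ring
  set T : Subgroup Γ := uT.comap C.p with hT
  have hRT : φ.range ≤ T := by
    rintro _ ⟨x, rfl⟩
    exact ⟨_, _, _, hpφ x⟩
  have hTd : ∀ t ∈ T, ∃ x : U K, (φ x)⁻¹ * t ∈ C.p.ker := by
    rintro t ⟨a, b, c, ht⟩
    refine ⟨⟨a, b, c, 0⟩, ?_⟩
    rw [MonoidHom.mem_ker, map_mul, map_inv, ht, hpφ, inv_mul_cancel]
  have hodd : Odd T.index := by
    rw [Subgroup.index_comap_of_surjective _ C.surj]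
    exact odd_index_uT hK
  -- the kernel is in the image, by transfer
  set R : Subgroup T := φ.range.subgroupOf T with hR
  haveI : R.Normal := ⟨fun r hr t => by
    obtain ⟨x, hx⟩ := hTd t t.2
    have hc : ∀ g : Γ, (φ x)⁻¹ * t * g = g * ((φ x)⁻¹ * t) := C.central _ hx
    show (t : Γ) * r * (t : Γ)⁻¹ ∈ φ.range
    have : (t : Γ) * r * (t : Γ)⁻¹ = φ x * r * (φ x)⁻¹ := by
      have h1 : (t : Γ) = φ x * ((φ x)⁻¹ * t) := (mul_inv_cancel_left _ _).symm
      rw [h1, _root_.mul_inv_rev, mul_assoc (φ x) ((φ x)⁻¹ * t), hc]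
      group
    rw [this]
    exact mul_mem (mul_mem ⟨x, rfl⟩ hr) (inv_mem ⟨x, rfl⟩)⟩
  have hker : C.p.ker ≤ φ.range := by
    intro z hz
    letI : CommGroup (T ⧸ R) :=
      { (inferInstance : Group (T ⧸ R)) with
        mul_comm := fun u v => by
          obtain ⟨u, rfl⟩ := QuotientGroup.mk_surjective u
          obtain ⟨v, rfl⟩ := QuotientGroup.mk_surjective v
          obtain ⟨x, hx⟩ := hTd u u.2
          obtain ⟨y, hy⟩ := hTd v v.2
          let u' : T := ⟨(φ x)⁻¹ * u, mul_mem (inv_mem (hRT ⟨x, rfl⟩)) u.2⟩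
          let v' : T := ⟨(φ y)⁻¹ * v, mul_mem (inv_mem (hRT ⟨y, rfl⟩)) v.2⟩
          have hu : (u : T ⧸ R) = (u' : T ⧸ R) := QuotientGroup.eq.2 (by
            show (u : Γ)⁻¹ * ((φ x)⁻¹ * u) ∈ φ.range
            rw [← C.central _ hx, mul_inv_cancel_right]
            exact inv_mem ⟨x, rfl⟩)
          have hv : (v : T ⧸ R) = (v' : T ⧸ R) := QuotientGroup.eq.2 (by
            show (v : Γ)⁻¹ * ((φ y)⁻¹ * v) ∈ φ.range
            rw [← C.central _ hy, mul_inv_cancel_right]
            exact inv_mem ⟨y, rfl⟩)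
          rw [hu, hv, ← QuotientGroup.mk_mul, ← QuotientGroup.mk_mul]
          exact congrArg _ (Subtype.ext (C.central _ hx _)) }
    have hzT : z ∈ T := by
      show C.p z ∈ uT
      rw [MonoidHom.mem_ker.1 hz]
      exact one_mem _
    have htr := MonoidHom.transfer_eq_pow (QuotientGroup.mk' R) z fun k g₀ _ => by
      rw [mul_assoc, C.central _ (pow_mem hz k) g₀, inv_mul_cancel_left]
    have h1 : MonoidHom.transfer (QuotientGroup.mk' R) z = 1 :=
      MonoidHom.mem_ker.1 (Abelianization.commutator_subset_ker _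
        (C.perfect ▸ Subgroup.mem_top z))
    rw [h1] at htr
    have h2 : z ^ T.index ∈ φ.range :=
      Subgroup.mem_subgroupOf.1 ((QuotientGroup.eq_one_iff (N := R) _).1 htr.symm)
    obtain ⟨k, hk⟩ := hodd
    rwa [hk, pow_succ, pow_mul, pow_two, C.two z hz, one_pow, one_mul] at h2
  have hrange : φ.range = T := le_antisymm hRT fun t ht => by
    obtain ⟨x, hx⟩ := hTd t ht
    simpa using mul_mem (⟨x, rfl⟩ : φ x ∈ φ.range) (hker hx)
  refine ⟨φ, ?_, hrange, hpφ⟩
  have hcT : Nat.card T = 256 := by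
    let f : T →* uT (F := K) := (C.p.comp T.subtype).codRestrict _ fun t => t.2
    have hf : Function.Surjective f := fun u => by
      obtain ⟨t, ht⟩ := C.surj u
      exact ⟨⟨t, by show C.p t ∈ uT; rw [ht]; exact u.2⟩, Subtype.ext ht⟩
    have h := f.ker.card_mul_index
    rw [Subgroup.index_eq_card,
      Nat.card_congr (QuotientGroup.quotientKerEquivOfSurjective f hf).toEquiv, uT_card hK] at h
    have hk : Nat.card f.ker = 4 := by
      rw [← C.card]
      refine Nat.card_congr
        ⟨fun t => ⟨t.1, congrArg Subtype.val t.2⟩,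
          fun z => ⟨⟨z, by show C.p z ∈ uT; rw [MonoidHom.mem_ker.1 z.2]; exact one_mem _⟩,
            Subtype.ext z.2⟩,
          fun t => rfl, fun z => rfl⟩
    omega
  have hcU : Nat.card (U K) = 256 := by
    have e : U K ≃ K × K × K × K :=
      ⟨fun x => (x.a, x.b, x.c, x.d), fun q => ⟨q.1, q.2.1, q.2.2.1, q.2.2.2⟩,
        fun x => rfl, fun q => rfl⟩
    rw [Nat.card_congr e, Nat.card_eq_fintype_card]
    simp [Fintype.card_prod, hK]
  have hs : Function.Surjective φ.rangeRestrict := φ.rangeRestrict_surjective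
  have hb := ((Nat.bijective_iff_surjective_and_card φ.rangeRestrict).2
    ⟨hs, by rw [hrange, hcT, hcU]⟩).1
  intro x y h
  exact hb (Subtype.ext h)

end CfsgLib.Fusion.SpFour.Four
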