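import Cfsg.Agent.Lib.Fusion.SpFour.Defs
import Cfsg.Agent.Lib.Fusion.FixedExactlyNormal

/-!
A group of automorphisms of the natural module of `SL₂(K)` in which the shears form a non-normal
Sylow subgroup contains a copy of `SL₂(K)`: the images of the axis of the shears form a spread.
-/

set_option autoImplicit false
set_option linter.unusedSectionVars false

namespace CfsgLib.Fusion.SpFour

/-! ### Restriction to fixers -/

section Fixer

variable {V : Type*} [Group V] {G : Subgroup (MulAut V)} {p : ℕ}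

/-- The members of `G` fixing `P` pointwise. -/
def fixer (G : Subgroup (MulAut V)) (P : Subgroup V) : Subgroup (MulAut V) where
  carrier := {g | g ∈ G ∧ ∀ v ∈ P, g v = v}
  one_mem' := ⟨one_mem G, fun _ _ => rfl⟩
  mul_mem' := fun {a b} ha hb => ⟨mul_mem ha.1 hb.1, fun v hv => by
    rw [MulAut.mul_apply, hb.2 v hv, ha.2 v hv]⟩
  inv_mem' := fun {a} ha => ⟨inv_mem ha.1, fun v hv => by
    conv_lhs => rw [← ha.2 v hv]
    exact MulAut.inv_apply_self _ _ _⟩

/-- A Sylow subgroup of `G` inside `H ≤ G` is a Sylow subgroup of `H`. -/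
theorem sylow_restrict {H : Subgroup (MulAut V)} (hHG : H ≤ G) (T : Sylow p G)
    (hTH : ∀ g ∈ (T : Subgroup G), (g : MulAut V) ∈ H) :
    ∃ T' : Sylow p H, ∀ h : H,
      h ∈ (T' : Subgroup H) ↔ ∃ g ∈ (T : Subgroup G), (g : MulAut V) = h := by
  refine ⟨{
    toSubgroup := (T : Subgroup G).comap (Subgroup.inclusion hHG)
    isPGroup' := T.isPGroup'.comap_of_injective _ (Subgroup.inclusion_injective hHG)
    is_maximal' := fun {Q} hQ hle => ?_ }, fun h => ⟨fun hh => ⟨_, hh, rfl⟩, ?_⟩⟩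
  · have h2 : Q.map (Subgroup.inclusion hHG) = T := T.is_maximal' (hQ.map _) fun g hg =>
      ⟨⟨g, hTH g hg⟩, hle (show Subgroup.inclusion hHG ⟨g, hTH g hg⟩ ∈ (T : Subgroup G) from hg),
        rfl⟩
    refine le_antisymm (fun q hq => ?_) hle
    show Subgroup.inclusion hHG q ∈ (T : Subgroup G)
    rw [← h2]
    exact ⟨q, hq, rfl⟩
  · rintro ⟨g, hg, e⟩
    show Subgroup.inclusion hHG h ∈ (T : Subgroup G)
    rwa [show Subgroup.inclusion hHG h = g from Subtype.ext e.symm]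

/-- A normal `p`-subgroup lies in every Sylow subgroup. -/
theorem normal_le_sylow {H : Type*} [Group H] {N : Subgroup H} [N.Normal] (hN : IsPGroup p N)
    (T : Sylow p H) : N ≤ (T : Subgroup H) := by
  have h := T.is_maximal' (T.isPGroup'.to_sup_of_normal_right hN) le_sup_left
  rw [← h]
  exact le_sup_right

/-- A `p`-element lies in a normal Sylow subgroup. -/
theorem mem_of_normal_sylow {H : Type*} [Group H] [Finite H] [Fact p.Prime] (T : Sylow p H)
    [(T : Subgroup H).Normal] {x : H} {k : ℕ} (hx : x ^ p ^ k = 1) : x ∈ (T : Subgroup H) := by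
  have hp : IsPGroup p (Subgroup.zpowers x) := by
    obtain ⟨j, -, hj⟩ := (Nat.dvd_prime_pow Fact.out).1 (orderOf_dvd_of_pow_eq_one hx)
    exact IsPGroup.of_card ((Nat.card_zpowers x).trans hj)
  have h := T.is_maximal' (hp.to_sup_of_normal_right T.isPGroup') le_sup_right
  rw [← h]
  exact Subgroup.mem_sup_left (Subgroup.mem_zpowers x)

/-- An element carrying a non-trivial point of `Z` into `Z` normalises `T`, as the stabiliser of a
point of `Z` has a normal Sylow subgroup. -/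
theorem conj_mem_of_point [Finite V] [Fact p.Prime] (hV : IsPGroup p V) (T : Sylow p G)
    (Z : Subgroup V) (hT : ∀ t ∈ (T : Subgroup G), t ∈ FixedExactly.stabZ G Z)
    (hexact : ∀ t ∈ (T : Subgroup G), t ≠ 1 → ∀ v, (t : MulAut V) v = v → v ∈ Z)
    (hsurj : ∀ v, v ∉ Z → ∀ z ∈ Z, ∃ t ∈ (T : Subgroup G), (t : MulAut V) v = z * v)
    {g : G} {v : V} (hv : v ∈ Z) (hv1 : v ≠ 1) (hgv : (g : MulAut V) v ∈ Z) :
    g ∈ Subgroup.normalizer ((T : Subgroup G) : Set G) := by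
  classical
  set w := (g : MulAut V) v with hw
  set H := fixer G (Subgroup.zpowers w) with hH
  have hHmem : ∀ {h : MulAut V}, h ∈ G → h w = w → h ∈ H := fun {h} hG hf => ⟨hG, fun x hx => by
    obtain ⟨n, rfl⟩ := Subgroup.mem_zpowers_iff.1 hx
    rw [map_zpow, hf]⟩
  have hTH : ∀ t ∈ (T : Subgroup G), (t : MulAut V) ∈ H := fun t ht =>
    hHmem t.2 ((hT t ht).1 w hgv)
  obtain ⟨T', hT'⟩ := sylow_restrict (H := H) (fun h hh => hh.1) T hTH
  haveI hN : (T' : Subgroup H).Normal := by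
    refine FixedExactly.normal_of_fixed H hV T' Z (Subgroup.zpowers w) (fun s hs => ?_)
      (fun s hs hs1 x hx => ?_) (fun x hx z hz => ?_) ?_ (Subgroup.zpowers_le.2 hgv)
      fun h hh x hx => ?_
    · obtain ⟨t, ht, e⟩ := (hT' s).1 hs
      have := hT t ht
      exact ⟨fun z hz => by rw [← e]; exact this.1 z hz, fun x => by rw [← e]; exact this.2 x⟩
    · obtain ⟨t, ht, e⟩ := (hT' s).1 hs
      refine hexact t ht (fun h1 => hs1 (Subtype.ext ?_)) x (by rw [e]; exact hx)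
      rw [← e, h1]
      rfl
    · obtain ⟨t, ht, e⟩ := hsurj x hx z hz
      exact ⟨⟨_, hTH t ht⟩, (hT' _).2 ⟨t, ht, rfl⟩, e⟩
    · rw [Ne, Subgroup.zpowers_eq_bot, hw]
      exact fun h => hv1 ((MulEquiv.map_eq_one_iff _).1 h)
    · rw [hh.2 x hx]
      exact hx
  refine Subgroup.mem_normalizer_fintype fun t ht => ?_
  have hfix : ((g * t * g⁻¹ : G) : MulAut V) w = w := by
    show (g : MulAut V) ((t : MulAut V) ((g : MulAut V)⁻¹ w)) = w
    rw [hw, MulAut.inv_apply_self, (hT t ht).1 v hv]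
  obtain ⟨k, hk⟩ := T.isPGroup' ⟨t, ht⟩
  have hk' : t ^ p ^ k = 1 := congrArg Subtype.val hk
  have hx : (⟨_, hHmem (g * t * g⁻¹).2 hfix⟩ : H) ∈ (T' : Subgroup H) := by
    refine mem_of_normal_sylow T' (k := k) (Subtype.ext ?_)
    show ((g * t * g⁻¹ : G) : MulAut V) ^ p ^ k = 1
    rw [← Subgroup.coe_pow, conj_pow, hk', mul_one, mul_inv_cancel]
    rfl
  obtain ⟨t', ht', e⟩ := (hT' _).1 hx
  rwa [show g * t * g⁻¹ = t' from Subtype.ext e.symm]

end Fixer

/-! ### The spread -/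

variable {K : Type*} [Field K]

/-- Elements. -/
def v2 (x y : K) : V2 K := Multiplicative.ofAdd (x, y)

theorem v2_mul (x y x' y' : K) : v2 x y * v2 x' y' = v2 (x + x') (y + y') := rfl

theorem v2_inj {x y x' y' : K} : v2 x y = v2 x' y' ↔ x = x' ∧ y = y' := by
  simp [v2, Prod.ext_iff]

theorem v2_surj (v : V2 K) : ∃ x y, v = v2 x y := ⟨v.toAdd.1, v.toAdd.2, rfl⟩

theorem shear_apply {g : MulAut (V2 K)} {t : K} (h : IsShear g t) (x y : K) :
    g (v2 x y) = v2 x (y + t * x) := h x y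

variable (K) in
/-- The axis of the shears. -/
def axis1 : Subgroup (V2 K) where
  carrier := {v | v.toAdd.1 = 0}
  one_mem' := rfl
  mul_mem' := fun {a b} (ha : a.toAdd.1 = 0) (hb : b.toAdd.1 = 0) =>
    show (a * b).toAdd.1 = 0 by rw [toAdd_mul, Prod.fst_add, ha, hb, add_zero]
  inv_mem' := fun {a} (ha : a.toAdd.1 = 0) =>
    show a⁻¹.toAdd.1 = 0 by rw [toAdd_inv, Prod.fst_neg, ha, neg_zero]

theorem v2_mem_axis1 {x y : K} : v2 x y ∈ axis1 K ↔ x = 0 := Iff.rfl

theorem isPGroup_vector {p : ℕ} [Fact p.Prime] [CharP K p] : IsPGroup p (V2 K) := fun v =>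
  ⟨1, Multiplicative.toAdd.injective (by
    rw [pow_one, toAdd_pow, toAdd_one]
    exact Prod.ext (by simp [CharP.cast_eq_zero]) (by simp [CharP.cast_eq_zero]))⟩

variable [Finite K]

theorem Spread.exists_sl2 {p : ℕ} [Fact p.Prime] [CharP K p] (G : Subgroup (MulAut (V2 K)))
    (T : Sylow p G) (hT : ∀ g : G, g ∈ (T : Subgroup G) ↔ ∃ t, IsShear (g : MulAut (V2 K)) t)
    (hTall : ∀ t : K, ∃ g ∈ G, IsShear g t) (hn : ¬ (T : Subgroup G).Normal) :
    ∃ φ : K →+ K, ∀ M : Matrix.SpecialLinearGroup (Fin 2) K, ∃ g ∈ G, ∀ x y : K,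
      g (Multiplicative.ofAdd (x, y + φ x)) = Multiplicative.ofAdd
        (M.1 0 0 * x + M.1 0 1 * y,
          M.1 1 0 * x + M.1 1 1 * y + φ (M.1 0 0 * x + M.1 0 1 * y)) := by
  classical
  have hTstab : ∀ t ∈ (T : Subgroup G), t ∈ FixedExactly.stabZ G (axis1 K) := by
    intro g hg
    obtain ⟨t, ht⟩ := (hT g).1 hg
    refine ⟨fun z hz => ?_, fun v => ?_⟩
    · obtain ⟨x, y, rfl⟩ := v2_surj z
      rw [v2_mem_axis1] at hz
      rw [shear_apply ht, hz, mul_zero, add_zero]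
    · obtain ⟨x, y, rfl⟩ := v2_surj v
      show ((g : MulAut (V2 K)) (v2 x y) * (v2 x y)⁻¹).toAdd.1 = 0
      rw [shear_apply ht]
      simp [v2]
  have hexact : ∀ g ∈ (T : Subgroup G), g ≠ 1 → ∀ v, (g : MulAut (V2 K)) v = v → v ∈ axis1 K := by
    intro g hg hg1 v hv
    obtain ⟨t, ht⟩ := (hT g).1 hg
    obtain ⟨x, y, rfl⟩ := v2_surj v
    rw [shear_apply ht, v2_inj] at hv
    rw [v2_mem_axis1]
    by_contra hx
    refine hg1 (Subtype.ext (MulEquiv.ext fun w => ?_))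
    obtain ⟨a, b, rfl⟩ := v2_surj w
    have ht0 : t = 0 := (mul_eq_zero.1 (add_eq_left.1 hv.2)).resolve_right hx
    rw [shear_apply ht, ht0, zero_mul, add_zero]
    rfl
  have hsurj : ∀ v, v ∉ axis1 K → ∀ z ∈ axis1 K,
      ∃ t ∈ (T : Subgroup G), (t : MulAut (V2 K)) v = z * v := by
    intro v hv z hz
    obtain ⟨x, y, rfl⟩ := v2_surj v
    obtain ⟨a, b, rfl⟩ := v2_surj z
    rw [v2_mem_axis1] at hv hz
    obtain ⟨g, hg, ht⟩ := hTall (b / x)
    refine ⟨⟨g, hg⟩, (hT _).2 ⟨_, ht⟩, ?_⟩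
    rw [shear_apply ht, v2_mul, hz, div_mul_cancel₀ b hv, zero_add, add_comm y]
  have hV : IsPGroup p (V2 K) := isPGroup_vector
  have hti : ∀ g : G, g ∉ Subgroup.normalizer ((T : Subgroup G) : Set G) →
      ∀ v ∈ axis1 K, (g : MulAut (V2 K)) v ∈ axis1 K → v = 1 := fun g hg v hv hgv => by
    by_contra hv1
    exact hg (conj_mem_of_point hV T (axis1 K) hTstab hexact hsurj hv hv1 hgv)
  have hnorm : ∀ g : G, g ∈ Subgroup.normalizer ((T : Subgroup G) : Set G) →
      ∀ v ∈ axis1 K, (g : MulAut (V2 K)) v ∈ axis1 K := by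
    intro g hg v hv
    obtain ⟨s, hs, hsh⟩ := hTall 1
    have hsT : (⟨s, hs⟩ : G) ∈ (T : Subgroup G) := (hT _).2 ⟨1, hsh⟩
    have hconj := (Subgroup.mem_normalizer_iff'.1 hg (g⁻¹ * ⟨s, hs⟩)).2 (by simpa using hsT)
    refine hexact ⟨s, hs⟩ hsT (fun h => ?_) _ ?_
    · have h1 := congrArg (fun u : G => (u : MulAut (V2 K)) (v2 1 0)) h
      simp [shear_apply hsh, v2_inj] at h1
    · have := (hTstab _ hconj).1 v hv
      have h2 := congrArg (g : MulAut (V2 K)) this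
      simpa using h2
  obtain ⟨g₀, hg₀⟩ : ∃ g₀ : G, g₀ ∉ Subgroup.normalizer ((T : Subgroup G) : Set G) := by
    by_contra h
    push Not at h
    exact hn (Subgroup.normalizer_eq_top_iff.1 ((Subgroup.eq_top_iff' _).2 h))
  -- the graph
  let a₀ : K →+ K :=
    AddMonoidHom.mk' (fun y => ((g₀ : MulAut (V2 K)) (v2 0 y)).toAdd.1) fun y y' => by
      rw [show v2 (0 : K) (y + y') = v2 0 y * v2 0 y' by rw [v2_mul, add_zero], map_mul, toAdd_mul,
        Prod.fst_add]
  let b₀ : K →+ K :=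
    AddMonoidHom.mk' (fun y => ((g₀ : MulAut (V2 K)) (v2 0 y)).toAdd.2) fun y y' => by
      rw [show v2 (0 : K) (y + y') = v2 0 y * v2 0 y' by rw [v2_mul, add_zero], map_mul, toAdd_mul,
        Prod.snd_add]
  have ha₀ : Function.Injective a₀ := (injective_iff_map_eq_zero a₀).2 fun y hy =>
    (v2_inj.1 (hti g₀ hg₀ (v2 0 y) rfl hy)).2
  obtain ⟨e₀, he₀⟩ : ∃ e : K ≃+ K, ∀ y, e y = a₀ y :=
    ⟨AddEquiv.ofBijective a₀ ⟨ha₀, Finite.injective_iff_surjective.1 ha₀⟩, fun y => rfl⟩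
  refine ⟨b₀.comp e₀.symm.toAddMonoidHom, ?_⟩
  set φ := b₀.comp e₀.symm.toAddMonoidHom with hφ
  let pt : K → K → V2 K := fun x y => v2 x (y + φ x)
  have pt_mul : ∀ x y x' y', pt x y * pt x' y' = pt (x + x') (y + y') := fun x y x' y' => by
    simp only [pt, v2_mul, map_add, v2_inj, true_and]
    ring
  have pt_inj : ∀ {x y x' y'}, pt x y = pt x' y' ↔ x = x' ∧ y = y' := fun {x y x' y'} => by
    simp only [pt, v2_inj]
    constructor
    · rintro ⟨rfl, h⟩; exact ⟨rfl, add_right_cancel h⟩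
    · rintro ⟨rfl, rfl⟩; exact ⟨rfl, rfl⟩
  have pt_surj : ∀ v, ∃ x y, v = pt x y := fun v => by
    obtain ⟨x, y, rfl⟩ := v2_surj v
    exact ⟨x, y - φ x, by simp [pt]⟩
  have pt_zero : ∀ y, pt 0 y = v2 0 y := fun y => by simp [pt]
  have hg0pt : ∀ y, (g₀ : MulAut (V2 K)) (v2 0 y) = pt (a₀ y) 0 := fun y => by
    simp only [pt, hφ, zero_add, AddMonoidHom.comp_apply, AddEquiv.coe_toAddMonoidHom]
    rw [show e₀.symm (a₀ y) = y by rw [← he₀, AddEquiv.symm_apply_apply]]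
    rfl
  have hsh : ∀ {g : MulAut (V2 K)} {t : K}, IsShear g t →
      ∀ x y, g (pt x y) = pt x (y + t * x) := fun {g t} h x y => by
    simp only [pt, shear_apply h]
    congr 1
    ring
  -- every image of the axis is a component
  have hline : ∀ h : G, (∀ y, ((h : MulAut (V2 K)) (v2 0 y)).toAdd.1 = 0) ∨
      ∃ s, ∀ y, ∃ X, (h : MulAut (V2 K)) (v2 0 y) = pt X (s * X) := by
    intro h
    by_cases hh : h ∈ Subgroup.normalizer ((T : Subgroup G) : Set G)
    · exact Or.inl fun y => hnorm h hh (v2 0 y) rfl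
    obtain ⟨X, Y, hXY⟩ := pt_surj ((h : MulAut (V2 K)) (v2 0 1))
    have hX : X ≠ 0 := fun e => by
      refine one_ne_zero (v2_inj.1 (hti h hh (v2 0 1) rfl ?_)).2
      rw [hXY, e]; exact rfl
    obtain ⟨s, hs, hshs⟩ := hTall (Y / X)
    obtain ⟨y₀, hy₀⟩ := Finite.injective_iff_surjective.1 ha₀ X
    set k : G := ⟨s, hs⟩ * g₀
    have hk : ∀ y, (k : MulAut (V2 K)) (v2 0 y) = pt (a₀ y) (Y / X * a₀ y) := fun y => by
      show s ((g₀ : MulAut (V2 K)) (v2 0 y)) = _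
      rw [hg0pt, hsh hshs, zero_add]
    have hkh : ((k⁻¹ * h : G) : MulAut (V2 K)) (v2 0 1) = v2 0 y₀ := by
      show ((k : MulAut (V2 K)))⁻¹ ((h : MulAut (V2 K)) (v2 0 1)) = _
      rw [hXY, show pt X Y = (k : MulAut (V2 K)) (v2 0 y₀) by
        rw [hk, hy₀, div_mul_cancel₀ Y hX], MulAut.inv_apply_self]
    have hkN : k⁻¹ * h ∈ Subgroup.normalizer ((T : Subgroup G) : Set G) := by
      by_contra hkN
      refine one_ne_zero (v2_inj.1 (hti _ hkN (v2 0 1) rfl ?_)).2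
      rw [hkh]; exact rfl
    refine Or.inr ⟨Y / X, fun y => ?_⟩
    obtain ⟨u, w, huw⟩ := v2_surj (((k⁻¹ * h : G) : MulAut (V2 K)) (v2 0 y))
    have hu : u = 0 := by
      have := hnorm _ hkN (v2 0 y) rfl
      rwa [huw, v2_mem_axis1] at this
    refine ⟨a₀ w, ?_⟩
    subst hu
    rw [← hk, ← huw]
    show _ = (k : MulAut (V2 K)) ((k : MulAut (V2 K))⁻¹ ((h : MulAut (V2 K)) (v2 0 y)))
    rw [MulAut.apply_inv_self]
  -- the conjugate shears
  have hU : ∀ σ : K, ∃ g ∈ G, ∀ x y, g (pt x y) = pt (x + σ * y) y := by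
    have hone : ∀ t : K, ∃ σ τ, ∃ hτ : τ ∈ G, IsShear τ t ∧
        ∀ x y, ((g₀ * ⟨τ, hτ⟩ * g₀⁻¹ : G) : MulAut (V2 K)) (pt x y) = pt (x + σ * y) y := by
      intro t
      obtain ⟨τ, hτ, hτs⟩ := hTall t
      set u : G := g₀ * ⟨τ, hτ⟩ * g₀⁻¹ with hu
      have hu0 : ∀ x, (u : MulAut (V2 K)) (pt x 0) = pt x 0 := by
        intro x
        obtain ⟨y, rfl⟩ := Finite.injective_iff_surjective.1 ha₀ x
        rw [← hg0pt]
        show (g₀ : MulAut (V2 K)) (τ ((g₀ : MulAut (V2 K))⁻¹ ((g₀ : MulAut (V2 K)) (v2 0 y)))) = _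
        rw [MulAut.inv_apply_self, shear_apply hτs, mul_zero, add_zero]
      have huy : ∀ y, ∃ f, (u : MulAut (V2 K)) (pt 0 y) = pt f y := by
        intro y
        obtain ⟨a, b, hab⟩ := v2_surj ((g₀ : MulAut (V2 K))⁻¹ (pt 0 y))
        refine ⟨a₀ (t * a), ?_⟩
        show (g₀ : MulAut (V2 K)) (τ ((g₀ : MulAut (V2 K))⁻¹ (pt 0 y))) = _
        rw [hab, shear_apply hτs, show v2 a (b + t * a) = v2 a b * v2 0 (t * a) by
          rw [v2_mul, add_zero], map_mul, hg0pt, ← hab, MulAut.apply_inv_self, pt_mul, zero_add,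
          add_zero]
      choose f hf using huy
      have hxy : ∀ x y, (u : MulAut (V2 K)) (pt x y) = pt (x + f y) y := fun x y => by
        rw [show pt x y = pt x 0 * pt 0 y by rw [pt_mul, add_zero, zero_add], map_mul, hu0, hf,
          pt_mul, zero_add]
      rcases hline u with h | ⟨s, hs⟩
      · refine ⟨0, τ, hτ, hτs, fun x y => ?_⟩
        have h0 := h y
        rw [← pt_zero, hf] at h0
        have h0' : f y = 0 := h0
        rw [hxy, h0', zero_mul]
      · have hfs : ∀ y, y = s * f y := fun y => by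
          obtain ⟨X, hX⟩ := hs y
          rw [← pt_zero, hf, pt_inj] at hX
          rw [hX.1]; exact hX.2
        have hs0 : s ≠ 0 := fun e => one_ne_zero (α := K) (by simpa [e] using hfs 1)
        refine ⟨s⁻¹, τ, hτ, hτs, fun x y => ?_⟩
        rw [hxy, show s⁻¹ * y = f y by conv_lhs => rw [hfs y, inv_mul_cancel_left₀ hs0]]
    choose σ τ hτ hτs hσ using hone
    have hinj : Function.Injective σ := by
      intro t t' e
      have huv : g₀ * ⟨τ t, hτ t⟩ * g₀⁻¹ = g₀ * ⟨τ t', hτ t'⟩ * g₀⁻¹ :=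
        Subtype.ext (MulEquiv.ext fun v => by
          obtain ⟨x, y, rfl⟩ := pt_surj v
          rw [hσ, hσ, e])
      have h' : τ t = τ t' := congrArg Subtype.val (mul_left_cancel (mul_right_cancel huv))
      have h1 := shear_apply (hτs t) 1 0
      rw [h', shear_apply (hτs t'), v2_inj] at h1
      simpa using h1.2.symm
    intro s
    obtain ⟨t, rfl⟩ := Finite.injective_iff_surjective.1 hinj s
    exact ⟨_, (g₀ * ⟨τ t, hτ t⟩ * g₀⁻¹ : G).2, hσ t⟩
  -- generation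
  let R : Matrix (Fin 2) (Fin 2) K → Prop := fun M => ∃ g ∈ G, ∀ x y,
    g (pt x y) = pt (M 0 0 * x + M 0 1 * y) (M 1 0 * x + M 1 1 * y)
  have hR : ∀ {M N}, R M → R N → R (M * N) := by
    rintro M N ⟨g, hg, hM⟩ ⟨h, hh, hN⟩
    refine ⟨g * h, mul_mem hg hh, fun x y => ?_⟩
    rw [MulAut.mul_apply, hN, hM, pt_inj]
    simp [Matrix.mul_apply, Fin.sum_univ_two]
    constructor <;> ring
  have hlow : ∀ c : K, R !![1, 0; c, 1] := fun c => by
    obtain ⟨g, hg, hc⟩ := hTall c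
    exact ⟨g, hg, fun x y => by rw [hsh hc, pt_inj]; simp [add_comm]⟩
  have hup : ∀ c : K, R !![1, c; 0, 1] := fun c => by
    obtain ⟨g, hg, hc⟩ := hU c
    exact ⟨g, hg, fun x y => by rw [hc, pt_inj]; simp⟩
  have hgen : ∀ a b c d : K, c ≠ 0 → a * d - b * c = 1 → R !![a, b; c, d] := by
    intro a b c d hc hdet
    convert hR (hR (hup ((a - 1) / c)) (hlow c)) (hup ((d - 1) / c)) using 1
    have hb : b = (a * d - 1) / c := by rw [eq_div_iff hc]; linear_combination -hdet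
    ext i j
    fin_cases i <;> fin_cases j <;> simp [Matrix.mul_apply, Fin.sum_univ_two, hb] <;>
      field_simp <;> ring
  intro M
  have hdet : M.1 0 0 * M.1 1 1 - M.1 0 1 * M.1 1 0 = 1 := by
    rw [← Matrix.det_fin_two]; exact M.2
  obtain ⟨g, hg, hgM⟩ : R M.1 := by
    rw [Matrix.eta_fin_two M.1]
    by_cases hc : M.1 1 0 = 0
    · have ha : M.1 0 0 ≠ 0 := fun e => by simp [e, hc] at hdet
      convert hR (hlow (-1)) (hgen (M.1 0 0) (M.1 0 1) (M.1 1 0 + M.1 0 0) (M.1 1 1 + M.1 0 1)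
        (by rw [hc, zero_add]; exact ha) (by linear_combination hdet)) using 1
      ext i j
      fin_cases i <;> fin_cases j <;> simp [Matrix.mul_apply, Fin.sum_univ_two]
    · exact hgen _ _ _ _ hc hdet
  exact ⟨g, hg, fun x y => hgM x y⟩

end CfsgLib.Fusion.SpFour
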