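import Cfsg.Agent.Lib.Fusion.SpFour.SmallFourSide
import Cfsg.Agent.Lib.Fusion.SpFour.Spread

/-!
One side over the field of four elements, with invariant subgroup in the middle axis: the diagonal
torus, the exchange and the generation by them.
-/

set_option autoImplicit false
set_option linter.style.haveILetI false
set_option linter.unusedSectionVars false

namespace CfsgLib.Fusion.SpFour.Four

variable {K : Type*} [Field K] [Finite K] [CharP K 2]
variable {σ : K → K → K} {G : Subgroup (MulAut (V3 K))} {T : Sylow 2 G}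

/-- The data of one side with its invariant subgroup. -/
structure GenHyp (σ : K → K → K) (G : Subgroup (MulAut (V3 K))) (T : Sylow 2 G)
    (C : Subgroup (V3 K)) : Prop extends SideHyp σ G T where
  ne : C ≠ ⊥
  le : ∀ v ∈ C, c1 v = 0 ∧ c3 v = 0
  inv : ∀ g ∈ G, ∀ v ∈ C, g v ∈ C

namespace GenHyp

variable {C : Subgroup (V3 K)} (H : GenHyp σ G T C)
include H

theorem common_eq {g : G} (hg : ¬ Fix (g : MulAut (V3 K))) {v : V3 K} (hv : c1 v = 0) :
    c1 (((g⁻¹ : G) : MulAut (V3 K)) v) = 0 ↔ c3 v = 0 := by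
  let f : K × K →+ K :=
    AddMonoidHom.mk' (fun p => c1 (((g⁻¹ : G) : MulAut (V3 K)) (v3 0 p.1 p.2))) fun p q => by
      show c1 (((g⁻¹ : G) : MulAut (V3 K)) (v3 0 (p.1 + q.1) (p.2 + q.2))) = _
      rw [← c1_mul, ← map_mul, v3_mul, add_zero]
  let Y : AddSubgroup (K × K) := (⊥ : AddSubgroup K).comap (AddMonoidHom.fst K K) |>.map
    (AddEquiv.prodComm.toAddMonoidHom)
  have hY : ∀ p : K × K, p ∈ Y ↔ p.2 = 0 := fun p => by
    constructor
    · rintro ⟨q, hq, rfl⟩; exact hq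
    · exact fun h => ⟨(p.2, p.1), h, rfl⟩
  obtain ⟨⟨z, hzC⟩, hz⟩ := Subgroup.ne_bot_iff_exists_ne_one.1 H.ne
  have hz1 : z ≠ 1 := fun h => hz (Subtype.ext h)
  have hz3 := (H.le _ hzC).2
  have hz2 : c2 (z : V3 K) ≠ 0 := fun h => hz1 (by
    rw [← v3_eta (z : V3 K), (H.le _ hzC).1, h, hz3, v3_zero])
  have hsub : f.ker ≤ Y := by
    intro p hp
    rw [hY]
    by_contra h2
    have hp' : c1 (((g⁻¹ : G) : MulAut (V3 K)) (v3 0 p.1 p.2)) = 0 := hp
    have hp0 : p.1 = 0 := (H.axis_of_common hg (c1_v3 _ _ _) hp').resolve_right h2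
    have hc : c1 (((g⁻¹ : G) : MulAut (V3 K)) (v3 0 p.1 p.2 * (z : V3 K))) = 0 := by
      rw [map_mul, c1_mul, hp', (H.le _ (H.inv _ (g⁻¹).2 _ hzC)).1, add_zero]
    rcases H.axis_of_common hg (by rw [c1_mul, c1_v3, (H.le _ hzC).1, add_zero]) hc with h | h
    · rw [c2_mul, c2_v3, hp0, zero_add] at h; exact hz2 h
    · rw [c3_mul, c3_v3, hz3, add_zero] at h; exact h2 h
  have hcard : Nat.card Y ≤ Nat.card f.ker := by
    have h1 := AddSubgroup.card_eq_card_quotient_mul_card_addSubgroup f.ker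
    rw [Nat.card_congr (QuotientAddGroup.quotientKerEquivRange f).toEquiv, Nat.card_prod, H.card] at h1
    have h2 : Nat.card f.range ≤ 4 := H.card ▸ Nat.card_le_card_of_injective _ Subtype.val_injective
    have h3 : Nat.card Y = 4 := by
      rw [← H.card]
      refine Nat.card_congr ⟨fun p => p.1.1, fun c => ⟨(c, 0), (hY _).2 rfl⟩, fun p => ?_, fun c => rfl⟩
      exact Subtype.ext (Prod.ext rfl ((hY _).1 p.2).symm)
    rw [h3]
    nlinarith
  have heq : f.ker = Y := AddSubgroup.eq_of_le_of_card_ge hsub hcard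
  have e : v = v3 0 (c2 v) (c3 v) := by rw [← hv]; rfl
  conv_lhs => rw [e]
  exact (show (c2 v, c3 v) ∈ f.ker ↔ _ by rw [heq, hY])

theorem axis_inv {g : MulAut (V3 K)} (hg : g ∈ G) {v : V3 K} (h1 : c1 v = 0) (h3 : c3 v = 0) :
    c1 (g v) = 0 ∧ c3 (g v) = 0 := by
  have key : ∀ k : G, c1 (((k⁻¹ : G) : MulAut (V3 K)) v) = 0 := fun k => by
    by_cases hk : Fix (k : MulAut (V3 K))
    · exact fix_inv hk _ h1
    · exact (H.common_eq hk h1).2 h3
  obtain ⟨k, hk⟩ := H.exists_not_fix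
  have hg1 : c1 (g v) = 0 := by simpa using key (⟨g, hg⟩⁻¹)
  refine ⟨hg1, (H.common_eq hk hg1).1 ?_⟩
  have := key (⟨g, hg⟩⁻¹ * k)
  rwa [_root_.mul_inv_rev, inv_inv] at this

theorem eq_of_vec {k : G} {v : V3 K} (hv : c1 v = 0) (hk : c1 (((k⁻¹ : G) : MulAut (V3 K)) v) = 0)
    (h3 : c3 v ≠ 0) : Fix (k : MulAut (V3 K)) :=
  by_contra fun h => h3 ((H.common_eq h hv).1 hk)

/-- The elements fixing the middle axis. -/
def G1 (_H : GenHyp σ G T C) : Subgroup G where
  carrier := {g | ∀ c, (g : MulAut (V3 K)) (v3 0 c 0) = v3 0 c 0}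
  one_mem' := fun c => rfl
  mul_mem' := fun {a b} ha hb c => by
    show (a : MulAut (V3 K)) ((b : MulAut (V3 K)) _) = _
    rw [hb, ha]
  inv_mem' := fun {a} ha c => by
    have := congrArg ((a⁻¹ : G) : MulAut (V3 K)) (ha c)
    rw [Subgroup.coe_inv, MulAut.inv_apply_self] at this
    exact this.symm

theorem T_le : (T : Subgroup G) ≤ H.G1 := fun _ ht _ => H.fixes_mem ht (c1_v3 _ _ _)

theorem G1_normal : H.G1.Normal := ⟨fun a ha g c => by
  obtain ⟨h1, h3⟩ := H.axis_inv (g⁻¹).2 (c1_v3 0 c 0) (c3_v3 0 c 0)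
  show (g : MulAut (V3 K)) ((a : MulAut (V3 K)) (((g⁻¹ : G) : MulAut (V3 K)) (v3 0 c 0))) = _
  have e : ((g⁻¹ : G) : MulAut (V3 K)) (v3 0 c 0) = v3 0 (c2 (((g⁻¹ : G) : MulAut (V3 K)) (v3 0 c 0))) 0 := by
    conv_lhs => rw [← v3_eta (((g⁻¹ : G) : MulAut (V3 K)) (v3 0 c 0)), h1, h3]
  rw [e, ha, ← e, Subgroup.coe_inv, MulAut.apply_inv_self]⟩

theorem apply_g1 {g : G} (hg : g ∈ H.G1) (x c d : K) :
    (g : MulAut (V3 K)) (v3 x c d) = (g : MulAut (V3 K)) (v3 x 0 d) * v3 0 c 0 := by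
  conv_lhs => rw [show v3 x c d = v3 x 0 d * v3 0 c 0 by simp [v3_mul]]
  rw [map_mul, hg c]

/-- The action on the quotient by the middle axis. -/
noncomputable def quo : H.G1 →* MulAut (V2 K) :=
  MonoidHom.mk' (fun g =>
    let q : G → V2 K → V2 K := fun k p =>
      let v := (k : MulAut (V3 K)) (v3 (Multiplicative.toAdd p).1 0 (Multiplicative.toAdd p).2)
      Multiplicative.ofAdd (c1 v, c3 v)
    { toFun := q g
      invFun := q (g : G)⁻¹
      left_inv := fun p => by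
        obtain ⟨x, d⟩ := p
        have h := congrArg ((((g : G))⁻¹ : G) : MulAut (V3 K))
          (v3_eta ((g : G).1 (v3 x 0 d))).symm
        rw [Subgroup.coe_inv, MulAut.inv_apply_self, ← Subgroup.coe_inv,
          H.apply_g1 (inv_mem g.2)] at h
        have h1 := congrArg c1 h
        have h3 := congrArg c3 h
        simp only [c1_mul, c3_mul, c1_v3, c3_v3, add_zero] at h1 h3
        exact congrArg Multiplicative.ofAdd (Prod.ext h1.symm h3.symm)
      right_inv := fun p => by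
        obtain ⟨x, d⟩ := p
        have h := congrArg ((g : G) : MulAut (V3 K))
          (v3_eta ((((g : G))⁻¹ : G).1 (v3 x 0 d))).symm
        rw [Subgroup.coe_inv, MulAut.apply_inv_self, ← Subgroup.coe_inv,
          H.apply_g1 g.2] at h
        have h1 := congrArg c1 h
        have h3 := congrArg c3 h
        simp only [c1_mul, c3_mul, c1_v3, c3_v3, add_zero] at h1 h3
        exact congrArg Multiplicative.ofAdd (Prod.ext h1.symm h3.symm)
      map_mul' := fun p p' => by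
        obtain ⟨x, d⟩ := p
        obtain ⟨x', d'⟩ := p'
        show Multiplicative.ofAdd (c1 ((g : G).1 (v3 (x + x') 0 (d + d'))),
          c3 ((g : G).1 (v3 (x + x') 0 (d + d')))) = _
        rw [show v3 (x + x') 0 (d + d') = v3 x 0 d * v3 x' 0 d' by simp [v3_mul], map_mul, c1_mul, c3_mul]
        rfl })
    fun g h => MulEquiv.ext fun p => by
      obtain ⟨x, d⟩ := p
      show Multiplicative.ofAdd (c1 ((g : G).1 ((h : G).1 (v3 x 0 d))), c3 ((g : G).1 ((h : G).1 (v3 x 0 d)))) = _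
      rw [← v3_eta ((h : G).1 (v3 x 0 d)), H.apply_g1 g.2, c1_mul, c3_mul, c1_v3, c3_v3, add_zero, add_zero]
      rfl

theorem quo_apply (g : H.G1) (x d : K) : H.quo g (Multiplicative.ofAdd (x, d)) =
    Multiplicative.ofAdd (c1 ((g : G).1 (v3 x 0 d)), c3 ((g : G).1 (v3 x 0 d))) := rfl

theorem quo_injective : Function.Injective H.quo := by
  haveI : Fact (Nat.Prime 2) := ⟨Nat.prime_two⟩
  haveI : Finite (MulAut (V3 K)) := Finite.of_injective _ MulEquiv.toEquiv_injective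
  have hsq : ∀ g : H.quo.ker, g * g = 1 := fun g => by
    refine Subtype.ext (Subtype.ext (Subtype.ext (MulEquiv.ext fun v => ?_)))
    set a := ((g : H.G1) : G).1 with ha
    show a (a v) = v
    have hg : ∀ x d, c1 (a (v3 x 0 d)) = x ∧ c3 (a (v3 x 0 d)) = d := fun x d => by
      have := (H.quo_apply (g : H.G1) x d).symm.trans (by rw [show H.quo (g : H.G1) = 1 from g.2])
      exact ⟨congrArg Prod.fst (congrArg Multiplicative.toAdd this),
        congrArg Prod.snd (congrArg Multiplicative.toAdd this)⟩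
    have e : ∀ x c d, a (v3 x c d) = v3 x (c2 (a (v3 x 0 d)) + c) d := fun x c d => by
      rw [H.apply_g1 (g : H.G1).2, ← v3_eta (a (v3 x 0 d)), v3_mul, (hg x d).1, (hg x d).2, add_zero, add_zero, c2_v3]
    rw [← v3_eta v, e, e, ← add_assoc, CharTwo.add_self_eq_zero, zero_add]
  refine (injective_iff_map_eq_one _).2 fun g hg => ?_
  set L := H.quo.ker.map H.G1.subtype with hL
  haveI := H.G1_normal
  have hgL : (g : G) ∈ L := ⟨g, hg, rfl⟩
  have hK2 : IsPGroup 2 H.quo.ker := fun x => ⟨1, by rw [pow_one, pow_two]; exact hsq x⟩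
  have hgT : (g : G) ∈ (T : Subgroup G) := by
    have h := IsPGroup.to_sup_of_normal_left hK2 (T.subtype H.T_le).2
    have := (T.subtype H.T_le).3 h le_sup_right
    have hm : g ∈ (T.subtype H.T_le : Subgroup H.G1) := this ▸ Subgroup.mem_sup_left hg
    exact hm
  obtain ⟨s, hs⟩ := (H.mem _).1 hgT
  have := (H.quo_apply g 1 0).symm.trans (by rw [hg])
  rw [hs] at this
  have h3 : (0 : K) + s * 1 = 0 := congrArg Prod.snd (congrArg Multiplicative.toAdd this)
  rw [zero_add, mul_one] at h3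
  refine Subtype.ext (Subtype.ext (MulEquiv.ext fun v => ?_))
  rw [← v3_eta v, hs, h3, H.law.zero_left, zero_mul, add_zero, add_zero]
  rfl

/-- The special linear group acts on the quotient. -/
theorem exists_lift : ∃ φ : K →+ K, ∀ M : Matrix.SpecialLinearGroup (Fin 2) K, ∃ g : H.G1, ∀ x y : K,
    c1 ((g : G).1 (v3 x 0 (y + φ x))) = M.1 0 0 * x + M.1 0 1 * y ∧
      c3 ((g : G).1 (v3 x 0 (y + φ x))) =
        M.1 1 0 * x + M.1 1 1 * y + φ (M.1 0 0 * x + M.1 0 1 * y) := by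
  haveI : Fact (Nat.Prime 2) := ⟨Nat.prime_two⟩
  haveI : Finite (MulAut (V3 K)) := Finite.of_injective _ MulEquiv.toEquiv_injective
  set T1 := T.subtype H.T_le with hT1
  let T' : Sylow 2 H.quo.range := T1.mapSurjective H.quo.rangeRestrict_surjective
  have sh : ∀ {g : H.G1} {s : K}, IsSh σ (g : G).1 s → IsShear (H.quo g) s := fun {g s} h x y => by
    rw [H.quo_apply, h]; rfl
  have hmem : ∀ q : H.quo.range, q ∈ (T' : Subgroup H.quo.range) ↔ ∃ s, IsShear (q : MulAut (V2 K)) s := by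
    intro q
    rw [Sylow.coe_mapSurjective]
    constructor
    · rintro ⟨g, hg, rfl⟩
      obtain ⟨s, hs⟩ := (H.mem _).1 hg
      exact ⟨s, sh hs⟩
    · rintro ⟨s, hs⟩
      obtain ⟨t, ht, hts⟩ := H.exists_sh s
      refine ⟨⟨t, H.T_le ht⟩, ht, Subtype.ext (MulEquiv.ext fun p => ?_)⟩
      obtain ⟨x, d⟩ := p
      show H.quo ⟨t, H.T_le ht⟩ _ = (q : MulAut (V2 K)) (Multiplicative.ofAdd (x, d))
      rw [hs]
      exact sh (g := ⟨t, H.T_le ht⟩) hts x d
  have hall : ∀ s : K, ∃ q ∈ H.quo.range, IsShear q s := fun s => by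
    obtain ⟨t, ht, hts⟩ := H.exists_sh s
    exact ⟨_, ⟨⟨t, H.T_le ht⟩, rfl⟩, sh (g := ⟨t, H.T_le ht⟩) hts⟩
  have hn : ¬ (T' : Subgroup H.quo.range).Normal := fun hN => by
    obtain ⟨g, hg⟩ := H.exists_not_fix
    obtain ⟨t, ht, ht1⟩ := H.exists_ne_one
    haveI := H.G1_normal
    have hN1 : (T1 : Subgroup H.G1).Normal := ⟨fun a ha b => by
      have h1 := hN.conj_mem (H.quo.rangeRestrict a) (by
        rw [Sylow.coe_mapSurjective]; exact ⟨a, ha, rfl⟩) (H.quo.rangeRestrict b)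
      rw [Sylow.coe_mapSurjective, ← map_inv, ← map_mul, ← map_mul] at h1
      obtain ⟨a', ha', he⟩ := h1
      exact H.quo_injective (congrArg Subtype.val he) ▸ ha'⟩
    let R : Subgroup H.G1 := ((T : Subgroup G).map (MulAut.conj g).toMonoidHom).subgroupOf H.G1
    have hR : IsPGroup 2 R := (T.2.map (MulAut.conj g).toMonoidHom).comap_subtype
    obtain ⟨Q, hQ⟩ := hR.exists_le_sylow
    haveI := Sylow.unique_of_normal T1 hN1
    have hc : g * t * g⁻¹ ∈ (T : Subgroup G) := by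
      have hm : (⟨g * t * g⁻¹, H.G1_normal.conj_mem t (H.T_le ht) g⟩ : H.G1) ∈ (Q : Subgroup H.G1) :=
        hQ ⟨t, ht, rfl⟩
      rw [Subsingleton.elim Q T1] at hm
      exact hm
    exact hg (H.fix_of_conj ht ht1 hc)
  obtain ⟨φ, hφ⟩ := Spread.exists_sl2 H.quo.range T' hmem hall hn
  refine ⟨φ, fun M => ?_⟩
  obtain ⟨_, ⟨g, rfl⟩, hgx⟩ := hφ M
  refine ⟨g, fun x y => ?_⟩
  have h := (H.quo_apply g x (y + φ x)).symm.trans (hgx x y)
  exact ⟨congrArg Prod.fst (congrArg Multiplicative.toAdd h),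
    congrArg Prod.snd (congrArg Multiplicative.toAdd h)⟩

/-- The diagonal torus lies in the group. -/
theorem exists_torus
    (hN : ∀ g : G, (∀ t ∈ (T : Subgroup G), g * t * g⁻¹ ∈ (T : Subgroup G)) →
      ∃ s p q r, ∃ g' : G, IsDg (g' : MulAut (V3 K)) p q r ∧ ∀ x c d,
        (g : MulAut (V3 K)) (v3 x c d) = v3 (p * x) (q * c + σ s (p * x)) (r * d + s * (p * x)))
    {μ : K} (hμ : μ ≠ 0) : ∃ g ∈ G, IsDg g μ 1 μ⁻¹ := by
  obtain ⟨φ, hφ⟩ := H.exists_lift
  obtain ⟨g, hg⟩ := hφ ⟨!![μ, 0; 0, μ⁻¹], by rw [Matrix.det_fin_two]; simp [hμ]⟩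
  simp only [Matrix.cons_val', Matrix.cons_val_zero, Matrix.cons_val_one, Matrix.cons_val_fin_one,
    zero_mul, add_zero, zero_add, Matrix.of_apply] at hg
  have hfix : Fix ((g : G) : MulAut (V3 K)) := fun v hv => by
    have h0 := hg 0 (c3 v)
    rw [map_zero, add_zero] at h0
    rw [← v3_eta v, hv, H.apply_g1 g.2, c1_mul, h0.1, c1_v3, mul_zero, add_zero]
  obtain ⟨s, p, q, r, g', hd, he⟩ := hN g fun t ht => H.conj_mem_of_fix hfix ht
  have hq : q = 1 := by
    have h := (g.2 (1 : K)).symm.trans (he 0 1 0)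
    simp only [mul_zero, H.law.zero_right, add_zero, mul_one] at h
    exact (v3_inj h).2.1.symm
  have hp : p = μ := by
    have h := (hg 1 0).1
    rw [he, c1_v3, mul_one, mul_one] at h
    exact h
  have hr : r = μ⁻¹ := by
    have h := (hg 0 1).2
    rw [map_zero, add_zero, he] at h
    simp only [mul_zero, add_zero, mul_one, c3_v3, map_zero, add_zero, zero_add] at h
    exact h
  refine ⟨_, g'.2, ?_⟩
  rwa [hp, hq, hr] at hd

/-- The exchange lies in the group. -/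
theorem exists_w (htor : ∀ μ : K, μ ≠ 0 → ∃ g ∈ G, IsDg g μ 1 μ⁻¹) :
    ∃ β : K, ∃ g ∈ G, IsW β g := by
  have h2 : (2 : K) = 0 := CharTwo.two_eq_zero
  obtain ⟨φ, hφ⟩ := H.exists_lift
  obtain ⟨α, β, hαβ⟩ := exists_coeffs H.card φ
  obtain ⟨g, hg⟩ := hφ ⟨!![α, 1; 1 + α ^ 2, α], by
    rw [Matrix.det_fin_two]; simp; linear_combination (-1 : K) * h2⟩
  simp only [Matrix.cons_val', Matrix.cons_val_zero, Matrix.cons_val_one, Matrix.cons_val_fin_one,
    one_mul, Matrix.of_apply] at hg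
  set a := ((g : G) : MulAut (V3 K)) with ha
  have hpair : ∀ x y, c1 (a (v3 x 0 (y + β * x ^ 2))) = y ∧
      c3 (a (v3 x 0 (y + β * x ^ 2))) = x + β * y ^ 2 := by
    intro x y
    have e : y + β * x ^ 2 = (y + α * x) + φ x := by rw [hαβ]; linear_combination (-(α * x)) * h2
    obtain ⟨h1, h3⟩ := hg x (y + α * x)
    have e1 : α * x + (y + α * x) = y := by linear_combination (α * x) * h2
    rw [e1] at h1 h3
    rw [e, h1, h3, hαβ]
    exact ⟨rfl, by linear_combination (α ^ 2 * x + α * y) * h2⟩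
  let h : K → K → K := fun x y => c2 (a (v3 x 0 (y + β * x ^ 2)))
  have hform : ∀ x c y, a (v3 x c (y + β * x ^ 2)) = v3 y (h x y + c) (x + β * y ^ 2) := fun x c y => by
    rw [H.apply_g1 g.2, ← v3_eta (a (v3 x 0 (y + β * x ^ 2))), v3_mul, (hpair x y).1, (hpair x y).2,
      add_zero, add_zero]
  have hadd : ∀ x y x' y', h (x + x') (y + y') = h x y + h x' y' := fun x y x' y' => by
    show c2 _ = c2 _ + c2 _
    rw [← c2_mul, ← map_mul, v3_mul, add_zero]
    congr 3
    rw [CharTwo.add_sq]; ring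
  have hrel : ∀ μ : K, μ ≠ 0 → ∀ x y, h (μ * x) (μ⁻¹ * y) = h y x := by
    intro μ hμ
    obtain ⟨η, hη, hd⟩ := htor μ hμ
    let η1 : H.G1 := ⟨⟨η, hη⟩, fun c => by
      show η (v3 0 c 0) = _
      rw [hd, mul_zero, mul_zero, one_mul]⟩
    have h3 : μ ^ 3 = 1 := pow_three H.card hμ
    have hinv : μ⁻¹ = μ ^ 2 := inv_eq_of_mul_eq_one_right (by linear_combination h3)
    have heta : ∀ x c y, η (v3 x c (y + β * x ^ 2)) =
        v3 (μ * x) c (μ⁻¹ * y + β * (μ * x) ^ 2) := fun x c y => by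
      rw [hd, one_mul, mul_add, hinv]; congr 1; ring
    have hall : ∀ x y, a (η (a (η (v3 x 0 (y + β * x ^ 2))))) =
        v3 x (h y x + h (μ * x) (μ⁻¹ * y)) (y + β * x ^ 2) := fun x y => by
      rw [heta, hform, heta, hform, ← mul_assoc, ← mul_assoc, mul_inv_cancel₀ hμ, inv_mul_cancel₀ hμ,
        one_mul, one_mul, add_zero]
    have hk : H.quo (g * η1 * g * η1) = 1 := MulEquiv.ext fun p => by
      obtain ⟨x, d⟩ := p
      have e := hall x (d + β * x ^ 2)
      rw [add_assoc, CharTwo.add_self_eq_zero, add_zero] at e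
      show H.quo _ (Multiplicative.ofAdd (x, d)) = _
      rw [H.quo_apply]
      show Multiplicative.ofAdd (c1 (a (η (a (η (v3 x 0 d))))), c3 (a (η (a (η (v3 x 0 d)))))) = _
      rw [e]
      rfl
    intro x y
    have hone := H.quo_injective (hk.trans (map_one H.quo).symm)
    have e := congrArg (fun u : H.G1 => c2 ((u : G).1 (v3 x 0 (y + β * x ^ 2)))) hone
    change c2 (a (η (a (η (v3 x 0 (y + β * x ^ 2)))))) = 0 at e
    rw [hall, c2_v3] at e
    exact (CharTwo.add_eq_zero.1 e).symm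
  have h0 : h 0 0 = 0 := by
    have := hadd 0 0 0 0
    rwa [add_zero, left_eq_add] at this
  obtain ⟨w, hw0, hw1, -⟩ := exists_ne H.card 0 1 1
  have hsym : ∀ x y, h x y = h y x := fun x y => by
    have := hrel 1 one_ne_zero x y
    rwa [one_mul, inv_one, one_mul] at this
  have hx0 : ∀ μ : K, μ ≠ 0 → h μ 0 = h 1 0 := fun μ hμ => by
    have := hrel μ hμ 1 0
    rwa [mul_one, mul_zero, hsym 0 1] at this
  have hw1' : w + 1 ≠ 0 := fun e => hw1 (by
    rw [← sub_eq_zero, CharTwo.sub_eq_add, e])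
  have h10 : h 1 0 = 0 := by
    have := hadd w 0 1 0
    rw [add_zero, hx0 _ hw0, hx0 _ hw1', CharTwo.add_self_eq_zero] at this
    exact this
  have hxz : ∀ x, h x 0 = 0 := fun x => by
    by_cases hx : x = 0
    · rw [hx, h0]
    · rw [hx0 x hx, h10]
  refine ⟨β, a, (g : G).2, fun x c y => ?_⟩
  rw [hform]
  have : h x y = 0 := by
    have := hadd x 0 0 y
    rwa [add_zero, zero_add, hxz, hsym 0 y, hxz, add_zero] at this
  rw [this, zero_add]

/-- The group is generated by the exchange and the stabiliser of `(0, c, d)`. -/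
theorem gen {β : K} {w : G} (hw : IsW β (w : MulAut (V3 K))) {g : G} (hg : ¬ Fix (g : MulAut (V3 K))) :
    ∃ t ∈ (T : Subgroup G), Fix (((t * w)⁻¹ * g : G) : MulAut (V3 K)) := by
  obtain ⟨v, hv, hgv⟩ : ∃ v, c1 v = 0 ∧ c1 ((g : MulAut (V3 K)) v) ≠ 0 := by
    by_contra h; push Not at h; exact hg h
  set u := (g : MulAut (V3 K)) v with hu
  set x := c1 u with hx
  obtain ⟨t, ht, hts⟩ := H.exists_sh ((c3 u + β * x ^ 2) / x)
  refine ⟨t, ht, ?_⟩
  set s := (c3 u + β * x ^ 2) / x with hs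
  set z := v3 0 (c2 u + σ s x) x with hz
  have e : ((t * w : G) : MulAut (V3 K)) z = u := by
    show (t : MulAut (V3 K)) ((w : MulAut (V3 K)) z) = u
    have e1 : z = v3 0 (c2 u + σ s x) (x + β * 0 ^ 2) := by rw [hz]; simp
    rw [e1, hw, hts, hs, div_mul_cancel₀ _ hgv, add_assoc (c2 u), CharTwo.add_self_eq_zero, add_zero,
      zero_add, add_comm (c3 u), ← add_assoc, CharTwo.add_self_eq_zero, zero_add]
    exact v3_eta u
  refine H.eq_of_vec (v := z) (c1_v3 _ _ _) ?_ (by rw [hz, c3_v3]; exact hgv)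
  show c1 ((((t * w)⁻¹ * g)⁻¹ : G).1 z) = 0
  rw [_root_.mul_inv_rev, inv_inv]
  show c1 (((g⁻¹ : G) : MulAut (V3 K)) (((t * w : G) : MulAut (V3 K)) z)) = 0
  rw [e, hu, Subgroup.coe_inv, MulAut.inv_apply_self, hv]

/-- The twist vanishes if some diagonal element is not in the special torus. -/
theorem twist_zero {β : K} {w : G} (hw : IsW β (w : MulAut (V3 K))) {δ : G} {p q r : K}
    (hδ : IsDg (δ : MulAut (V3 K)) p q r) (hne : r ≠ p ^ 2) : β = 0 := by
  have h2 : (2 : K) = 0 := CharTwo.two_eq_zero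
  have hw0 : ∀ y, (w : MulAut (V3 K)) (v3 0 0 y) = v3 y 0 (β * y ^ 2) := fun y => by
    have := hw 0 0 y
    simpa using this
  have hk : ∀ y, ((δ * w : G) : MulAut (V3 K)) (v3 0 0 y) = v3 (p * y) 0 (r * (β * y ^ 2)) := fun y => by
    show (δ : MulAut (V3 K)) ((w : MulAut (V3 K)) _) = _
    rw [hw0, hδ, mul_zero]
  have hp : p ≠ 0 := fun h0 => by
    have h1 := hδ 1 0 0
    rw [h0, zero_mul, mul_zero, mul_zero, v3_zero, ← map_one (δ : MulAut (V3 K))] at h1
    exact one_ne_zero (congrArg c1 ((δ : MulAut (V3 K)).injective h1))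
  have hnf : ¬ Fix ((δ * w : G) : MulAut (V3 K)) := fun h => by
    have := h (v3 0 0 1) (c1_v3 _ _ _)
    rw [hk, c1_v3, mul_one] at this
    exact hp this
  obtain ⟨t, ht, hf⟩ := H.gen hw hnf
  obtain ⟨s, hs⟩ := (H.mem t).1 ht
  have hy : ∀ y : K, r * (β * y ^ 2) = β * (p * y) ^ 2 + s * (p * y) := by
    intro y
    set z := ((((t * w)⁻¹ * (δ * w)) : G) : MulAut (V3 K)) (v3 0 0 y) with hz
    have hz1 : c1 z = 0 := hf _ (c1_v3 _ _ _)
    have e : ((t * w : G) : MulAut (V3 K)) z = v3 (p * y) 0 (r * (β * y ^ 2)) := by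
      rw [hz]
      show (((t * w) * ((t * w)⁻¹ * (δ * w)) : G) : MulAut (V3 K)) _ = _
      rw [mul_inv_cancel_left, hk]
    change (t : MulAut (V3 K)) ((w : MulAut (V3 K)) z) = _ at e
    have ez : z = v3 0 (c2 z) (c3 z + β * 0 ^ 2) := by
      conv_lhs => rw [← v3_eta z, hz1]
      simp
    rw [ez, hw, hs, zero_add] at e
    obtain ⟨e1, -, e3⟩ := v3_inj e
    rw [← e3, e1]
  by_contra hβ
  obtain ⟨a, ha0, ha1, -⟩ := exists_ne H.card 0 1 1
  have e1 := hy 1
  have e2 := hy a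
  have : β * (r - p ^ 2) * (a * (a - 1)) = 0 := by linear_combination e2 - a * e1
  rcases mul_eq_zero.1 this with h | h
  · exact hne (sub_eq_zero.1 ((mul_eq_zero.1 h).resolve_left hβ))
  · exact (mul_ne_zero ha0 (sub_ne_zero.2 ha1)) h

end GenHyp

end CfsgLib.Fusion.SpFour.Four
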