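import Cfsg.Agent.Lib.Fusion.SpFour.SmallFourCoord

/-!
The normal form of the fusion systems over four elements.
-/

set_option autoImplicit false
set_option linter.style.haveILetI false
set_option linter.unusedSectionVars false
set_option linter.unusedVariables false

namespace CfsgLib.Fusion.SpFour.Four

open Cfsg Cfsg.FusionSystem

universe u

variable {K : Type*} [Field K] [Finite K] [CharP K 2]

/-- The exchange. -/
def swapV : MulAut (V3 K) where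
  toFun v := v3 (c3 v) (c2 v) (c1 v)
  invFun v := v3 (c3 v) (c2 v) (c1 v)
  left_inv _ := rfl
  right_inv _ := rfl
  map_mul' _ _ := rfl

omit [Finite K] [CharP K 2] in
theorem swapV_v3 (x c d : K) : swapV (v3 x c d) = v3 d c x := rfl

theorem swapV_isW : IsW (0 : K) swapV := fun x c y => by
  rw [zero_mul, zero_mul, add_zero, add_zero, swapV_v3]

/-- The admissible torus elements. -/
def Adm (full : Prop) (p : Kˣ × Kˣ) : Prop := full ∨ p.1 * p.2 = 1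

/-- The automizer of a side in the normal form. -/
def stdG (D : Side K) (full : Prop) : Subgroup (MulAut (V3 K)) :=
  Subgroup.closure ({swapV} ∪ {g | ∃ (u : U K) (p : Kˣ × Kˣ), Adm full p ∧
    ∀ v, (D.i (g v) : U K) = u * dgU p (D.i v : U K) * u⁻¹})

theorem conj_map (φ : MulAut (U K)) (u : U K) : φ * MulAut.conj u * φ⁻¹ = MulAut.conj (φ u) :=
  MulEquiv.ext fun x => by simp [MulAut.mul_apply, MulAut.conj_apply]

theorem piU_dgU (hq : Nat.card K = 4) (l m : Kˣ) :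
    piU hq * dgU (l, m) * (piU hq)⁻¹ = dgU (l ^ 2, m) := by
  refine MulEquiv.ext fun x => ?_
  show piU hq (dgU (l, m) (piU hq x)) = dgU (l ^ 2, m) x
  rw [piU_apply, piU_apply, dgU_apply, dgU_apply]
  have h4 := pow_four hq
  ext <;> simp only [Units.val_pow_eq_pow_val]
  · rw [mul_pow, ← pow_mul, h4]
  · rw [← pow_mul, h4]

theorem psiU_dgU (β γ : K) (l m : Kˣ) (hq : Nat.card K = 4)
    (h : (l * m : K) = 1 ∨ β = 0 ∧ γ = 0) :
    psiU β γ * dgU (l, m) * (psiU β γ)⁻¹ = dgU (l, m) := by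
  refine MulEquiv.ext fun x => ?_
  show psiU β γ (dgU (l, m) (psiU β γ x)) = dgU (l, m) x
  have h2 : (2 : K) = 0 := CharTwo.two_eq_zero
  rw [psiU_apply, psiU_apply, dgU_apply, dgU_apply]
  ext <;> simp only
  rcases h with h | ⟨hβ, hγ⟩
  · have h3 : (m : K) = (l : K) ^ 2 := by
      refine mul_left_cancel₀ l.ne_zero ?_
      rw [h, ← pow_succ', pow_three hq l.ne_zero]
    rw [h3] at h ⊢
    linear_combination ((l : K) ^ 4 * x.b ^ 2 * β + l * γ * x.a) * h2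
      + (γ * l * x.a) * h
  · rw [hβ, hγ]; ring

variable {Ω : Type u} [Group Ω] {S : Subgroup Ω} [Finite S] {F : FusionSystem S}

/-- Some automorphism of `S` moves a point of `Q`. -/
def FullQ (F : FusionSystem S) (Q : Subgroup Ω) : Prop :=
  ∃ α ∈ F.autGroup S, ∃ x : S, (x : Ω) ∈ Q ∧ α x ≠ x

theorem el_trans (e : S ≃* U K) (φ : MulAut (U K)) (x : U K) :
    el (e.trans φ) x = el e (φ⁻¹ x) := rfl

theorem pull_trans (e : S ≃* U K) (φ : MulAut (U K)) {H : Subgroup (U K)}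
    (h : ∀ x, φ x ∈ H ↔ x ∈ H) : pull (e.trans φ) H = pull e H := by
  ext y
  rw [mem_pull, mem_pull]
  constructor
  · rintro ⟨x, hx, rfl⟩
    refine ⟨φ⁻¹ x, ?_, rfl⟩
    rwa [← h, MulAut.apply_inv_self]
  · rintro ⟨x, hx, rfl⟩
    exact ⟨φ x, (h x).2 hx, by rw [el_trans, MulAut.inv_apply_self]⟩

theorem mem_autTop_trans (e : S ≃* U K) (φ : MulAut (U K)) {α : MulAut (U K)} :
    α ∈ autTop (e.trans φ) F ↔ φ⁻¹ * α * φ ∈ autTop e F := by
  rw [mem_autTop, mem_autTop]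
  refine exists_congr fun f => and_congr_right fun _ => ⟨fun h x => ?_, fun h x => ?_⟩
  · have h1 := h (φ x)
    rw [el_trans, el_trans, MulAut.inv_apply_self] at h1
    exact h1
  · have h1 := h (φ⁻¹ x)
    rw [el_trans, el_trans, h1, MulAut.mul_apply, MulAut.mul_apply, MulAut.apply_inv_self]

theorem exists_res (D : Side K) (α : MulAut (U K)) (h : ∀ v, α (D.i v : U K) ∈ D.H) :
    ∃ g : MulAut (V3 K), ∀ v, α (D.i v : U K) = (D.i (g v) : U K) := by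
  let f : V3 K →* V3 K := MonoidHom.mk' (fun v => D.i.symm ⟨_, h v⟩) fun v w => by
    rw [← map_mul]
    congr 1
    refine Subtype.ext ?_
    show α (D.i (v * w) : U K) = α (D.i v : U K) * α (D.i w : U K)
    rw [map_mul, Subgroup.coe_mul, map_mul]
  have hf : Function.Injective f := fun v w e =>
    D.i.injective (Subtype.ext (α.injective (congrArg Subtype.val (D.i.symm.injective e))))
  refine ⟨MulEquiv.ofBijective f ⟨hf, Finite.surjective_of_injective hf⟩, fun v => ?_⟩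
  show _ = (D.i (D.i.symm ⟨_, h v⟩) : U K)
  rw [MulEquiv.apply_symm_apply]

theorem exists_dgV (D : Side K) (l m : Kˣ) : ∃ g : MulAut (V3 K),
    IsDg g (D.P l m) (l * m : K) (l ^ 2 * m : K) ∧
      ∀ v, dgU (l, m) (D.i v : U K) = (D.i (g v) : U K) := by
  obtain ⟨g, hg⟩ := exists_res D (dgU (l, m)) fun v => by
    rw [← v3_eta v, D.dg]; exact SetLike.coe_mem _
  refine ⟨g, fun x c d => D.i.injective (Subtype.ext ?_), hg⟩
  rw [← hg, D.dg]

variable (e : S ≃* U K) (Q : Subgroup Ω)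

/-- The induced automorphisms are not normal. -/
def NN (F : FusionSystem S) (H : Subgroup (U K)) : Prop :=
  ¬ ((autInducedBy S (pull e H)).subgroupOf (F.autGroup (pull e H))).Normal

theorem nn_trans {φ : MulAut (U K)} {H : Subgroup (U K)} (h : ∀ x, φ x ∈ H ↔ x ∈ H)
    (hn : NN e F H) : NN (e.trans φ) F H := by
  unfold NN
  rw [pull_trans e φ h]
  exact hn

theorem pa_A {φ : MulAut (U K)} (h : φ ∈ PA K) (x : U K) : φ x ∈ U.grpA K ↔ x ∈ U.grpA K := h x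

theorem pa_B {φ : MulAut (U K)} (h : φ ∈ PA K) (x : U K) : φ x ∈ U.grpB K ↔ x ∈ U.grpB K := pa_b h x

/-- Coordinates adapted to the system. -/
structure Frame (F : FusionSystem S) : Prop where
  cen : ∀ v : U K, el e v ∈ Q → v.a = 0 ∧ v.b = 0 ∧ v.d = 0
  tor : ∀ α ∈ autTop e F, ∃ (u : U K) (p : Kˣ × Kˣ), α = MulAut.conj u * dgU p
  nA : NN e F (U.grpA K)
  nB : NN e F (U.grpB K)

theorem exists_point (hQS : Q ≤ S) (hQ1 : Q ≠ ⊥) : ∃ v : U K, el e v ∈ Q ∧ v ≠ 1 := by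
  obtain ⟨⟨x, hx⟩, hx1⟩ := Subgroup.ne_bot_iff_exists_ne_one.1 hQ1
  refine ⟨e ⟨x, hQS hx⟩, by rwa [el_coord], fun h => hx1 (Subtype.ext ?_)⟩
  have h' := congrArg (el e) h
  rwa [el_coord, el_one] at h'

/-- The elements of a side lying in `Q`. -/
def qV (D : Side K) : Subgroup (V3 K) :=
  Q.comap (MonoidHom.mk' (fun v => el e (D.i v : U K)) fun v w => by
    rw [map_mul, Subgroup.coe_mul, el_mul])

theorem qV_eq {D : Side K} {v : V3 K} (ha : (D.i v : U K).a = 0) (hb : (D.i v : U K).b = 0) :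
    v = v3 0 (D.i v : U K).c (D.i v : U K).d := by
  apply D.i.injective
  refine Subtype.ext ?_
  rw [D.center]
  ext <;> first | exact ha | exact hb | rfl

variable (hS : IsPGroup 2 S) (hF : F.IsSaturated 2) (hQ : F.IsNormal Q) (hQ1 : Q ≠ ⊥)
  (hq : Nat.card K = 4)
include hS hF hQ hQ1 hq

variable {e Q}

theorem Frame.genHyp (fr : Frame e Q F) (D : Side K) (hn : NN e F D.H) :
    ∃ T : Sylow 2 (GH e F D), GenHyp D.σ (GH e F D) T (qV e Q D) := by
  obtain ⟨T, hT⟩ := exists_sideHyp e hS hF hq D hn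
  refine ⟨T, { toSideHyp := hT, ne := ?_, le := fun v hv => ?_, inv := fun g hg v hv => ?_ }⟩
  · obtain ⟨w, hw, hw1⟩ := exists_point e Q hQ.1 hQ1
    obtain ⟨ha, hb, hd⟩ := fr.cen w hw
    have hm : v3 (0 : K) w.c w.d ∈ qV e Q D := by
      show el e (D.i _ : U K) ∈ Q
      rw [D.center, show (⟨0, 0, w.c, w.d⟩ : U K) = w by ext <;> simp [ha, hb]]
      exact hw
    intro hbot
    rw [hbot, Subgroup.mem_bot] at hm
    refine hw1 (U.ext ha hb ?_ hd)
    exact congrArg c2 hm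
  · obtain ⟨ha, hb, hd⟩ := fr.cen _ hv
    have := qV_eq ha hb
    rw [this, hd]
    exact ⟨rfl, rfl⟩
  · exact inv_normal e hS D hQ hg hv

theorem Frame.extend (fr : Frame e Q F) {D : Side K} {T : Sylow 2 (GH e F D)}
    (H : SideHyp D.σ (GH e F D) T) (g : GH e F D)
    (hg : ∀ t ∈ (T : Subgroup (GH e F D)), g * t * g⁻¹ ∈ (T : Subgroup (GH e F D))) :
    ∃ (u : U K) (p : Kˣ × Kˣ), dgU p ∈ autTop e F ∧
      ∀ v, (D.i ((g : MulAut (V3 K)) v) : U K) = u * dgU p (D.i v : U K) * u⁻¹ := by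
  obtain ⟨α, hα, hαv⟩ := exists_extend e hS hF D g fun t ht => (H.mem _).1 (hg t ((H.mem t).2 ht))
  obtain ⟨u, p, rfl⟩ := fr.tor α hα
  refine ⟨u, p, ?_, fun v => (hαv v).symm⟩
  have := mul_mem (inv_mem (conj_mem_autTop e (F := F) u)) hα
  rwa [inv_mul_cancel_left] at this

theorem Frame.hN (fr : Frame e Q F) {D : Side K} {T : Sylow 2 (GH e F D)}
    (H : SideHyp D.σ (GH e F D) T) (g : GH e F D)
    (hg : ∀ t ∈ (T : Subgroup (GH e F D)), g * t * g⁻¹ ∈ (T : Subgroup (GH e F D))) :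
    ∃ s p q r, ∃ g' : GH e F D, IsDg (g' : MulAut (V3 K)) p q r ∧ ∀ x c d,
      (g : MulAut (V3 K)) (v3 x c d) = v3 (p * x) (q * c + D.σ s (p * x)) (r * d + s * (p * x)) := by
  obtain ⟨u, ⟨l, m⟩, hp, hv⟩ := fr.extend hS hF hQ hQ1 hq H g hg
  obtain ⟨g', hd, hg'⟩ := exists_dgV D l m
  refine ⟨D.sOf u, _, _, _, ⟨g', res_mem e hp hg'⟩, hd, fun x c d => D.i.injective (Subtype.ext ?_)⟩
  rw [hv, D.dg, D.conj]

theorem Frame.tor_mem (fr : Frame e Q F) (μ : Kˣ) : dgU (μ⁻¹, μ) ∈ autTop e F := by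
  obtain ⟨T, H⟩ := fr.genHyp hS hF hQ hQ1 hq (sideA hq) fr.nA
  obtain ⟨g, hg, hd⟩ := H.exists_torus (fr.hN hS hF hQ hQ1 hq H.toSideHyp) μ.ne_zero
  have hfix : Fix g := fun v hv => by rw [← v3_eta v, hd, c1_v3, hv, mul_zero]
  obtain ⟨u, ⟨l, m⟩, hp, hv⟩ := fr.extend hS hF hQ hQ1 hq H.toSideHyp ⟨g, hg⟩
    fun t ht => H.conj_mem_of_fix hfix ht
  have h := hv (v3 0 1 1)
  rw [(sideA hq).dg, (sideA hq).conj, show ((⟨g, hg⟩ : GH e F (sideA hq)) : MulAut (V3 K)) = g from rfl,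
    hd] at h
  have h' := v3_inj ((sideA hq).i.injective (Subtype.ext h))
  simp only [mul_zero, mul_one, (sideA hq).law.zero_right, add_zero] at h'
  obtain ⟨-, h1, h2⟩ := h'
  have hlm : l * m = 1 := Units.ext h1.symm
  have hl : l = μ⁻¹ := Units.ext (by
    rw [Units.val_inv_eq_inv_val, h2]
    linear_combination (l : K) * h1)
  have hm : m = μ := by
    rw [hl] at hlm
    exact (inv_mul_eq_one.1 hlm).symm
  rw [← hl]
  nth_rewrite 1 [← hm]
  exact hp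

theorem Frame.exists_of_full (fr : Frame e Q F) (hf : FullQ F Q) :
    ∃ p : Kˣ × Kˣ, dgU p ∈ autTop e F ∧ p.1 * p.2 ≠ 1 := by
  obtain ⟨α, hα, x, hx, hne⟩ := hf
  have hα' : MulAut.congr e α ∈ autTop e F := ⟨α, hα, rfl⟩
  obtain ⟨u, p, hup⟩ := fr.tor _ hα'
  have hp : dgU p ∈ autTop e F := by
    have := mul_mem (inv_mem (conj_mem_autTop e (F := F) u)) (hup ▸ hα')
    rwa [inv_mul_cancel_left] at this
  refine ⟨p, hp, fun h1 => hne (e.injective ?_)⟩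
  obtain ⟨ha, hb, hd⟩ := fr.cen (e x) (by rwa [el_coord e x.2])
  have h2 := DFunLike.congr_fun hup (e x)
  rw [show MulAut.congr e α (e x) = e (α (e.symm (e x))) from rfl, e.symm_apply_apply] at h2
  rw [h2, MulAut.mul_apply, MulAut.conj_apply]
  obtain ⟨l, m⟩ := p
  have h1' : (l * m : K) = 1 := by rw [← Units.val_mul, h1, Units.val_one]
  have hfix : dgU (l, m) (e x) = e x := by
    rw [dgU_apply]; ext <;> simp [ha, hb, hd, h1']
  rw [hfix, U.conj_eq]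
  ext <;> simp [ha, hb, CharTwo.two_eq_zero]

theorem Frame.full_of_ne (fr : Frame e Q F) {p : Kˣ × Kˣ} (hp : dgU p ∈ autTop e F)
    (h1 : p.1 * p.2 ≠ 1) : FullQ F Q := by
  obtain ⟨α, hα, he⟩ := hp
  obtain ⟨w, hw, hw1⟩ := exists_point e Q hQ.1 hQ1
  obtain ⟨ha, hb, hd⟩ := fr.cen w hw
  refine ⟨α, hα, e.symm w, hw, fun hfix => ?_⟩
  have h2 : MulAut.congr e α w = w := by
    show e (α (e.symm w)) = w
    rw [hfix, e.apply_symm_apply]
  rw [show MulAut.congr e α = dgU p from he] at h2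
  obtain ⟨l, m⟩ := p
  rw [dgU_apply] at h2
  have hc := congrArg U.c h2
  have hc0 : w.c ≠ 0 := fun h0 => hw1 (U.ext ha hb h0 hd)
  exact h1 (Units.ext (by
    rw [Units.val_mul, Units.val_one]
    exact mul_right_cancel₀ hc0 (by rw [one_mul]; exact hc)))

theorem Frame.dg_iff (fr : Frame e Q F) (p : Kˣ × Kˣ) :
    dgU p ∈ autTop e F ↔ Adm (FullQ F Q) p := by
  constructor
  · intro hp
    by_cases h : p.1 * p.2 = 1
    · exact Or.inr h
    · exact Or.inl (fr.full_of_ne hS hF hQ hQ1 hq hp h)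
  rintro (hf | h)
  · obtain ⟨p₀, hp₀, hne⟩ := fr.exists_of_full hS hF hQ hQ1 hq hf
    have h3 : Nat.card Kˣ = 3 := by rw [Nat.card_units, hq]
    haveI : Fact (Nat.Prime 3) := ⟨Nat.prime_three⟩
    obtain ⟨j, hj⟩ := Subgroup.mem_zpowers_iff.1
      (mem_zpowers_of_prime_card (g' := p.1 * p.2) h3 hne)
    set q := p₀ ^ j
    have hqm : dgU q ∈ autTop e F := by rw [map_zpow]; exact zpow_mem hp₀ j
    have hq' : q.1 * q.2 = p.1 * p.2 := by rw [← hj, mul_zpow]; rfl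
    have hsplit : p = q * ((p.2 * q.2⁻¹)⁻¹, p.2 * q.2⁻¹) := by
      refine Prod.ext ?_ ?_
      · show p.1 = q.1 * (p.2 * q.2⁻¹)⁻¹
        rw [mul_inv_rev, inv_inv, ← mul_assoc, hq', mul_inv_cancel_right]
      · show p.2 = q.2 * (p.2 * q.2⁻¹)
        rw [mul_comm p.2, mul_inv_cancel_left]
    rw [hsplit, map_mul]
    exact mul_mem hqm (fr.tor_mem hS hF hQ hQ1 hq _)
  · have : p = (p.2⁻¹, p.2) := Prod.ext (eq_inv_of_mul_eq_one_left h) rfl
    rw [this]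
    exact fr.tor_mem hS hF hQ hQ1 hq _

theorem Frame.top_iff (fr : Frame e Q F) (α : MulAut (U K)) :
    α ∈ autTop e F ↔ ∃ (u : U K) (p : Kˣ × Kˣ), Adm (FullQ F Q) p ∧ α = MulAut.conj u * dgU p := by
  constructor
  · intro hα
    obtain ⟨u, p, rfl⟩ := fr.tor α hα
    refine ⟨u, p, (fr.dg_iff hS hF hQ hQ1 hq p).1 ?_, rfl⟩
    have := mul_mem (inv_mem (conj_mem_autTop e (F := F) u)) hα
    rwa [inv_mul_cancel_left] at this
  · rintro ⟨u, p, hp, rfl⟩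
    exact mul_mem (conj_mem_autTop e u) ((fr.dg_iff hS hF hQ hQ1 hq p).2 hp)

theorem Frame.exists_W (fr : Frame e Q F) (D : Side K) (hn : NN e F D.H) :
    ∃ β : K, (FullQ F Q → β = 0) ∧ ∃ w ∈ GH e F D, IsW β w := by
  obtain ⟨T, H⟩ := fr.genHyp hS hF hQ hQ1 hq D hn
  obtain ⟨β, w, hw, hβ⟩ := H.exists_w fun μ hμ =>
    H.exists_torus (fr.hN hS hF hQ hQ1 hq H.toSideHyp) hμ
  refine ⟨β, fun hf => ?_, w, hw, hβ⟩
  obtain ⟨⟨l, m⟩, hp, hne⟩ := fr.exists_of_full hS hF hQ hQ1 hq hf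
  obtain ⟨δ, hd, hδ⟩ := exists_dgV D l m
  refine H.twist_zero (w := ⟨w, hw⟩) hβ (δ := ⟨δ, res_mem e hp hδ⟩) hd (D.twist l m fun h => hne ?_)
  exact Units.ext (by rw [Units.val_mul, Units.val_one, h])

theorem Frame.gh_eq (fr : Frame e Q F) (D : Side K) (hn : NN e F D.H)
    (hw : swapV ∈ GH e F D) : GH e F D = stdG D (FullQ F Q) := by
  obtain ⟨T, H⟩ := fr.genHyp hS hF hQ hQ1 hq D hn
  refine le_antisymm ?_ ?_
  · intro g hg
    have hfix : ∀ k : GH e F D, Fix (k : MulAut (V3 K)) →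
        (k : MulAut (V3 K)) ∈ stdG D (FullQ F Q) := fun k hk => by
      obtain ⟨u, p, hp, hv⟩ := fr.extend hS hF hQ hQ1 hq H.toSideHyp k
        fun t ht => H.conj_mem_of_fix hk ht
      exact Subgroup.subset_closure (Or.inr ⟨u, p, (fr.dg_iff hS hF hQ hQ1 hq p).1 hp, hv⟩)
    by_cases hgf : Fix g
    · exact hfix ⟨g, hg⟩ hgf
    · obtain ⟨t, ht, hf⟩ := H.gen (w := ⟨swapV, hw⟩) swapV_isW (g := ⟨g, hg⟩) hgf
      have e1 : g = (t : MulAut (V3 K)) * swapV *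
          ((((t * ⟨swapV, hw⟩)⁻¹ * ⟨g, hg⟩ : GH e F D)) : MulAut (V3 K)) := by
        show g = ((t * ⟨swapV, hw⟩ * ((t * ⟨swapV, hw⟩)⁻¹ * ⟨g, hg⟩) : GH e F D) : MulAut (V3 K))
        rw [mul_inv_cancel_left]
      rw [e1]
      obtain ⟨s, hs⟩ := (H.mem t).1 ht
      exact mul_mem (mul_mem (hfix t (H.sh_fix hs))
        (Subgroup.subset_closure (Or.inl rfl))) (hfix _ hf)
  · refine (Subgroup.closure_le _).2 ?_
    rintro g (rfl | ⟨u, p, hp, hv⟩)
    · exact hw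
    · exact res_mem e (α := MulAut.conj u * dgU p)
        (mul_mem (conj_mem_autTop e u) ((fr.dg_iff hS hF hQ hQ1 hq p).2 hp)) fun v => (hv v).symm

variable (e Q)

theorem exists_frame (hcen : ∀ v : U K, el e v ∈ Q → v.a = 0 ∧ v.b = 0)
    (hA : NN e F (U.grpA K)) (hB : NN e F (U.grpB K)) :
    ∃ e' : S ≃* U K, pull e' (U.grpA K) = pull e (U.grpA K) ∧
      pull e' (U.grpB K) = pull e (U.grpB K) ∧ Frame e' Q F := by
  haveI : Fact (Nat.Prime 2) := ⟨Nat.prime_two⟩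
  haveI := finite_U e
  haveI : Finite (MulAut (U K)) := Finite.of_injective _ MulEquiv.toEquiv_injective
  set X := autTop e F with hX
  have hinn : Cfsg.Inn (U K) ≤ X := by rintro _ ⟨u, rfl⟩; exact conj_mem_autTop e u
  have hodd : Odd ((Cfsg.Inn (U K)).relIndex X) := by
    haveI : ((Cfsg.Inn (U K)).subgroupOf X).Normal := Subgroup.Normal.subgroupOf inferInstance X
    rw [← Nat.not_even_iff_odd, even_iff_two_dvd]
    intro h2
    obtain ⟨x, hx⟩ := exists_prime_orderOf_dvd_card' 2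
      (show 2 ∣ Nat.card (X ⧸ (Cfsg.Inn (U K)).subgroupOf X) from h2)
    obtain ⟨a, rfl⟩ := QuotientGroup.mk_surjective x
    obtain ⟨k, hk, g, hg⟩ := exists_pow_inner hS hF e a.2
    refine hk (hx ▸ orderOf_dvd_of_pow_eq_one ?_)
    rw [← QuotientGroup.mk_pow, QuotientGroup.eq_one_iff, Subgroup.mem_subgroupOf]
    exact ⟨g, MulEquiv.ext fun y => by
      rw [Subgroup.coe_pow, hg]; rfl⟩
  obtain ⟨φ, hφ, hφX⟩ := exists_torus_form hq X hinn hodd
  set e1 := e.trans φ with he1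
  have cen1 : ∀ v : U K, el e1 v ∈ Q → v.a = 0 ∧ v.b = 0 := fun v hv => by
    have := center_of_mem (α := φ) (hcen _ hv)
    change (φ (φ.symm v)).a = 0 ∧ (φ (φ.symm v)).b = 0 at this
    rwa [MulEquiv.apply_symm_apply] at this
  have tor1 : ∀ α ∈ autTop e1 F, ∃ (u : U K) (p : Kˣ × Kˣ), α = MulAut.conj u * dgU p := fun α hα => by
    obtain ⟨u, p, h⟩ := hφX _ ((mem_autTop_trans e φ).1 hα)
    exact ⟨u, p, by rw [← h]; group⟩
  have nA1 : NN e1 F (U.grpA K) := nn_trans e (pa_A hφ) hA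
  have nB1 : NN e1 F (U.grpB K) := nn_trans e (pa_B hφ) hB
  obtain ⟨T, hT⟩ := exists_sideHyp e1 hS hF hq (sideA hq) nA1
  have hax := hT.axis (qV e1 Q (sideA hq)) (fun v hv => by
    obtain ⟨ha, hb⟩ := cen1 _ hv
    rw [qV_eq ha hb]; rfl) fun g hg v hv => inv_normal e1 hS (sideA hq) hQ hg hv
  have hmem : ∀ w : U K, el e1 w ∈ Q → v3 0 w.c w.d ∈ qV e1 Q (sideA hq) := fun w hw => by
    obtain ⟨ha, hb⟩ := cen1 w hw
    show el e1 ((sideA hq).i _ : U K) ∈ Q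
    rw [(sideA hq).center, show (⟨0, 0, w.c, w.d⟩ : U K) = w by ext <;> simp [ha, hb]]
    exact hw
  rcases hax with hax | hax
  · exact ⟨e1, pull_trans e φ (pa_A hφ), pull_trans e φ (pa_B hφ),
      fun v hv => ⟨(cen1 v hv).1, (cen1 v hv).2, hax _ (hmem v hv)⟩, tor1, nA1, nB1⟩
  · have hpi : piU hq ∈ PA K := fun x => by
      rw [piU_apply]; exact pow_eq_zero_iff two_ne_zero
    refine ⟨e1.trans (piU hq), (pull_trans e1 _ (pa_A hpi)).trans (pull_trans e φ (pa_A hφ)),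
      (pull_trans e1 _ (pa_B hpi)).trans (pull_trans e φ (pa_B hφ)), fun v hv => ?_, fun α hα => ?_,
      nn_trans e1 (pa_A hpi) nA1, nn_trans e1 (pa_B hpi) nB1⟩
    · set w := (piU hq)⁻¹ v with hw
      obtain ⟨ha, hb⟩ := cen1 w hv
      have hv' : v = piU hq w := (MulAut.apply_inv_self (U K) _ v).symm
      rw [hv', piU_apply]
      refine ⟨?_, hb, hax _ (hmem w hv)⟩
      show w.a ^ 2 = 0
      rw [ha, zero_pow two_ne_zero]
    · obtain ⟨u, ⟨l, m⟩, h⟩ := tor1 _ ((mem_autTop_trans e1 _).1 hα)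
      refine ⟨piU hq u, (l ^ 2, m), ?_⟩
      rw [← conj_map, ← piU_dgU hq, ← mul_assoc, mul_assoc (piU hq * MulAut.conj u)]
      calc α = piU hq * ((piU hq)⁻¹ * α * piU hq) * (piU hq)⁻¹ := by group
        _ = _ := by rw [h]; group

/-- The normal form. -/
theorem normal_form (hcen : ∀ v : U K, el e v ∈ Q → v.a = 0 ∧ v.b = 0)
    (hA : NN e F (U.grpA K)) (hB : NN e F (U.grpB K)) :
    ∃ e' : S ≃* U K, pull e' (U.grpA K) = pull e (U.grpA K) ∧
      pull e' (U.grpB K) = pull e (U.grpB K) ∧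
      (∀ α, α ∈ autTop e' F ↔ ∃ (u : U K) (p : Kˣ × Kˣ),
        Adm (FullQ F Q) p ∧ α = MulAut.conj u * dgU p) ∧
      GH e' F (sideA hq) = stdG (sideA hq) (FullQ F Q) ∧
      GH e' F (sideB hq) = stdG (sideB hq) (FullQ F Q) := by
  obtain ⟨e2, hpA, hpB, fr⟩ := exists_frame e Q hS hF hQ hQ1 hq hcen hA hB
  obtain ⟨βA, hβA, wA, hwA, hWA⟩ := fr.exists_W hS hF hQ hQ1 hq (sideA hq) fr.nA
  obtain ⟨βB, hβB, wB, hwB, hWB⟩ := fr.exists_W hS hF hQ hQ1 hq (sideB hq) fr.nB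
  set ψ := psiU βA βB with hψ
  have hψP : ψ ∈ PA K := fun x => Iff.rfl
  set e3 := e2.trans ψ with he3
  have fr3 : Frame e3 Q F := by
    refine ⟨fun v hv => ?_, fun α hα => ?_, nn_trans e2 (pa_A hψP) fr.nA, nn_trans e2 (pa_B hψP) fr.nB⟩
    · set w := ψ⁻¹ v with hw
      obtain ⟨ha, hb, hd⟩ := fr.cen w hv
      rw [show v = ψ w from (MulAut.apply_inv_self (U K) _ v).symm, hψ, psiU_apply]
      refine ⟨ha, hb, ?_⟩
      show w.d + βA * w.b ^ 2 + βB * w.a = 0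
      rw [ha, hb, hd]; simp
    · have h1 := (mem_autTop_trans e2 ψ).1 hα
      obtain ⟨u, ⟨l, m⟩, hp, h⟩ := (fr.top_iff hS hF hQ hQ1 hq _).1 h1
      refine ⟨ψ u, (l, m), ?_⟩
      have hc : ψ * dgU (l, m) * ψ⁻¹ = dgU (l, m) := psiU_dgU βA βB l m hq (hp.imp
        (fun hf => ⟨hβA hf, hβB hf⟩) (fun h => by
          rw [← Units.val_mul, h, Units.val_one]) |>.symm)
      rw [← conj_map, ← hc]
      calc α = ψ * (ψ⁻¹ * α * ψ) * ψ⁻¹ := by group
        _ = _ := by rw [h]; group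
  have hswap : ∀ (D : Side K), (∀ x, ψ x ∈ D.H ↔ x ∈ D.H) → ∀ β w, w ∈ GH e2 F D → IsW β w →
      (∀ x c d, ψ (D.i (v3 x c d) : U K) = (D.i (v3 x c (d + β * x ^ 2)) : U K)) →
      swapV ∈ GH e3 F D := by
    intro D hD β w hw hW hψi
    obtain ⟨f, hf, hfv⟩ := (mem_GH e2).1 hw
    refine (mem_GH e3).2 ⟨f, by rwa [he3, pull_trans e2 ψ hD], fun v => ?_⟩
    rw [he3, el_trans, el_trans, ← v3_eta v, swapV_v3, show ψ⁻¹ = ψ from rfl, hψi, hψi, hfv, hW]
  refine ⟨e3, (pull_trans e2 ψ (pa_A hψP)).trans hpA, (pull_trans e2 ψ (pa_B hψP)).trans hpB,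
    fr3.top_iff hS hF hQ hQ1 hq, fr3.gh_eq hS hF hQ hQ1 hq _ fr3.nA ?_,
    fr3.gh_eq hS hF hQ hQ1 hq _ fr3.nB ?_⟩
  · refine hswap (sideA hq) (pa_A hψP) βA wA hwA hWA fun x c d => ?_
    show psiU βA βB (⟨0, x, c, d⟩ : U K) = ⟨0, x, c, d + βA * x ^ 2⟩
    rw [psiU_apply, mul_zero, add_zero]
  · refine hswap (sideB hq) (pa_B hψP) βB wB hwB hWB fun x c d => ?_
    show psiU βA βB (⟨x ^ 2, 0, c, d⟩ : U K) = ⟨x ^ 2, 0, c, d + βB * x ^ 2⟩
    rw [psiU_apply, zero_pow two_ne_zero, mul_zero, add_zero]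

end CfsgLib.Fusion.SpFour.Four
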