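import Cfsg.Agent.Lib.Fusion.SpFour.Defs
import Cfsg.Agent.Lib.Invol.Basic
import Mathlib.Algebra.CharP.Two

/-!
One of the two rank-one automizers over the field of four elements: the module `(x, c, d)` with the
four shears `(x, c + σ s x, d + s x)`.
-/

set_option autoImplicit false
set_option linter.style.haveILetI false
set_option linter.unusedSectionVars false

namespace CfsgLib.Fusion.SpFour.Four

variable {K : Type*} [Field K] [Finite K] [CharP K 2]

/-! ### The field -/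

omit [CharP K 2] in
theorem pow_four (hq : Nat.card K = 4) (x : K) : x ^ 4 = x := by
  letI : Fintype K := Fintype.ofFinite K
  have := FiniteField.pow_card x
  rwa [← Nat.card_eq_fintype_card, hq] at this

omit [CharP K 2] in
theorem pow_three (hq : Nat.card K = 4) {x : K} (hx : x ≠ 0) : x ^ 3 = 1 :=
  mul_left_cancel₀ hx (by rw [mul_one, ← pow_succ']; exact pow_four hq x)

omit [CharP K 2] in
theorem exists_ne (hq : Nat.card K = 4) (a b c : K) : ∃ w : K, w ≠ a ∧ w ≠ b ∧ w ≠ c := by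
  classical
  letI : Fintype K := Fintype.ofFinite K
  have h : ({a, b, c} : Finset K).card < Fintype.card K := by
    have : ({a, b, c} : Finset K).card ≤ 3 := Finset.card_le_three
    rw [← Nat.card_eq_fintype_card, hq]
    omega
  obtain ⟨w, hw⟩ : ∃ w, w ∉ ({a, b, c} : Finset K) := by
    by_contra hall
    push Not at hall
    have := Finset.card_le_card (s := Finset.univ) fun x _ => hall x
    rw [Finset.card_univ] at this
    omega
  simp only [Finset.mem_insert, Finset.mem_singleton, not_or] at hw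
  exact ⟨w, hw⟩

theorem omega_sq (hq : Nat.card K = 4) {w : K} (h0 : w ≠ 0) (h1 : w ≠ 1) : w * w = w + 1 := by
  have h2 : (2 : K) = 0 := CharTwo.two_eq_zero
  have h : (w - 1) * (w * w + w + 1) = 0 := by linear_combination pow_three hq h0
  have h' := (mul_eq_zero.1 h).resolve_left (sub_ne_zero.2 h1)
  linear_combination h' - (w + 1) * h2

theorem four_cases (hq : Nat.card K = 4) {w : K} (h0 : w ≠ 0) (h1 : w ≠ 1) (x : K) :
    x = 0 ∨ x = 1 ∨ x = w ∨ x = w + 1 := by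
  have h2 : (2 : K) = 0 := CharTwo.two_eq_zero
  have hw := omega_sq hq h0 h1
  by_cases hx0 : x = 0
  · exact Or.inl hx0
  by_cases hx1 : x = 1
  · exact Or.inr (Or.inl hx1)
  have hx := omega_sq hq hx0 hx1
  have h : (x - w) * (x - (w + 1)) = 0 := by linear_combination hx + hw + (1 - w * x + w) * h2
  rcases mul_eq_zero.1 h with h | h
  · exact Or.inr (Or.inr (Or.inl (sub_eq_zero.1 h)))
  · exact Or.inr (Or.inr (Or.inr (sub_eq_zero.1 h)))

/-- An additive map of the field is `α x + β x²`. -/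
theorem exists_coeffs (hq : Nat.card K = 4) (φ : K →+ K) : ∃ α β : K, ∀ x, φ x = α * x + β * x ^ 2 := by
  have h2 : (2 : K) = 0 := CharTwo.two_eq_zero
  obtain ⟨w, h0, h1, -⟩ := exists_ne hq 0 1 1
  have hw := omega_sq hq h0 h1
  refine ⟨φ 1 + (φ 1 * w + φ w), φ 1 * w + φ w, fun x => ?_⟩
  have e1 : φ 1 = (φ 1 + (φ 1 * w + φ w)) * 1 + (φ 1 * w + φ w) * 1 ^ 2 := by
    linear_combination -(φ 1 * w + φ w) * h2
  have e2 : φ w = (φ 1 + (φ 1 * w + φ w)) * w + (φ 1 * w + φ w) * w ^ 2 := by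
    linear_combination -(φ 1 * w + φ w) * hw - (w * (φ 1 * w + φ w) + φ 1 * w) * h2
  rcases four_cases hq h0 h1 x with rfl | rfl | rfl | rfl
  · simp
  · exact e1
  · exact e2
  · rw [map_add, CharTwo.add_sq]
    linear_combination e1 + e2

/-! ### The module -/

theorem v3_eta (v : V3 K) : v3 (c1 v) (c2 v) (c3 v) = v := rfl

theorem v3_mul (x c d x' c' d' : K) : v3 x c d * v3 x' c' d' = v3 (x + x') (c + c') (d + d') := rfl

@[simp] theorem c1_v3 (x c d : K) : c1 (v3 x c d) = x := rfl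
@[simp] theorem c2_v3 (x c d : K) : c2 (v3 x c d) = c := rfl
@[simp] theorem c3_v3 (x c d : K) : c3 (v3 x c d) = d := rfl

theorem v3_inj {x c d x' c' d' : K} (h : v3 x c d = v3 x' c' d') : x = x' ∧ c = c' ∧ d = d' :=
  ⟨congrArg c1 h, congrArg c2 h, congrArg c3 h⟩

theorem c1_mul (v w : V3 K) : c1 (v * w) = c1 v + c1 w := rfl
theorem c2_mul (v w : V3 K) : c2 (v * w) = c2 v + c2 w := rfl
theorem c3_mul (v w : V3 K) : c3 (v * w) = c3 v + c3 w := rfl
theorem c1_one : c1 (1 : V3 K) = 0 := rfl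
theorem c2_one : c2 (1 : V3 K) = 0 := rfl
theorem c3_one : c3 (1 : V3 K) = 0 := rfl

theorem v3_zero : v3 (0 : K) 0 0 = 1 := rfl

/-- The hypotheses on the second coordinate of the shears. -/
structure ShearLaw (σ : K → K → K) : Prop where
  zero_right : ∀ s, σ s 0 = 0
  zero_left : ∀ x, σ 0 x = 0
  cov : ∀ c d : K, c ≠ 0 → d ≠ 0 → ∃ s x : K, s ≠ 0 ∧ σ s x = c ∧ s * x = d
  uniq : ∀ s s' x x' : K, σ s x = σ s' x' → s * x = s' * x' → s * x ≠ 0 → s = s'

/-- The shear. -/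
def IsSh (σ : K → K → K) (g : MulAut (V3 K)) (s : K) : Prop :=
  ∀ x c d, g (v3 x c d) = v3 x (c + σ s x) (d + s * x)

/-- A diagonal map. -/
def IsDg (g : MulAut (V3 K)) (p q r : K) : Prop :=
  ∀ x c d, g (v3 x c d) = v3 (p * x) (q * c) (r * d)

/-- The exchange of the two ends, twisted by `β`. -/
def IsW (β : K) (g : MulAut (V3 K)) : Prop :=
  ∀ x c y, g (v3 x c (y + β * x ^ 2)) = v3 y c (x + β * y ^ 2)

theorem eq_of_isSh {σ : K → K → K} {g g' : MulAut (V3 K)} {s : K} (h : IsSh σ g s) (h' : IsSh σ g' s) :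
    g = g' := MulEquiv.ext fun v => by rw [← v3_eta v, h, h']

/-- The data of one side. -/
structure SideHyp (σ : K → K → K) (G : Subgroup (MulAut (V3 K))) (T : Sylow 2 G) : Prop where
  card : Nat.card K = 4
  law : ShearLaw σ
  mem : ∀ g : G, g ∈ (T : Subgroup G) ↔ ∃ s, IsSh σ (g : MulAut (V3 K)) s
  all : ∀ s : K, ∃ g ∈ G, IsSh σ g s
  not_normal : ¬ (T : Subgroup G).Normal

/-- The elements stabilising `(0, c, d)`. -/
def Fix (g : MulAut (V3 K)) : Prop := ∀ v, c1 v = 0 → c1 (g v) = 0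

variable {σ : K → K → K} {G : Subgroup (MulAut (V3 K))} {T : Sylow 2 G}

theorem fix_pow {g : MulAut (V3 K)} (h : Fix g) (n : ℕ) : Fix (g ^ n) := by
  induction n with
  | zero => exact fun v hv => hv
  | succ n ih => rw [pow_succ]; exact fun v hv => ih _ (h v hv)

theorem fix_inv {g : MulAut (V3 K)} (h : Fix g) : Fix g⁻¹ := by
  haveI : Finite (MulAut (V3 K)) := Finite.of_injective _ MulEquiv.toEquiv_injective
  obtain ⟨n, -, hn⟩ := (isOfFinOrder_of_finite g).exists_pow_eq_one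
  have hn' := pow_orderOf_eq_one g
  have he : g⁻¹ = g ^ (orderOf g - 1) := inv_eq_of_mul_eq_one_left (by
    rw [← pow_succ, Nat.sub_add_cancel (orderOf_pos g), hn'])
  rw [he]
  exact fix_pow h _

namespace SideHyp

variable (H : SideHyp σ G T)
include H

theorem sh_fix {g : MulAut (V3 K)} {s : K} (h : IsSh σ g s) : Fix g := fun v hv => by
  rw [← v3_eta v, h, c1_v3, hv]

theorem fixes {g : MulAut (V3 K)} {s : K} (h : IsSh σ g s) {v : V3 K} (hv : c1 v = 0) : g v = v := by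
  rw [← v3_eta v, h, hv, H.law.zero_right, mul_zero, add_zero, add_zero]

theorem fixes_mem {t : G} (ht : t ∈ (T : Subgroup G)) {v : V3 K} (hv : c1 v = 0) :
    (t : MulAut (V3 K)) v = v := by
  obtain ⟨s, hs⟩ := (H.mem t).1 ht
  exact H.fixes hs hv

theorem fixed_iff {t : G} (ht : t ∈ (T : Subgroup G)) (ht1 : t ≠ 1) {v : V3 K} :
    (t : MulAut (V3 K)) v = v ↔ c1 v = 0 := by
  refine ⟨fun h => ?_, fun h => H.fixes_mem ht h⟩
  obtain ⟨s, hs⟩ := (H.mem t).1 ht
  have hs0 : s ≠ 0 := fun h0 => ht1 (Subtype.ext (MulEquiv.ext fun w => by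
    rw [← v3_eta w, hs, h0, H.law.zero_left, zero_mul, add_zero, add_zero]; rfl))
  rw [← v3_eta v, hs] at h
  have := (v3_inj h).2.2
  exact (mul_eq_zero.1 (add_eq_left.1 this)).resolve_left hs0

theorem mem_sq {t : G} (ht : t ∈ (T : Subgroup G)) : t * t = 1 := by
  obtain ⟨s, hs⟩ := (H.mem t).1 ht
  refine Subtype.ext (MulEquiv.ext fun v => ?_)
  show (t : MulAut (V3 K)) ((t : MulAut (V3 K)) v) = v
  rw [← v3_eta v, hs, hs, add_assoc, CharTwo.add_self_eq_zero, add_assoc, CharTwo.add_self_eq_zero,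
    add_zero, add_zero]

theorem exists_sh (s : K) : ∃ t : G, t ∈ (T : Subgroup G) ∧ IsSh σ (t : MulAut (V3 K)) s := by
  obtain ⟨g, hg, hs⟩ := H.all s
  exact ⟨⟨g, hg⟩, (H.mem _).2 ⟨s, hs⟩, hs⟩

theorem exists_ne_one : ∃ t : G, t ∈ (T : Subgroup G) ∧ t ≠ 1 := by
  obtain ⟨t, ht, hs⟩ := H.exists_sh 1
  refine ⟨t, ht, fun h => ?_⟩
  have := hs 1 0 0
  rw [h] at this
  simpa using (v3_inj this).2.2

/-- The elements trivial on `(0, c, d)` and on the quotient by it are shears. -/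
theorem mem_of_trivial {g : G} (h1 : ∀ v, c1 v = 0 → (g : MulAut (V3 K)) v = v)
    (h2 : ∀ v, c1 ((g : MulAut (V3 K)) v) = c1 v) : g ∈ (T : Subgroup G) := by
  let L : Subgroup G :=
    { carrier := {g | (∀ v, c1 v = 0 → (g : MulAut (V3 K)) v = v) ∧ ∀ v, c1 ((g : MulAut (V3 K)) v) = c1 v}
      one_mem' := ⟨fun v _ => rfl, fun v => rfl⟩
      mul_mem' := fun {a b} ha hb => ⟨fun v hv => by
        show (a : MulAut (V3 K)) ((b : MulAut (V3 K)) v) = v
        rw [hb.1 v hv, ha.1 v hv], fun v => by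
        show c1 ((a : MulAut (V3 K)) ((b : MulAut (V3 K)) v)) = _
        rw [ha.2, hb.2]⟩
      inv_mem' := fun {a} ha => ⟨fun v hv => by
        have := congrArg ((a⁻¹ : G) : MulAut (V3 K)) (ha.1 v hv)
        rw [Subgroup.coe_inv, MulAut.inv_apply_self] at this
        exact this.symm, fun v => by
        have := ha.2 (((a⁻¹ : G) : MulAut (V3 K)) v)
        rw [Subgroup.coe_inv, MulAut.apply_inv_self] at this
        exact this.symm⟩ }
  have hL : IsPGroup 2 L := fun x => ⟨1, by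
    refine Subtype.ext (Subtype.ext (MulEquiv.ext fun v => ?_))
    rw [pow_one, pow_two]
    show ((x : G) : MulAut (V3 K)) (((x : G) : MulAut (V3 K)) v) = v
    set a := ((x : G) : MulAut (V3 K)) with ha
    set z := v3 0 (c2 (a v) + c2 v) (c3 (a v) + c3 v) with hz
    have e : a v = v * z := by
      rw [hz, ← v3_eta (v * _), c1_mul, c2_mul, c3_mul, c1_v3, c2_v3, c3_v3, add_zero, ← x.2.2 v,
        add_comm (c2 (a v)), ← add_assoc, CharTwo.add_self_eq_zero, zero_add, add_comm (c3 (a v)),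
        ← add_assoc, CharTwo.add_self_eq_zero, zero_add]
      exact (v3_eta _).symm
    rw [e, map_mul, x.2.1 z rfl, e, mul_assoc, hz, v3_mul, add_zero, CharTwo.add_self_eq_zero,
      CharTwo.add_self_eq_zero, v3_zero, mul_one]⟩
  have hTL : (T : Subgroup G) ≤ L := fun t ht => by
    obtain ⟨s, hs⟩ := (H.mem t).1 ht
    exact ⟨fun v hv => H.fixes hs hv, fun v => by rw [← v3_eta v, hs]; rfl⟩
  have hg : g ∈ L := ⟨h1, h2⟩
  rwa [T.3 hL hTL] at hg

/-- Stabilisers of `(0, c, d)` normalise the shears. -/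
theorem conj_mem_of_fix {g : G} (hg : Fix (g : MulAut (V3 K))) {t : G} (ht : t ∈ (T : Subgroup G)) :
    g * t * g⁻¹ ∈ (T : Subgroup G) := by
  have hgi : Fix ((g⁻¹ : G) : MulAut (V3 K)) := fix_inv hg
  refine H.mem_of_trivial (fun v hv => ?_) fun v => ?_
  · show (g : MulAut (V3 K)) ((t : MulAut (V3 K)) (((g⁻¹ : G) : MulAut (V3 K)) v)) = v
    rw [H.fixes_mem ht (hgi v hv), Subgroup.coe_inv, MulAut.apply_inv_self]
  · set w := ((g⁻¹ : G) : MulAut (V3 K)) v with hw
    obtain ⟨s, hs⟩ := (H.mem t).1 ht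
    show c1 ((g : MulAut (V3 K)) ((t : MulAut (V3 K)) w)) = c1 v
    have e : (t : MulAut (V3 K)) w = w * v3 0 (σ s (c1 w)) (s * c1 w) := by
      conv_lhs => rw [← v3_eta w]
      conv_rhs => rw [← v3_eta w]
      rw [hs, v3_mul, c1_v3, add_zero]
    rw [e, map_mul, c1_mul, hg _ (c1_v3 _ _ _), add_zero, hw, Subgroup.coe_inv, MulAut.apply_inv_self]

/-- A shear conjugated to a shear. -/
theorem fix_of_conj {g t : G} (ht : t ∈ (T : Subgroup G)) (ht1 : t ≠ 1)
    (hg : g * t * g⁻¹ ∈ (T : Subgroup G)) : Fix (g : MulAut (V3 K)) := fun v hv => by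
  refine (H.fixed_iff hg fun h => ht1 (conj_eq_one_iff.1 h)).1 ?_
  show (g : MulAut (V3 K)) ((t : MulAut (V3 K)) ((g⁻¹ : G).1 ((g : MulAut (V3 K)) v))) = _
  rw [Subgroup.coe_inv, MulAut.inv_apply_self, H.fixes_mem ht hv]

theorem exists_not_fix : ∃ g : G, ¬ Fix (g : MulAut (V3 K)) := by
  by_contra h
  push Not at h
  exact H.not_normal ⟨fun t ht g => H.conj_mem_of_fix (h g) ht⟩

theorem mem_of_commute {t z : G} (ht : t ∈ (T : Subgroup G)) (ht1 : t ≠ 1) (hz : z * z = 1)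
    (hc : z * t = t * z) : z ∈ (T : Subgroup G) := by
  haveI : Fact (Nat.Prime 2) := ⟨Nat.prime_two⟩
  haveI : Finite (MulAut (V3 K)) := Finite.of_injective _ MulEquiv.toEquiv_injective
  set W := Subgroup.closure ({t, z} : Set G) with hW
  have hcomm : ∀ a ∈ W, ∀ b ∈ W, a * b = b * a := by
    haveI := Subgroup.isMulCommutative_closure (k := ({t, z} : Set G)) (by
      rintro x (rfl | rfl) y (rfl | rfl) <;> simp_all)
    intro a ha b hb
    exact congrArg Subtype.val (mul_comm' (⟨a, ha⟩ : W) ⟨b, hb⟩)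
  have hsq : ∀ a ∈ W, a * a = 1 := by
    intro a ha
    induction ha using Subgroup.closure_induction with
    | mem x hx => rcases hx with rfl | rfl; exacts [H.mem_sq ht, hz]
    | one => exact one_mul 1
    | mul a b ha hb iha ihb =>
      rw [mul_assoc, ← mul_assoc b a b, hcomm b hb a ha, mul_assoc a b b, ihb, mul_one, iha]
    | inv a _ iha => rw [← mul_inv_rev, iha, inv_one]
  have hW2 : IsPGroup 2 W := fun a => ⟨1, Subtype.ext (by
    rw [pow_one, pow_two]; exact hsq a a.2)⟩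
  obtain ⟨Q, hQ⟩ := hW2.exists_le_sylow
  obtain ⟨k, hk⟩ := MulAction.exists_smul_eq G Q T
  have hm : ∀ a ∈ W, k * a * k⁻¹ ∈ (T : Subgroup G) := fun a ha => by
    rw [← hk]
    exact Subgroup.smul_mem_pointwise_smul a (MulAut.conj k) _ (hQ ha)
  have hkf : Fix (k : MulAut (V3 K)) := H.fix_of_conj ht ht1 (hm t (Subgroup.subset_closure (Or.inl rfl)))
  have h := H.conj_mem_of_fix (g := k⁻¹) (fix_inv hkf) (hm z (Subgroup.subset_closure (Or.inr rfl)))
  simpa [mul_assoc] using h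

/-- A shear and a shear of another Sylow subgroup are conjugate through their common fixed points. -/
theorem exists_conj {g t t₀ : G} (hg : ¬ Fix (g : MulAut (V3 K))) (ht : t ∈ (T : Subgroup G)) (ht1 : t ≠ 1)
    (h₀ : t₀ ∈ (T : Subgroup G)) (h₀1 : t₀ ≠ 1) :
    ∃ d : G, d * t * d⁻¹ = g * t₀ * g⁻¹ ∧
      ∀ v, c1 v = 0 → c1 (((g⁻¹ : G) : MulAut (V3 K)) v) = 0 → (d : MulAut (V3 K)) v = v := by
  haveI : Finite (MulAut (V3 K)) := Finite.of_injective _ MulEquiv.toEquiv_injective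
  set b := g * t₀ * g⁻¹ with hb
  have ha2 := CfsgLib.Invol.invol_of_mul_self (H.mem_sq ht) ht1
  have hb2 : orderOf b = 2 := by
    rw [hb, CfsgLib.Invol.orderOf_conj_eq]
    exact CfsgLib.Invol.invol_of_mul_self (H.mem_sq h₀) h₀1
  have hodd : Odd (orderOf (t * b)) := by
    rw [← Nat.not_even_iff_odd]
    intro heven
    set z := (t * b) ^ (orderOf (t * b) / 2) with hz
    have hz2 : orderOf z = 2 := CfsgLib.Invol.orderOf_pow_half heven
    have hzz := CfsgLib.Invol.invol_mul_self hz2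
    have hzt : z * t = t * z := CfsgLib.Invol.commute_pow_half_left ha2 hb2 heven
    have hzT := H.mem_of_commute ht ht1 hzz hzt
    have hzb : z * b = b * z := by
      have e : b = t * (t * b) := by rw [← mul_assoc, CfsgLib.Invol.invol_mul_self ha2, one_mul]
      have h2 : z * (t * b) = (t * b) * z := by rw [hz, ← pow_succ, ← pow_succ']
      rw [e, ← mul_assoc z, hzt, mul_assoc t z, h2, ← mul_assoc t]
    have hcj : g⁻¹ * z * g * t₀ = t₀ * (g⁻¹ * z * g) := by
      rw [hb] at hzb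
      have := congrArg (fun u => g⁻¹ * u * g) hzb
      simpa [mul_assoc] using this
    have hzT' := H.mem_of_commute h₀ h₀1 (z := g⁻¹ * z * g) (by
      calc g⁻¹ * z * g * (g⁻¹ * z * g) = g⁻¹ * (z * z) * g := by group
        _ = 1 := by rw [hzz]; group) hcj
    exact hg (H.fix_of_conj hzT' (fun h => CfsgLib.Invol.invol_ne_one hz2 (by
      calc z = g * (g⁻¹ * z * g) * g⁻¹ := by group
        _ = 1 := by rw [h]; group)) (by
      rw [show g * (g⁻¹ * z * g) * g⁻¹ = z by group]; exact hzT))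
  obtain ⟨d, hd, hd'⟩ := CfsgLib.Invol.exists_conj_of_odd ha2 hb2 hodd
  refine ⟨d, hd', fun v hv hgv => ?_⟩
  obtain ⟨n, rfl⟩ := Subgroup.mem_zpowers_iff.1 hd
  have h1 : ((t * b : G) : MulAut (V3 K)) v = v := by
    show (t : MulAut (V3 K)) ((g : MulAut (V3 K)) ((t₀ : MulAut (V3 K)) ((g⁻¹ : G).1 v))) = v
    rw [H.fixes_mem h₀ hgv, Subgroup.coe_inv, MulAut.apply_inv_self, H.fixes_mem ht hv]
  have h2 : ∀ m : ℕ, (((t * b) ^ m : G) : MulAut (V3 K)) v = v := fun m => by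
    induction m with
    | zero => rfl
    | succ m ih => rw [pow_succ]; show ((t * b : G) ^ m).1 ((t * b : G).1 v) = v; rw [h1, ih]
  obtain ⟨m, hm⟩ : ∃ m : ℕ, (t * b) ^ m = (t * b) ^ n :=
    mem_powers_iff_mem_zpowers.2 (zpow_mem (Subgroup.mem_zpowers _) n)
  rw [← hm]
  exact h2 m

/-- A common fixed point lies on an axis. -/
theorem axis_of_common {g : G} (hg : ¬ Fix (g : MulAut (V3 K))) {v : V3 K} (hv : c1 v = 0)
    (hgv : c1 (((g⁻¹ : G) : MulAut (V3 K)) v) = 0) : c2 v = 0 ∨ c3 v = 0 := by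
  by_contra hne
  push Not at hne
  obtain ⟨s, x, hs, hσ, hx⟩ := H.law.cov _ _ hne.1 hne.2
  obtain ⟨s', hs'0, hs's, -⟩ := exists_ne H.card 0 s s
  obtain ⟨t, ht, hts⟩ := H.exists_sh s
  obtain ⟨t', ht', hts'⟩ := H.exists_sh s'
  obtain ⟨t₀, h₀, h₀1⟩ := H.exists_ne_one
  have ne1 : ∀ {u : G} {r : K}, r ≠ 0 → IsSh σ (u : MulAut (V3 K)) r → u ≠ 1 := fun {u r} hr hu h => by
    have := hu 1 0 0
    rw [h] at this
    exact hr (by simpa using ((v3_inj this).2.2).symm)
  obtain ⟨d, hd, hdv⟩ := H.exists_conj hg ht (ne1 hs hts) h₀ h₀1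
  obtain ⟨d', hd', hdv'⟩ := H.exists_conj hg ht' (ne1 hs'0 hts') h₀ h₀1
  set h := d'⁻¹ * d with hh
  have hconj : h * t = t' * h := by
    have e := hd.trans hd'.symm
    calc h * t = d'⁻¹ * (d * t * d⁻¹) * d := by rw [hh]; group
      _ = t' * h := by rw [e, hh]; group
  have hhv : (h : MulAut (V3 K)) v = v := by
    show ((d'⁻¹ : G) : MulAut (V3 K)) ((d : MulAut (V3 K)) v) = v
    rw [hdv v hv hgv, Subgroup.coe_inv]
    exact ((d' : MulAut (V3 K)).symm_apply_eq).2 (hdv' v hv hgv).symm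
  have e1 : (t : MulAut (V3 K)) (v3 x 0 0) = v3 x 0 0 * v := by
    rw [hts, ← v3_eta v, v3_mul, hv, hσ, hx, add_zero]
  have e2 := congrArg (fun u : G => (u : MulAut (V3 K)) (v3 x 0 0)) hconj
  change (h : MulAut (V3 K)) ((t : MulAut (V3 K)) (v3 x 0 0)) =
    (t' : MulAut (V3 K)) ((h : MulAut (V3 K)) (v3 x 0 0)) at e2
  rw [e1, map_mul, hhv] at e2
  set y := (h : MulAut (V3 K)) (v3 x 0 0)
  rw [← v3_eta y, hts', ← v3_eta v, v3_mul] at e2
  obtain ⟨-, e3, e4⟩ := v3_inj e2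
  exact hs's (H.law.uniq s s' x (c1 y) (hσ.trans (add_left_cancel e3)) (hx.trans (add_left_cancel e4))
    (hx ▸ hne.2)).symm

/-- An invariant subgroup of `(0, c, d)` lies in one axis. -/
theorem axis (C : Subgroup (V3 K)) (hCz : ∀ v ∈ C, c1 v = 0)
    (hinv : ∀ g ∈ G, ∀ v ∈ C, g v ∈ C) : (∀ v ∈ C, c3 v = 0) ∨ ∀ v ∈ C, c2 v = 0 := by
  obtain ⟨g, hg⟩ := H.exists_not_fix
  have h : ∀ v ∈ C, c2 v = 0 ∨ c3 v = 0 := fun v hv =>
    H.axis_of_common hg (hCz v hv) (hCz _ (hinv _ (g⁻¹).2 v hv))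
  by_contra hne
  push Not at hne
  obtain ⟨⟨v, hv, hv3⟩, w, hw, hw2⟩ := hne
  have hv2 : c2 v = 0 := (h v hv).resolve_right hv3
  have hw3 : c3 w = 0 := (h w hw).resolve_left hw2
  rcases h _ (mul_mem hv hw) with h' | h'
  · rw [c2_mul, hv2, zero_add] at h'; exact hw2 h'
  · rw [c3_mul, hw3, add_zero] at h'; exact hv3 h'

end SideHyp

end CfsgLib.Fusion.SpFour.Four
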