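import Cfsg.Agent.Lib.Fusion.SpFour.SmallTwoAut

/-!
Saturated systems on `U K`, `|K| = 2`, with a normal subgroup in the centre and both abelian
maximal subgroups essential are the systems of `GL₃(2) × C₂`.
-/

set_option autoImplicit false
set_option maxHeartbeats 1000000
set_option synthInstance.maxSize 1000
set_option linter.unusedSectionVars false
set_option linter.style.haveILetI false

namespace CfsgLib.Fusion.SpFour

universe u

namespace STwo

open Cfsg Cfsg.FusionSystem Subgroup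

variable {Ω : Type u} [Group Ω] {S : Subgroup Ω}

theorem mul_pow_four {H : Subgroup U2} (hs : (⟨0, 0, 1, 1⟩ : U2) ∈ H) (α : MulAut H)
    (hfix : α ⟨_, hs⟩ = ⟨_, hs⟩)
    (hz : ∀ x : H, (x : U2).a = 0 → (x : U2).b = 0 → ((α x : H) : U2).a = 0 ∧ ((α x : H) : U2).b = 0)
    (hq : ∀ x : H, ((α (α x) : H) : U2).a = (x : U2).a ∧ ((α (α x) : H) : U2).b = (x : U2).b) :
    α ^ 4 = 1 := by
  set s : H := ⟨_, hs⟩ with hsdef
  have hcen : ∀ z w : U2, z.a = 0 → z.b = 0 → w.a = 0 → w.b = 0 → z ≠ 1 → w ≠ 1 →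
      z ≠ ⟨0, 0, 1, 1⟩ → w ≠ ⟨0, 0, 1, 1⟩ → w = z ∨ w = z * ⟨0, 0, 1, 1⟩ := by decide +kernel
  have hz2 : ∀ z : H, (z : U2).a = 0 → (z : U2).b = 0 → α (α z) = z := by
    intro z ha hb
    by_cases h1 : z = 1
    · simp [h1]
    by_cases hzs : z = s
    · rw [hzs, hfix, hfix]
    have hw := hz z ha hb
    have hws : α z ≠ s := fun h => hzs (α.injective (h.trans hfix.symm))
    have hw1 : α z ≠ 1 := fun h => h1 (α.injective (h.trans (map_one α).symm))
    rcases hcen z (α z : H) ha hb hw.1 hw.2 (fun h => h1 (Subtype.ext h))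
      (fun h => hw1 (Subtype.ext h)) (fun h => hzs (Subtype.ext h))
      (fun h => hws (Subtype.ext h)) with h | h
    · rw [show α z = z from Subtype.ext h, show α z = z from Subtype.ext h]
    · have h' : α z = z * s := Subtype.ext h
      rw [h', map_mul, hfix, h', mul_assoc]
      have hss : s * s = 1 := Subtype.ext (show (⟨0, 0, 1, 1⟩ : U2) * ⟨0, 0, 1, 1⟩ = 1 by decide +kernel)
      rw [hss, mul_one]
  have hδ : ∀ x y : U2, x.a = y.a → x.b = y.b → (x⁻¹ * y).a = 0 ∧ (x⁻¹ * y).b = 0 := by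
    decide +kernel
  refine MulEquiv.ext fun x => ?_
  set δ : H := x⁻¹ * α (α x) with hδdef
  have hd := hδ (x : U2) (α (α x) : H) (hq x).1.symm (hq x).2.symm
  have h1 : α (α x) = x * δ := (mul_inv_cancel_left x _).symm
  have h2 : δ * δ = 1 := Subtype.ext (by
    show (δ : U2) * δ = 1
    rw [sq_eq, show (δ : U2).a = 0 from hd.1, zero_mul]; rfl)
  show α (α (α (α x))) = x
  rw [h1, map_mul, map_mul, h1, hz2 δ hd.1 hd.2, mul_assoc, h2, mul_one]

theorem isPGroup_mulAut_top : IsPGroup 2 (MulAut U2) := by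
  intro α
  refine ⟨2, ?_⟩
  have hsq : ∀ x : U2, (x * x = 1) ↔ x.a = 0 ∨ x.b = 0 := by decide +kernel
  have hcl : ∀ x, (α x).a = 0 ∧ (α x).b = 0 ↔ x.a = 0 ∧ x.b = 0 := fun x => by
    rw [← central_iff, ← central_iff]
    refine ⟨fun h y => α.injective (by rw [map_mul, map_mul, h]), fun h y => ?_⟩
    obtain ⟨y, rfl⟩ := α.surjective y
    rw [← map_mul, ← map_mul, h]
  have hinv : ∀ x, ((α x).a = 0 ∨ (α x).b = 0) ↔ (x.a = 0 ∨ x.b = 0) := fun x => by
    rw [← hsq, ← hsq, ← map_mul, map_eq_one_iff _ α.injective]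
  set A : U2 := ⟨1, 0, 0, 0⟩
  set B : U2 := ⟨0, 1, 0, 0⟩
  have hdec : ∀ x : U2, ∃ z : U2, z.a = 0 ∧ z.b = 0 ∧ x = A ^ x.a.val * B ^ x.b.val * z := by
    intro x
    refine ⟨(A ^ x.a.val * B ^ x.b.val)⁻¹ * x, ?_, ?_, (mul_inv_cancel_left _ _).symm⟩
    all_goals revert x; decide +kernel
  have hval : ∀ x : U2, (α x).a = x.a * (α A).a + x.b * (α B).a ∧
      (α x).b = x.a * (α A).b + x.b * (α B).b := by
    intro x
    obtain ⟨z, hza, hzb, hx⟩ := hdec x
    have hd : ∀ (i k : Z2) (p q r : U2), r.a = 0 → r.b = 0 →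
        (p ^ i.val * q ^ k.val * r).a = i * p.a + k * q.a ∧
        (p ^ i.val * q ^ k.val * r).b = i * p.b + k * q.b := by
      intro i k p q r hr1 hr2
      have h2 : ∀ i : Z2, i = 0 ∨ i = 1 := by decide
      rcases h2 i with rfl | rfl <;> rcases h2 k with rfl | rfl <;>
        simp [U.mul_def, U.one_def, hr1, hr2, ZMod.val_zero, ZMod.val_one]
    have hx' : α x = α A ^ x.a.val * α B ^ x.b.val * α z := by
      conv_lhs => rw [hx]
      rw [map_mul, map_mul, map_pow, map_pow]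
    rw [hx']
    exact hd _ _ _ _ _ ((hcl z).2 ⟨hza, hzb⟩).1 ((hcl z).2 ⟨hza, hzb⟩).2
  have hfix : α ⟨0, 0, 1, 1⟩ = ⟨0, 0, 1, 1⟩ := by
    have h : (⟨0, 0, 1, 1⟩ : U2) = A * B * (A * B) := by decide +kernel
    have hAB : (A * B).a ≠ 0 ∧ (A * B).b ≠ 0 := by decide +kernel
    have hab : (α (A * B)).a = 1 ∧ (α (A * B)).b = 1 := by
      have hne : ¬ ((α (A * B)).a = 0 ∨ (α (A * B)).b = 0) := fun hh =>
        ((hinv _).1 hh).elim hAB.1 hAB.2
      have : ∀ p q : Z2, ¬ (p = 0 ∨ q = 0) → p = 1 ∧ q = 1 := by decide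
      exact this _ _ hne
    conv_lhs => rw [h, map_mul, sq_eq, hab.1, hab.2]
    decide +kernel
  have hq : ∀ x, (α (α x)).a = x.a ∧ (α (α x)).b = x.b := by
    intro x
    have hA := hinv A
    have hB := hinv B
    have hA' := hcl A
    have hB' := hcl B
    have hAB := hinv (A * B)
    have hval' := hval (A * B)
    have key : ∀ p q r s xa xb : Z2, (p = 0 ∨ q = 0) → (r = 0 ∨ s = 0) → ¬ (p = 0 ∧ q = 0) →
        ¬ (r = 0 ∧ s = 0) → ¬ (p + r = 0 ∨ q + s = 0) →
        (xa * p + xb * r) * p + (xa * q + xb * s) * r = xa ∧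
          (xa * p + xb * r) * q + (xa * q + xb * s) * s = xb := by decide +kernel
    have h := key (α A).a (α A).b (α B).a (α B).b x.a x.b (hA.2 (Or.inr rfl)) (hB.2 (Or.inl rfl))
      (fun h => absurd (hA'.1 h).1 (show (1 : Z2) ≠ 0 by decide))
      (fun h => absurd (hB'.1 h).2 (show (1 : Z2) ≠ 0 by decide)) fun h => by
        have h1 : (A * B).a = 1 ∧ (A * B).b = 1 := by decide +kernel
        rw [h1.1, h1.2, one_mul, one_mul, one_mul, one_mul] at hval'
        rw [← hval'.1, ← hval'.2, hAB, h1.1, h1.2] at h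
        exact h.elim one_ne_zero one_ne_zero
    rw [(hval (α x)).1, (hval (α x)).2, (hval x).1, (hval x).2]
    exact h
  let γ : MulAut (⊤ : Subgroup U2) := MulAut.congr Subgroup.topEquiv.symm α
  have hγ : γ ^ 4 = 1 := mul_pow_four (H := ⊤) (Subgroup.mem_top _) γ (Subtype.ext hfix)
    (fun x ha hb => (hcl x).2 ⟨ha, hb⟩) (fun x => hq x)
  refine MulEquiv.ext fun x => ?_
  have := congrArg (fun f : MulAut (⊤ : Subgroup U2) => (f ⟨x, Subgroup.mem_top x⟩ : U2)) hγ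
  exact this

/-- The cyclic-times-two maximal subgroup. -/
def grpC : Subgroup U2 where
  carrier := {x | x.a = x.b}
  one_mem' := rfl
  mul_mem' := fun {x y} (hx : x.a = x.b) (hy : y.a = y.b) =>
    show x.a + y.a = x.b + y.b by rw [hx, hy]
  inv_mem' := fun {x} (hx : x.a = x.b) => show -x.a = -x.b by rw [hx]

theorem isPGroup_mulAut_grpC : IsPGroup 2 (MulAut grpC) := by
  intro α
  refine ⟨2, ?_⟩
  have hsq : ∀ x : U2, x.a = x.b → (x * x = 1 ↔ x.a = 0 ∧ x.b = 0) := by decide +kernel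
  have hcl : ∀ x : grpC, ((α x : grpC) : U2).a = (x : U2).a ∧ ((α x : grpC) : U2).b = (x : U2).b := by
    intro x
    have h : ((α x : grpC) : U2) * (α x : grpC) = 1 ↔ (x : U2) * x = 1 := by
      rw [← Subgroup.coe_mul, ← Subgroup.coe_mul, ← map_mul, OneMemClass.coe_eq_one,
        OneMemClass.coe_eq_one, map_eq_one_iff _ α.injective]
    rw [hsq _ (α x).2, hsq _ x.2] at h
    have hd : ∀ p q r s : Z2, p = q → r = s → (p = 0 ∧ q = 0 ↔ r = 0 ∧ s = 0) → p = r ∧ q = s := by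
      decide +kernel
    exact hd _ _ _ _ (α x).2 x.2 h
  let g : grpC := ⟨⟨1, 1, 0, 0⟩, rfl⟩
  refine mul_pow_four (H := grpC) (show (⟨0, 0, 1, 1⟩ : U2) ∈ grpC from rfl) α ?_
    (fun x ha hb => ⟨(hcl x).1.trans ha, (hcl x).2.trans hb⟩)
    (fun x => ⟨(hcl _).1.trans (hcl x).1, (hcl _).2.trans (hcl x).2⟩)
  have h : (⟨⟨0, 0, 1, 1⟩, rfl⟩ : grpC) = g * g := Subtype.ext (by decide +kernel)
  rw [h, map_mul]
  refine Subtype.ext ?_
  show ((α g : grpC) : U2) * (α g : grpC) = (g : U2) * g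
  rw [sq_eq, sq_eq, (hcl g).1, (hcl g).2]

variable (e : S ≃* U2)

/-- Exchanged coordinates. -/
noncomputable abbrev eB : S ≃* U2 := e.trans sw

theorem pull_eB : pull e (U.grpB Z2) = PA (eB e) := by
  ext x
  rw [mem_pull, mem_pull]
  refine exists_congr fun hx => ?_
  rfl

variable [Finite S]

theorem isPGroup_mulAut_S (e : S ≃* U2) : IsPGroup 2 (MulAut S) :=
  isPGroup_mulAut_top.of_equiv (MulAut.congr e).symm

theorem hasCandidates (hS : IsPGroup 2 S) {F : FusionSystem S} (hF : F.IsSaturated 2) :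
    HasCandidates F 2 ![pull e (U.grpA Z2), pull e (U.grpB Z2)] := by
  intro P hP
  obtain ⟨hlt, hcen, hAut⟩ := shape_of_essential hS hF hP
  set H : Subgroup U2 := (P.subgroupOf S).map e.toMonoidHom with hH
  have hPH : P = pull e H := by
    ext x
    rw [mem_pull]
    refine ⟨fun hx => ⟨hlt.le hx, ⟨x, hlt.le hx⟩, hx, rfl⟩, ?_⟩
    rintro ⟨hx, s, hs, he⟩
    have : (s : S) = ⟨x, hx⟩ := e.injective he
    rw [this] at hs
    exact hs
  have hcen' : ∀ u : U2, (∀ w ∈ H, w * u = u * w) → u ∈ H := by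
    intro u hu
    have h1 : ((e.symm u : S) : Ω) ∈ P := hcen ⟨SetLike.coe_mem _, fun x hx => by
      obtain ⟨hxS, hxH⟩ := (mem_pull e H).1 (hPH ▸ hx)
      have h := congrArg e.symm (hu _ hxH)
      rw [map_mul, map_mul, e.symm_apply_apply] at h
      exact congrArg Subtype.val h⟩
    rw [hPH, mem_pull] at h1
    obtain ⟨h2, h3⟩ := h1
    rwa [Subtype.coe_eta, e.apply_symm_apply] at h3
  have hab : ∀ u w : U2, (u.a = 0 ∧ w.a = 0) ∨ (u.b = 0 ∧ w.b = 0) ∨ (u.a = u.b ∧ w.a = w.b) →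
      w * u = u * w := by decide +kernel
  have hconj : ∀ E : Subgroup Ω, conjSub 1 E = E := fun E => by ext x; simp [conjSub]
  by_cases hA : ∀ w ∈ H, w.a = 0
  · refine ⟨0, 1, S.one_mem, ?_⟩
    rw [hconj, hPH]
    show pull e H = pull e (U.grpA Z2)
    congr 1
    exact le_antisymm hA fun u hu => hcen' u fun w hw => hab u w (Or.inl ⟨hu, hA w hw⟩)
  by_cases hB : ∀ w ∈ H, w.b = 0
  · refine ⟨1, 1, S.one_mem, ?_⟩
    rw [hconj, hPH]
    show pull e H = pull e (U.grpB Z2)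
    congr 1
    exact le_antisymm hB fun u hu => hcen' u fun w hw =>
      hab u w (Or.inr (Or.inl ⟨hu, hB w hw⟩))
  by_cases hC : ∀ w ∈ H, w.a = w.b
  · have hHC : H = grpC := le_antisymm hC fun u hu => hcen' u fun w hw =>
      hab u w (Or.inr (Or.inr ⟨hu, hC w hw⟩))
    exfalso
    refine hAut ?_
    rw [hPH, hHC]
    exact isPGroup_mulAut_grpC.of_equiv (MulAut.congr (pullEquiv e grpC))
  exfalso
  push Not at hA hB hC
  obtain ⟨x, hx, hxa⟩ := hA
  obtain ⟨y, hy, hyb⟩ := hB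
  obtain ⟨w, hw, hwab⟩ := hC
  have hcases : ∀ p q r s : Z2, p ≠ 0 → r ≠ s →
      (q = 0) ∨ (s = 0 ∧ r = 1) ∨ (r = 0 ∧ p + r = 1 ∧ q + s = 0) := by decide +kernel
  obtain ⟨u₁, hu₁, h1a, h1b⟩ : ∃ u ∈ H, u.a = 1 ∧ u.b = 0 := by
    have h1 : ∀ p : Z2, p ≠ 0 → p = 1 := by decide
    rcases hcases x.a x.b w.a w.b hxa hwab with h | ⟨hs, hr⟩ | ⟨-, hp, hq⟩
    · exact ⟨x, hx, h1 _ hxa, h⟩
    · exact ⟨w, hw, hr, hs⟩
    · exact ⟨x * w, H.mul_mem hx hw, hp, hq⟩
  obtain ⟨u₂, hu₂, h2a, h2b⟩ : ∃ u ∈ H, u.a = 0 ∧ u.b = 1 := by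
    have h1 : ∀ p : Z2, p ≠ 0 → p = 1 := by decide
    rcases hcases y.b y.a w.b w.a hyb (Ne.symm hwab) with h | ⟨hs, hr⟩ | ⟨-, hp, hq⟩
    · exact ⟨y, hy, h, h1 _ hyb⟩
    · exact ⟨w, hw, hs, hr⟩
    · exact ⟨y * w, H.mul_mem hy hw, hq, hp⟩
  have hcl : ∀ (i k : Z2), ∃ u ∈ H, u.a = i ∧ u.b = k := by
    intro i k
    rcases (show (i = 0 ∨ i = 1) ∧ (k = 0 ∨ k = 1) by
      revert i k; decide) with ⟨rfl | rfl, rfl | rfl⟩
    exacts [⟨1, H.one_mem, rfl, rfl⟩, ⟨u₂, hu₂, h2a, h2b⟩, ⟨u₁, hu₁, h1a, h1b⟩,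
      ⟨u₁ * u₂, H.mul_mem hu₁ hu₂, by show u₁.a + u₂.a = 1; rw [h1a, h2a]; rfl,
        by show u₁.b + u₂.b = 1; rw [h1b, h2b]; rfl⟩]
  refine hlt.not_ge fun v hv => ?_
  rw [hPH, mem_pull]
  refine ⟨hv, ?_⟩
  obtain ⟨u, hu, hua, hub⟩ := hcl (e ⟨v, hv⟩).a (e ⟨v, hv⟩).b
  have hd : ∀ p q : U2, p.a = q.a → p.b = q.b → (p⁻¹ * q).a = 0 ∧ (p⁻¹ * q).b = 0 := by
    decide +kernel
  have hz := hcen' (u⁻¹ * e ⟨v, hv⟩) fun w _ =>
    ((central_iff _).2 (hd _ _ hua hub) w).symm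
  simpa using H.mul_mem hu hz

/-- The automizer in the system of the model. -/
theorem model_aut {F : FusionSystem S} (e : S ≃* U2) {κ : U2 →* M2} {ι : S →* M2}
    (hι : F.IsRealizedBy ι) (hκ : ∀ x, ι x = κ (e x)) {j ε : Z2} {g : GL (Fin 3) Z2}
    (hz : ∀ h : M2, h * κ (zP j) = κ (zP j) * h)
    (hg : ∀ v, (g : Matrix (Fin 3) (Fin 3) Z2) * (κ (elA j v)).1 =
        ((κ (elA j (ap2 (sig ε) v))).1 : Matrix (Fin 3) (Fin 3) Z2) * g ∧
      (κ (elA j v)).2 = (κ (elA j (ap2 (sig ε) v))).2 ∧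
      (κ (elA j v)).2 = Multiplicative.ofAdd (phi ε v)) :
    ¬ IsPGroup 2 (F.autGroup (PA e)) ∧
      (∀ α ∈ F.autGroup (PA e), act e j α (0, 0, 1) = (0, 0, 1)) ∧
      ∀ α ∈ F.autGroup (PA e), ∀ v, phi ε (act e j α v) = phi ε v := by
  have hPS : PA e ≤ S := pull_le e _
  have hfr : ∀ v, ι ⟨(frame e j (Multiplicative.ofAdd v) : PA e), hPS (SetLike.coe_mem _)⟩ =
      κ (elA j v) := fun v => by
    rw [hκ]
    congr 1
    rw [show (⟨((frame e j (Multiplicative.ofAdd v) : PA e) : Ω), hPS (SetLike.coe_mem _)⟩ : S) =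
      e.symm (elA j v) from Subtype.ext (frame_coe e j v), e.apply_symm_apply]
  have hconj : ∀ α ∈ F.autGroup (PA e), ∃ h : M2, ∀ v,
      κ (elA j (act e j α v)) = h * κ (elA j v) * h⁻¹ := by
    intro α hα
    obtain ⟨h, hh⟩ := (hι.2 (PA e) hPS _ fun x => hPS (α x).2).1 ((autGroup_mem_iff hPS).1 hα)
    refine ⟨h, fun v => ?_⟩
    rw [← hfr, ← hfr v, ← hh (frame e j (Multiplicative.ofAdd v))]
    congr 1
    refine Subtype.ext ?_
    show ((frame e j (Multiplicative.ofAdd (act e j α v)) : PA e) : Ω) = _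
    rw [frame_act]
    rfl
  have hinj : ∀ v w, κ (elA j v) = κ (elA j w) → v = w := fun v w h => by
    rw [← hfr, ← hfr] at h
    have := congrArg Subtype.val (hι.1 h)
    exact Multiplicative.ofAdd.injective ((frame e j).injective (Subtype.ext this))
  obtain ⟨h3, ⟨v₀, hv₀⟩, hadd⟩ := sig_facts ε
  refine ⟨fun hp => ?_, fun α hα => ?_, fun α hα v => ?_⟩
  · let σ : MulAut (PA e) := autOf e j (ap2 (sig ε)) (fun v => ap2 (sig ε) (ap2 (sig ε) v))
      (fun v => h3 v) (fun v => h3 v) hadd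
    have hσ : σ ∈ F.autGroup (PA e) := by
      refine (autGroup_mem_iff hPS).2 ((hι.2 (PA e) hPS _ fun x => hPS (σ x).2).2
        ⟨((g, 1) : M2), fun x => ?_⟩)
      obtain ⟨v, rfl⟩ := exists_frame e j x
      have hσv : σ (frame e j (Multiplicative.ofAdd v)) =
          frame e j (Multiplicative.ofAdd (ap2 (sig ε) v)) := by
        rw [← frame_act, show act e j σ v = ap2 (sig ε) v from act_autOf ..]
      rw [hfr v, eq_mul_inv_iff_mul_eq]
      refine (congrArg (fun t => t * ((g, 1) : M2))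
        (show _ = κ (elA j (ap2 (sig ε) v)) from ?_)).trans ?_
      · rw [← hfr]
        refine congrArg ι (Subtype.ext ?_)
        show ((σ (frame e j (Multiplicative.ofAdd v)) : PA e) : Ω) = _
        rw [hσv]
      exact Prod.ext (Units.ext (hg v).1.symm) (by
        show _ * 1 = 1 * _
        rw [mul_one, one_mul, (hg v).2.1])
    obtain ⟨k, hk⟩ := hp ⟨σ, hσ⟩
    have hk' : σ ^ 2 ^ k = 1 := congrArg Subtype.val hk
    have h3' : σ ^ 3 = 1 := eq_one_of_act e j fun v => by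
      rw [act_pow, show act e j σ = ap2 (sig ε) from funext fun v => act_autOf ..]
      exact h3 v
    have h1 : σ = 1 := by
      have := pow_gcd_eq_one.2 ⟨hk', h3'⟩
      rwa [(show Nat.Coprime 2 3 by decide).pow_left k, pow_one] at this
    refine hv₀ ?_
    have := congrArg (fun α => act e j α v₀) h1
    simpa only [show act e j σ = ap2 (sig ε) from funext fun v => act_autOf .., act_one] using this
  · obtain ⟨h, hh⟩ := hconj α hα
    refine hinj _ _ ?_
    rw [hh, elA_zP, hz, mul_inv_cancel_right]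
  · obtain ⟨h, hh⟩ := hconj α hα
    have h2 := congrArg Prod.snd (hh v)
    rw [Prod.snd_mul, Prod.snd_mul, Prod.snd_inv, mul_comm h.2, mul_inv_cancel_right,
      (hg _).2.2, (hg v).2.2] at h2
    exact Multiplicative.ofAdd.injective h2

theorem realizable_aux (hS : IsPGroup 2 S) (F : FusionSystem S) (hF : F.IsSaturated 2)
    (e : S ≃* U2) (hcand : HasCandidates F 2 ![pull e (U.grpA Z2), pull e (U.grpB Z2)])
    (Q : Subgroup Ω) (hQ : F.IsNormal Q) (hQ1 : Q ≠ ⊥)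
    (hQz : ∀ x (hx : x ∈ S), x ∈ Q → (e ⟨x, hx⟩).a = 0 ∧ (e ⟨x, hx⟩).b = 0)
    (hA : ¬ IsPGroup 2 (F.autGroup (pull e (U.grpA Z2))))
    (hB : ¬ IsPGroup 2 (F.autGroup (pull e (U.grpB Z2)))) :
    F.IsRealizable 2 := by
  have hinv : ∀ P : Subgroup Ω, Q ≤ P → P ≤ S → ∀ α ∈ F.autGroup P, ∀ x : P, (x : Ω) ∈ Q →
      ((α x : P) : Ω) ∈ Q := by
    intro P hQP hPS α hα x hx
    obtain ⟨g, hg, hgf, hgQ⟩ := (isNormal_iff.1 hQ).2 P _ (isMap_of_autGroup hPS hα)
    have h := (hg.mono le_sup_right).apply_mem_img hx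
    rw [hgQ, hgf _ x.2, toFun_aut_apply α x.2] at h
    exact h
  have hQA : Q ≤ PA e := fun x hx => (mem_pull e _).2 ⟨hQ.1 hx, (hQz x (hQ.1 hx) hx).1⟩
  have hQB : Q ≤ PA (eB e) := fun x hx => (mem_pull _ _).2 ⟨hQ.1 hx, (hQz x (hQ.1 hx) hx).2⟩
  have hQzB : ∀ x (hx : x ∈ S), x ∈ Q → ((eB e) ⟨x, hx⟩).a = 0 ∧ ((eB e) ⟨x, hx⟩).b = 0 :=
    fun x hx h => ⟨(hQz x hx h).2, (hQz x hx h).1⟩
  obtain ⟨hc, j, hj⟩ := exists_fixed_point e hS hF hA Q hQ.1 hQ1 hQz (hinv _ hQA (pull_le e _))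
  have hfA := fixed_of_mem e Q hQz (hinv _ hQA (pull_le e _)) hc hj
  have hswz : ∀ u : U2, swFun u = u → (eB e).symm u = e.symm u := fun u hu => by
    show e.symm (sw.symm u) = _
    exact congrArg e.symm hu
  have hfB := fixed_of_mem (eB e) Q hQzB (hinv _ hQB (pull_le _ _))
    (by rw [hswz _ sw_comm]; exact hc) (j := j) (by rw [hswz _ (sw_zP j)]; exact hj)
  rw [pull_eB] at hB hcand
  obtain ⟨εb, hεb⟩ := exists_phi e hS hF hfA hA
  obtain ⟨εa, hεa⟩ := exists_phi (eB e) hS hF hfB hB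
  let κ : U2 →* M2 := kap j εa εb
  let ι : S →* M2 := κ.comp e.toMonoidHom
  have hι : Function.Injective ι := (kap_injective j εa εb).comp e.injective
  have hr := isRealizedBy_pullSys ι hι
  have hT : ∃ T : Sylow 2 M2, (T : Subgroup M2) = ι.range := by
    refine ⟨Sylow.ofCard ι.range ?_, rfl⟩
    rw [card_M2]
    show Nat.card ι.range = 2 ^ 4
    rw [← Nat.card_congr (MonoidHom.ofInjective hι).toEquiv, Nat.card_congr e.toEquiv,
      Nat.card_eq_fintype_card]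
    rfl
  set F' := pullSys ι hι
  have hF' : F'.IsSaturated 2 := isSaturated_of_realized hr hT
  have hmA := model_aut (j := j) (ε := εb) (g := gA) e hr (κ := κ) (fun x => rfl)
    (kap_zP_comm j εa εb) (gA_conj j εa εb)
  have hmB := model_aut (j := j) (ε := εa) (g := gB) (eB e) hr (κ := κ.comp sw.toMonoidHom)
    (fun x => congrArg κ (sw_sw (e x)).symm)
    (fun h => by
      show h * κ (sw (zP j)) = κ (sw (zP j)) * h
      rw [show sw (zP j) = zP j from sw_zP j]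
      exact kap_zP_comm j εa εb h)
    (gB_conj j εa εb)
  have hq := isPGroup_mulAut_S e
  have hcand' := hasCandidates e hS hF'
  rw [pull_eB] at hcand'
  have hAA : F.autGroup (PA e) = F'.autGroup (PA e) := by
    ext α
    rw [aut_iff e hS hF hfA hA hεb, aut_iff e hS hF' hmA.2.1 hmA.1 hmA.2.2]
  have hBB : F.autGroup (PA (eB e)) = F'.autGroup (PA (eB e)) := by
    ext α
    rw [aut_iff _ hS hF hfB hB hεa, aut_iff _ hS hF' hmB.2.1 hmB.1 hmB.2.2]
  have hall : ∀ i : Fin 2, F.autGroup (![PA e, PA (eB e)] i) = F'.autGroup (![PA e, PA (eB e)] i) :=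
    Fin.forall_fin_two.2 ⟨hAA, hBB⟩
  have he : F = F' := fusionSystem_ext (hom_eq_of_le_le
    (le_of_candidates hS hF F' (autGroup_top_le hS hF hq F') hcand fun i _ _ => (hall i).le)
    (le_of_candidates hS hF' F (autGroup_top_le hS hF' hq F) hcand' fun i _ _ => (hall i).ge))
  rw [he]
  exact isRealizable_of_model hr hT

end STwo

namespace STwo

/-- Coordinates in the two-element field. -/
def congrU {K L : Type*} [Field K] [Field L] (f : K ≃+* L) : U K ≃* U L where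
  toFun x := ⟨f x.a, f x.b, f x.c, f x.d⟩
  invFun x := ⟨f.symm x.a, f.symm x.b, f.symm x.c, f.symm x.d⟩
  left_inv x := by ext <;> simp
  right_inv x := by ext <;> simp
  map_mul' x y := by
    ext <;> simp only [U.mul_def, map_add, map_mul, map_pow, map_ofNat]

end STwo

open Cfsg Cfsg.FusionSystem Subgroup in
open STwo in
/-- If the Sylow subgroup of the automizer of a normal subgroup is not normal it is not
everything. -/
theorem SmallTwo.not_isPGroup {Ω : Type u} [Group Ω] {S : Subgroup Ω} [Finite S]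
    (hS : IsPGroup 2 S) {F : FusionSystem S} (hF : F.IsSaturated 2) {P : Subgroup Ω}
    (hP : F.IsFullyNormalized P)
    (h : ¬ ((autInducedBy S P).subgroupOf (F.autGroup P)).Normal) :
    ¬ IsPGroup 2 (F.autGroup P) := fun hp => by
  haveI := finite_of_le hP.1
  obtain ⟨T, hT⟩ := (fullyAutomized_of_fullyNormalized hS hF hP).2
  have htop : (T : Subgroup (F.autGroup P)) = ⊤ :=
    (T.is_maximal' (hp.of_equiv Subgroup.topEquiv.symm) le_top).symm
  refine h ?_
  rw [← hT, htop]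
  infer_instance

open Cfsg Cfsg.FusionSystem Subgroup in
open STwo in
/-- The field of two elements. -/
theorem SmallTwo.realizable {Ω : Type u} [Group Ω] {S : Subgroup Ω} [Finite S] {K : Type*}
    [Field K] [Finite K] [CharP K 2]
    (hS : IsPGroup 2 S) (F : FusionSystem S) (hF : F.IsSaturated 2)
    (hq : Nat.card K = 2) (e : S ≃* U K)
    (hcand : HasCandidates F 2 ![pull e (U.grpA K), pull e (U.grpB K)])
    (Q : Subgroup Ω) (hQ : F.IsNormal Q) (hQ1 : Q ≠ ⊥)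
    (hQz : ∀ x (hx : x ∈ S), x ∈ Q → (e ⟨x, hx⟩).a = 0 ∧ (e ⟨x, hx⟩).b = 0)
    (hnA : ¬ ((autInducedBy S (pull e (U.grpA K))).subgroupOf
      (F.autGroup (pull e (U.grpA K)))).Normal)
    (hnB : ¬ ((autInducedBy S (pull e (U.grpB K))).subgroupOf
      (F.autGroup (pull e (U.grpB K)))).Normal) :
    F.IsRealizable 2 := by
  let c : ZMod 2 →+* K := ZMod.castHom (dvd_refl 2) K
  have hc : Function.Bijective c := by
    refine (Nat.bijective_iff_injective_and_card c).2 ⟨c.injective, ?_⟩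
    rw [hq, Nat.card_zmod]
  let f : K ≃+* Z2 := (RingEquiv.ofBijective c hc).symm
  let e' : S ≃* U2 := e.trans (congrU f)
  have hA' : pull e' (U.grpA Z2) = pull e (U.grpA K) := by
    ext x
    rw [mem_pull, mem_pull]
    exact exists_congr fun hx => (map_eq_zero_iff f f.injective)
  have hB' : pull e' (U.grpB Z2) = pull e (U.grpB K) := by
    ext x
    rw [mem_pull, mem_pull]
    exact exists_congr fun hx => (map_eq_zero_iff f f.injective)
  rw [← hA', ← hB'] at hcand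
  rw [← hA'] at hnA
  rw [← hB'] at hnB
  have hB'' : F.IsFullyNormalized (pull e' (U.grpB Z2)) := by
    rw [pull_eB]; exact fullyNormalized_PA _
  exact realizable_aux hS F hF e' hcand Q hQ hQ1
    (fun x hx h => ⟨(map_eq_zero_iff f f.injective).2 (hQz x hx h).1,
      (map_eq_zero_iff f f.injective).2 (hQz x hx h).2⟩)
    (SmallTwo.not_isPGroup hS hF (fullyNormalized_PA e') hnA)
    (SmallTwo.not_isPGroup hS hF hB'' hnB)

end CfsgLib.Fusion.SpFour
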