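import Cfsg.Agent.Lib.Fusion.SpFour.SmallTwoBase
import Cfsg.Agent.Lib.Fusion.CandidateEngine
import Cfsg.Agent.Lib.Fusion.Normal

/-!
The automizer of an abelian maximal subgroup in a system with a normal subgroup in the centre.
-/

set_option autoImplicit false
set_option maxHeartbeats 1000000
set_option synthInstance.maxSize 1000
set_option linter.unusedSectionVars false
set_option linter.style.haveILetI false

namespace CfsgLib.Fusion.SpFour.STwo

open Cfsg Cfsg.FusionSystem Subgroup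

universe u

variable {Ω : Type u} [Group Ω] {S : Subgroup Ω}

theorem mem_pull {K : Type*} [Field K] (e : S ≃* U K) (H : Subgroup (U K)) {x : Ω} :
    x ∈ pull e H ↔ ∃ hx : x ∈ S, e ⟨x, hx⟩ ∈ H := by
  constructor
  · rintro ⟨s, ⟨u, hu, rfl⟩, rfl⟩
    refine ⟨(e.symm u).2, ?_⟩
    show e (e.symm u) ∈ H
    rwa [MulEquiv.apply_symm_apply]
  · rintro ⟨hx, h⟩
    exact ⟨⟨x, hx⟩, ⟨e ⟨x, hx⟩, h, e.symm_apply_apply _⟩, rfl⟩

theorem pull_le {K : Type*} [Field K] (e : S ≃* U K) (H : Subgroup (U K)) : pull e H ≤ S :=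
  fun _ hx => ((mem_pull e H).1 hx).1

variable (e : S ≃* U2)

/-- A subgroup of `U2` and its copy in `S`. -/
noncomputable def pullEquiv (H : Subgroup U2) : H ≃* pull e H :=
  (H.equivMapOfInjective e.symm.toMonoidHom e.symm.injective).trans
    ((H.map e.symm.toMonoidHom).equivMapOfInjective S.subtype S.subtype_injective)

theorem pullEquiv_coe (H : Subgroup U2) (x : H) :
    ((pullEquiv e H x : pull e H) : Ω) = ((e.symm (x : U2) : S) : Ω) := rfl

/-- The preimage of `bcd`. -/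
abbrev PA : Subgroup Ω := pull e (U.grpA Z2)

/-- Coordinates on the preimage of `bcd`. -/
noncomputable def frame (j : Z2) : Multiplicative V ≃* PA e :=
  (frameU j).trans (pullEquiv e _)

theorem frame_coe (j : Z2) (v : V) :
    ((frame e j (Multiplicative.ofAdd v) : PA e) : Ω) = ((e.symm (elA j v) : S) : Ω) :=
  (pullEquiv_coe e _ _).trans rfl

theorem exists_frame (j : Z2) (x : PA e) : ∃ v : V, frame e j (Multiplicative.ofAdd v) = x :=
  ⟨Multiplicative.toAdd ((frame e j).symm x), by simp⟩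

/-- The action of an automorphism in coordinates. -/
noncomputable def act (j : Z2) (α : MulAut (PA e)) (v : V) : V :=
  Multiplicative.toAdd ((frame e j).symm (α (frame e j (Multiplicative.ofAdd v))))

theorem frame_act (j : Z2) (α : MulAut (PA e)) (v : V) :
    frame e j (Multiplicative.ofAdd (act e j α v)) = α (frame e j (Multiplicative.ofAdd v)) := by
  simp [act]

theorem act_mul (j : Z2) (α β : MulAut (PA e)) (v : V) :
    act e j (α * β) v = act e j α (act e j β v) := by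
  simp [act]

theorem act_one (j : Z2) (v : V) : act e j 1 v = v := by
  simp [act]

theorem act_pow (j : Z2) (α : MulAut (PA e)) (n : ℕ) (v : V) :
    act e j (α ^ n) v = (act e j α)^[n] v := by
  induction n generalizing v with
  | zero => simp [act_one]
  | succ n ih => rw [pow_succ, act_mul, ih, Function.iterate_succ_apply]

theorem act_add (j : Z2) (α : MulAut (PA e)) (v w : V) :
    act e j α (v + w) = act e j α v + act e j α w := by
  simp [act, ofAdd_add]

theorem act_noKer (j : Z2) (α : MulAut (PA e)) : NoKer (act e j α) := fun v hv => by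
  have h := frame_act e j α v
  rw [hv, ofAdd_zero, map_one, eq_comm, map_eq_one_iff _ α.injective,
    map_eq_one_iff _ (frame e j).injective] at h
  exact h

theorem act_ext (j : Z2) {α β : MulAut (PA e)} (h : ∀ v, act e j α v = act e j β v) : α = β := by
  refine MulEquiv.ext fun x => ?_
  obtain ⟨v, rfl⟩ := exists_frame e j x
  rw [← frame_act, ← frame_act, h v]

theorem eq_one_of_act (j : Z2) {α : MulAut (PA e)} (h : ∀ v, act e j α v = v) : α = 1 :=
  act_ext e j fun v => (h v).trans (act_one e j v).symm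

theorem exists_app (j : Z2) (α : MulAut (PA e)) :
    ∃ m : V × V × V, ∀ v, act e j α v = app m v :=
  ⟨_, app_of_add (act_add e j α)⟩

theorem exists_ap2 (j : Z2) (α : MulAut (PA e)) (h : act e j α (0, 0, 1) = (0, 0, 1)) :
    ∃ f : V × V, ∀ v, act e j α v = ap2 f v := by
  refine ⟨(act e j α (1, 0, 0), act e j α (0, 1, 0)), fun v => ?_⟩
  rw [app_of_add (act_add e j α) v, h]
  rfl

/-- The automorphism with given coordinate map. -/
noncomputable def autOf (j : Z2) (f g : V → V) (hgf : ∀ v, g (f v) = v) (hfg : ∀ v, f (g v) = v)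
    (hadd : ∀ v w, f (v + w) = f v + f w) : MulAut (PA e) :=
  ((frame e j).symm.trans
    { toFun := fun v => Multiplicative.ofAdd (f (Multiplicative.toAdd v))
      invFun := fun v => Multiplicative.ofAdd (g (Multiplicative.toAdd v))
      left_inv := fun v => congrArg Multiplicative.ofAdd (hgf (Multiplicative.toAdd v))
      right_inv := fun v => congrArg Multiplicative.ofAdd (hfg (Multiplicative.toAdd v))
      map_mul' := fun v w => congrArg Multiplicative.ofAdd
        (hadd (Multiplicative.toAdd v) (Multiplicative.toAdd w)) }).trans (frame e j)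

theorem act_autOf (j : Z2) (f g : V → V) (hgf : ∀ v, g (f v) = v) (hfg : ∀ v, f (g v) = v)
    (hadd : ∀ v w, f (v + w) = f v + f w) (v : V) :
    act e j (autOf e j f g hgf hfg hadd) v = f v := by
  simp [act, autOf]

theorem conj_frame (j : Z2) (s : S) (v : V) :
    (s : Ω) * (frame e j (Multiplicative.ofAdd v) : PA e) * (s : Ω)⁻¹ =
      ((frame e j (Multiplicative.ofAdd (if (e s).a = 0 then v else tt v)) : PA e) : Ω) := by
  rw [frame_coe, frame_coe, ← conj_elA (e s) j v, map_mul, map_mul, map_inv, e.symm_apply_apply]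
  rfl

theorem induced_act (j : Z2) {α : MulAut (PA e)} (hα : α ∈ autInducedBy S (PA e)) :
    (∀ v, act e j α v = v) ∨ ∀ v, act e j α v = tt v := by
  obtain ⟨g, hg, h⟩ := mem_autInducedBy_iff.1 hα
  have key : ∀ v, act e j α v = if (e ⟨g, hg⟩).a = 0 then v else tt v := fun v => by
    have h1 := (h (frame e j (Multiplicative.ofAdd v))).trans (conj_frame e j ⟨g, hg⟩ v)
    rw [← frame_act] at h1
    exact Multiplicative.ofAdd.injective ((frame e j).injective (Subtype.ext h1))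
  by_cases ha : (e ⟨g, hg⟩).a = 0
  · exact Or.inl fun v => (key v).trans (if_pos ha)
  · exact Or.inr fun v => (key v).trans (if_neg ha)

/-- The transvection as an automorphism. -/
noncomputable def tAut (j : Z2) : MulAut (PA e) :=
  autOf e j tt tt tt_tt tt_tt (by decide +kernel)

theorem act_tAut (j : Z2) (v : V) : act e j (tAut e j) v = tt v := act_autOf ..

theorem tAut_mem (F : FusionSystem S) (j : Z2) : tAut e j ∈ F.autGroup (PA e) := by
  refine (autGroup_iff_isMap (pull_le e _) fun x => ?_).2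
    (isMap_conj F (pull_le e _) (e.symm ⟨1, 0, 0, 0⟩).2)
  obtain ⟨v, rfl⟩ := exists_frame e j x
  rw [← frame_act, act_tAut]
  exact ((conj_frame e j _ v).trans (by rw [e.apply_symm_apply, if_neg one_ne_zero])).symm

theorem tAut_sq (j : Z2) : tAut e j * tAut e j = 1 :=
  eq_one_of_act e j fun v => by rw [act_mul, act_tAut, act_tAut, tt_tt]

theorem tAut_ne (j : Z2) : tAut e j ≠ 1 := fun h => by
  obtain ⟨v, hv⟩ := tt_ne
  refine hv ?_
  rw [← act_tAut e j v, h, act_one]

variable [Finite S] {F : FusionSystem S}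

theorem fullyNormalized_PA : F.IsFullyNormalized (PA e) := by
  refine ⟨pull_le e _, fun Q _ => ?_⟩
  have h : normalizerIn S (PA e) = S := by
    refine inf_eq_left.2 fun s hs => ?_
    have h1 : ∀ g ∈ S, ∀ x ∈ PA e, g * x * g⁻¹ ∈ PA e := fun g hg x hx => by
      obtain ⟨v, hv⟩ := exists_frame e 0 ⟨x, hx⟩
      have h2 := conj_frame e 0 ⟨g, hg⟩ v
      rw [hv] at h2
      exact h2 ▸ SetLike.coe_mem _
    refine Subgroup.mem_normalizer_iff.2 fun x => ⟨h1 s hs x, fun hx => ?_⟩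
    simpa [mul_assoc] using h1 s⁻¹ (S.inv_mem hs) _ hx
  rw [h]
  exact Nat.card_le_card_of_injective _ (Subgroup.inclusion_injective
    (inf_le_left : normalizerIn S Q ≤ S))

theorem two_comm (hS : IsPGroup 2 S) (hF : F.IsSaturated 2) {a b : MulAut (PA e)}
    (ha : a ∈ F.autGroup (PA e)) (hb : b ∈ F.autGroup (PA e)) (ha2 : a * a = 1) (hb2 : b * b = 1)
    (hab : a * b = b * a) (ha1 : a ≠ 1) (hb1 : b ≠ 1) : a = b := by
  haveI : Fact (Nat.Prime 2) := ⟨Nat.prime_two⟩
  have hp : ∀ {c : MulAut (PA e)}, c * c = 1 → IsPGroup 2 (zpowers c) := fun {c} hc => by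
    rintro ⟨_, n, rfl⟩
    refine ⟨1, Subtype.ext ?_⟩
    show (c ^ n) ^ (2 ^ 1) = 1
    rw [pow_one, pow_two, ← (Commute.refl c).mul_zpow, hc, one_zpow]
  have hle : zpowers a ≤ Subgroup.normalizer (zpowers b : Set (MulAut (PA e))) := by
    refine le_trans ?_ (Subgroup.centralizer_le_normalizer _)
    rw [Subgroup.zpowers_le, Subgroup.mem_centralizer_iff]
    rintro _ ⟨n, rfl⟩
    exact ((show Commute a b from hab).zpow_right n).eq.symm
  obtain ⟨β, -, hβ⟩ := exists_conj_le_autInducedBy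
    (fullyAutomized_of_fullyNormalized hS hF (fullyNormalized_PA e)) (zpowers a ⊔ zpowers b)
    ((hp ha2).to_sup_of_normal_right' (hp hb2) hle)
    (sup_le (Subgroup.zpowers_le.2 ha) (Subgroup.zpowers_le.2 hb))
  have key : ∀ c ∈ zpowers a ⊔ zpowers b, c ≠ 1 → β * c * β⁻¹ = tAut e 0 := fun c hc hc1 => by
    refine (induced_act e 0 (hβ c hc)).elim (fun h => absurd (conj_eq_one_iff.1
      (eq_one_of_act e 0 h)) hc1) fun h => act_ext e 0 fun v => (h v).trans (act_tAut e 0 v).symm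
  exact mul_left_cancel (mul_right_cancel ((key a (mem_sup_left (mem_zpowers a)) ha1).trans
    (key b (mem_sup_right (mem_zpowers b)) hb1).symm))

theorem exists_sigma (j : Z2) (hA : ¬ IsPGroup 2 (F.autGroup (PA e)))
    (h12 : ∀ α ∈ F.autGroup (PA e),
      (∃ w : V, w.1 = 0 ∧ w ≠ 0 ∧ act e j α w = w) ∨
        ((act e j α (0, 1, 0)).1 = 0 ∧ (act e j α (0, 0, 1)).1 = 0)) :
    ∃ σ ∈ F.autGroup (PA e), σ ≠ 1 ∧ σ ^ 3 = 1 := by
  haveI := finite_of_le (pull_le e (U.grpA Z2))
  obtain ⟨a, ha, ha1, hodd⟩ := exists_odd_of_not_isPGroup hA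
  refine ⟨a, ha, ha1, ?_⟩
  obtain ⟨m, hm⟩ := exists_app e j a
  have hk : NoKer (app m) := fun v hv => act_noKer e j a v ((hm v).trans hv)
  have h := h12 a ha
  simp only [hm] at h
  have h1 : a ^ 12 = 1 := eq_one_of_act e j fun v => by
    rw [act_pow, show act e j a = app m from funext hm]
    exact twelve m hk h v
  have h2 : orderOf a ∣ 4 * 3 := orderOf_dvd_of_pow_eq_one h1
  have h3 : (orderOf a).Coprime 4 := by
    have := (Nat.coprime_two_right.2 hodd).pow_right 2
    simpa using this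
  exact orderOf_dvd_iff_pow_eq_one.1 (h3.dvd_of_dvd_mul_left h2)

/-- The commutator is not in the normal subgroup, so one of the two other central elements is. -/
theorem exists_fixed_point (hS : IsPGroup 2 S) (hF : F.IsSaturated 2)
    (hA : ¬ IsPGroup 2 (F.autGroup (PA e))) (Q : Subgroup Ω) (hQS : Q ≤ S) (hQ1 : Q ≠ ⊥)
    (hQz : ∀ x (hx : x ∈ S), x ∈ Q → (e ⟨x, hx⟩).a = 0 ∧ (e ⟨x, hx⟩).b = 0)
    (hinv : ∀ α ∈ F.autGroup (PA e), ∀ x : PA e, (x : Ω) ∈ Q → ((α x : PA e) : Ω) ∈ Q) :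
    ((e.symm ⟨0, 0, 1, 1⟩ : S) : Ω) ∉ Q ∧ ∃ j, ((e.symm (zP j) : S) : Ω) ∈ Q := by
  let Qs : V → Prop := fun v => ((frame e 0 (Multiplicative.ofAdd v) : PA e) : Ω) ∈ Q
  have hQs1 : ∀ v, Qs v → v.1 = 0 := fun v hv => by
    have hv' : ((e.symm (elA 0 v) : S) : Ω) ∈ Q := by rw [← frame_coe]; exact hv
    have h := (hQz _ (SetLike.coe_mem _) hv').2
    rw [Subtype.coe_eta, e.apply_symm_apply] at h
    exact h
  have hadd : ∀ v w, Qs v → Qs w → Qs (v + w) := fun v w hv hw => by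
    show ((frame e 0 (Multiplicative.ofAdd (v + w)) : PA e) : Ω) ∈ Q
    rw [ofAdd_add, map_mul, Subgroup.coe_mul]
    exact Q.mul_mem hv hw
  have hact : ∀ α ∈ F.autGroup (PA e), ∀ v, Qs v → Qs (act e 0 α v) := fun α hα v hv => by
    show ((frame e 0 (Multiplicative.ofAdd (act e 0 α v)) : PA e) : Ω) ∈ Q
    rw [frame_act]
    exact hinv α hα _ hv
  have hc : ¬ Qs (0, 1, 0) := by
    intro h2
    have hdich : ∀ α ∈ F.autGroup (PA e), act e 0 α (0, 1, 0) = (0, 1, 0) ∨
        ((act e 0 α (0, 1, 0)).1 = 0 ∧ (act e 0 α (0, 0, 1)).1 = 0) := by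
      intro α hα
      have hw := hact α hα _ h2
      by_cases hwe : act e 0 α (0, 1, 0) = (0, 1, 0)
      · exact Or.inl hwe
      refine Or.inr ⟨hQs1 _ hw, hQs1 _ (hact α hα _ ?_)⟩
      have hne : act e 0 α (0, 1, 0) ≠ 0 := fun h0 =>
        absurd (act_noKer e 0 α _ h0) (by decide)
      have hcases : ∀ w : V, w.1 = 0 → w ≠ 0 → w ≠ (0, 1, 0) →
          ((0, 0, 1) : V) = w ∨ ((0, 0, 1) : V) = w + (0, 1, 0) := by decide +kernel
      rcases hcases _ (hQs1 _ hw) hne hwe with h | h <;> rw [h]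
      exacts [hw, hadd _ _ hw h2]
    obtain ⟨σ, hσ, hσ1, hσ3⟩ := exists_sigma e 0 hA fun α hα =>
      (hdich α hα).imp (fun h => ⟨(0, 1, 0), rfl, by decide, h⟩) id
    obtain ⟨m, hm⟩ := exists_app e 0 σ
    have hfun : act e 0 σ = app m := funext hm
    have h3 : ∀ v, app m (app m (app m v)) = v := fun v => by
      have := act_pow e 0 σ 3 v
      rw [hσ3, act_one, hfun] at this
      exact this.symm
    have hne : ∃ v, app m v ≠ v := by
      by_contra hcon
      push Not at hcon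
      exact hσ1 (eq_one_of_act e 0 fun v => by rw [hfun, hcon v])
    have hd := hdich σ hσ
    rw [hfun] at hd
    obtain ⟨hcm, v₀, hv₀⟩ := bad_comm m h3 hne hd
    have hinvσ : σ⁻¹ = σ * σ := inv_eq_of_mul_eq_one_right (by rw [← pow_two, ← pow_succ']; exact hσ3)
    have hk : σ * tAut e 0 * σ⁻¹ = tAut e 0 := by
      refine two_comm e hS hF (mul_mem (mul_mem hσ (tAut_mem e F 0)) (inv_mem hσ))
        (tAut_mem e F 0) ?_ (tAut_sq e 0) (act_ext e 0 fun v => ?_) ?_ (tAut_ne e 0)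
      · rw [show σ * tAut e 0 * σ⁻¹ * (σ * tAut e 0 * σ⁻¹) =
          σ * (tAut e 0 * tAut e 0) * σ⁻¹ by group, tAut_sq, mul_one, mul_inv_cancel]
      · simp only [hinvσ, act_mul, act_tAut, hfun]
        exact hcm v
      · exact fun h => tAut_ne e 0 (conj_eq_one_iff.1 h)
    refine hv₀ ?_
    have := congrArg (fun α => act e 0 α v₀) hk
    simpa only [hinvσ, act_mul, act_tAut, hfun] using this
  refine ⟨fun h => hc ?_, ?_⟩
  · show ((frame e 0 (Multiplicative.ofAdd ((0, 1, 0) : V)) : PA e) : Ω) ∈ Q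
    rw [frame_coe]
    exact h
  obtain ⟨x, hxQ, hx1⟩ := (Subgroup.bot_or_exists_ne_one Q).resolve_left hQ1
  have hx : x ∈ PA e := (mem_pull e _).2 ⟨hQS hxQ, (hQz x (hQS hxQ) hxQ).1⟩
  obtain ⟨w, hw⟩ := exists_frame e 0 ⟨x, hx⟩
  have hwQ : Qs w := by show ((frame e 0 _ : PA e) : Ω) ∈ Q; rw [hw]; exact hxQ
  have hw0 : w ≠ 0 := fun h => hx1 (by
    rw [h, ofAdd_zero, map_one] at hw
    exact (congrArg Subtype.val hw).symm)
  have hwc : w ≠ (0, 1, 0) := fun h => hc (h ▸ hwQ)
  have hz : ∀ w : V, w.1 = 0 → w ≠ 0 → w ≠ (0, 1, 0) → ∃ j, elA 0 w = zP j := by decide +kernel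
  obtain ⟨j, hj⟩ := hz w (hQs1 w hwQ) hw0 hwc
  refine ⟨j, ?_⟩
  rw [← hj, ← frame_coe]
  exact hwQ

theorem fixed_of_mem (Q : Subgroup Ω)
    (hQz : ∀ x (hx : x ∈ S), x ∈ Q → (e ⟨x, hx⟩).a = 0 ∧ (e ⟨x, hx⟩).b = 0)
    (hinv : ∀ α ∈ F.autGroup (PA e), ∀ x : PA e, (x : Ω) ∈ Q → ((α x : PA e) : Ω) ∈ Q)
    (hc : ((e.symm ⟨0, 0, 1, 1⟩ : S) : Ω) ∉ Q) {j : Z2} (hj : ((e.symm (zP j) : S) : Ω) ∈ Q) :
    ∀ α ∈ F.autGroup (PA e), act e j α (0, 0, 1) = (0, 0, 1) := by
  intro α hα
  set w := act e j α (0, 0, 1) with hw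
  have h3 : ((frame e j (Multiplicative.ofAdd ((0, 0, 1) : V)) : PA e) : Ω) ∈ Q := by
    rw [frame_coe, elA_zP]; exact hj
  have hwQ : ((frame e j (Multiplicative.ofAdd w) : PA e) : Ω) ∈ Q := by
    rw [hw, frame_act]; exact hinv α hα _ h3
  have hw1 : w.1 = 0 := by
    have hw' : ((e.symm (elA j w) : S) : Ω) ∈ Q := by rw [← frame_coe]; exact hwQ
    have h := (hQz _ (SetLike.coe_mem _) hw').2
    rw [Subtype.coe_eta, e.apply_symm_apply] at h
    exact h
  have hw0 : w ≠ 0 := fun h => absurd (act_noKer e j α _ h) (by decide)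
  by_contra hne
  have hsum : ∀ (j : Z2) (w : V), w.1 = 0 → w ≠ 0 → w ≠ (0, 0, 1) →
      elA j w = ⟨0, 0, 1, 1⟩ ∨ elA j w * elA j (0, 0, 1) = ⟨0, 0, 1, 1⟩ := by decide +kernel
  rcases hsum j w hw1 hw0 hne with h | h
  · refine hc ?_
    rw [← h, ← frame_coe]; exact hwQ
  · refine hc ?_
    rw [← h, map_mul, Subgroup.coe_mul, ← frame_coe, ← frame_coe]
    exact Q.mul_mem hwQ h3

section fixed

variable (hS : IsPGroup 2 S) (hF : F.IsSaturated 2) {j : Z2}
  (hfix : ∀ α ∈ F.autGroup (PA e), act e j α (0, 0, 1) = (0, 0, 1))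

include hS hF hfix

theorem ker_trivial {k : MulAut (PA e)} (hk : k ∈ F.autGroup (PA e))
    (hmod : ∀ v, ModEq (act e j k v) v) : k = 1 := by
  by_contra hk1
  set t := tAut e j
  obtain ⟨f, hf⟩ := exists_ap2 e j k (hfix k hk)
  have hf' : ∀ v, ModEq (ap2 f v) v := fun v => hf v ▸ hmod v
  have hk' : t * k * t ∈ F.autGroup (PA e) :=
    mul_mem (mul_mem (tAut_mem e F j) hk) (tAut_mem e F j)
  obtain ⟨g, hg⟩ := exists_ap2 e j _ (hfix _ hk')
  have hg' : ∀ v, ModEq (ap2 g v) v := fun v => by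
    rw [← hg, act_mul, act_mul, act_tAut, act_tAut, hf]
    exact ker_conj f hf' v
  have hk2 : k * k = 1 := eq_one_of_act e j fun v => by
    rw [act_mul, hf, hf]; exact (ker_comm f f hf' hf').2 v
  have htt : t * t = 1 := tAut_sq e j
  have hne : t * k * t ≠ 1 := fun h => hk1 (by
    calc k = t * t * k * (t * t) := by rw [htt, one_mul, mul_one]
      _ = t * (t * k * t) * t := by group
      _ = 1 := by rw [h, mul_one, htt])
  have h1 : t * k * t = k := two_comm e hS hF hk' hk (by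
      calc t * k * t * (t * k * t) = t * k * (t * t) * k * t := by group
        _ = 1 := by rw [htt, mul_one, mul_assoc t k k, hk2, mul_one, htt]) hk2
    (act_ext e j fun v => by
      rw [act_mul, act_mul e j k, hg, hg, hf, hf]; exact (ker_comm g f hg' hf').1 v) hne hk1
  have h2 : k * t = t * k := by
    calc k * t = t * t * k * t := by rw [htt, one_mul]
      _ = t * (t * k * t) := by group
      _ = t * k := by rw [h1]
  have h3 : k = t := two_comm e hS hF hk (tAut_mem e F j) hk2 htt h2 hk1 (tAut_ne e j)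
  have h4 := (hmod (1, 0, 0)).2
  rw [h3, act_tAut] at h4
  exact absurd h4 (by decide)

theorem eq_of_modEq {a b : MulAut (PA e)} (ha : a ∈ F.autGroup (PA e))
    (hb : b ∈ F.autGroup (PA e)) (h : ∀ v, ModEq (act e j a v) (act e j b v)) : a = b := by
  have hcong : ∀ (f : V × V) (v w : V), ModEq v w → ModEq (ap2 f v) (ap2 f w) := by decide +kernel
  obtain ⟨f, hf⟩ := exists_ap2 e j b⁻¹ (hfix _ (inv_mem hb))
  refine (inv_mul_eq_one.1 (ker_trivial e hS hF hfix (mul_mem (inv_mem hb) ha) fun v => ?_)).symm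
  have h1 : v = act e j b⁻¹ (act e j b v) := by rw [← act_mul, inv_mul_cancel, act_one]
  rw [act_mul]
  conv => arg 2; rw [h1]
  rw [hf, hf]
  exact hcong f _ _ (h v)

theorem exists_structure (hA : ¬ IsPGroup 2 (F.autGroup (PA e))) :
    ∃ σ ∈ F.autGroup (PA e), ∃ f : V × V, (∀ v, act e j σ v = ap2 f v) ∧
      (∀ v, ap2 f (ap2 f (ap2 f v)) = v) ∧ (∃ v, ¬ ModEq (ap2 f v) v) ∧
      (∀ v, tt (ap2 f (tt (ap2 f v))) = v) ∧
      ∀ g ∈ F.autGroup (PA e), ∃ i : Fin 3, ∃ k : Fin 2, g = σ ^ (i : ℕ) * tAut e j ^ (k : ℕ) := by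
  obtain ⟨σ, hσ, hσ1, hσ3⟩ := exists_sigma e j hA fun α hα =>
    Or.inl ⟨(0, 0, 1), rfl, by decide, hfix α hα⟩
  obtain ⟨f, hf⟩ := exists_ap2 e j σ (hfix σ hσ)
  have hfun : act e j σ = ap2 f := funext hf
  have h3 : ∀ v, ap2 f (ap2 f (ap2 f v)) = v := fun v => by
    have := act_pow e j σ 3 v
    rw [hσ3, act_one, hfun] at this
    exact this.symm
  have hne : ∃ v, ¬ ModEq (ap2 f v) v := by
    by_contra hcon
    push Not at hcon
    exact hσ1 (ker_trivial e hS hF hfix hσ fun v => by rw [hf]; exact hcon v)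
  refine ⟨σ, hσ, f, hf, h3, hne, fun v => ?_, fun g hg => ?_⟩
  · have h1 : tAut e j * σ * (tAut e j * σ) = 1 :=
      ker_trivial e hS hF hfix (mul_mem (mul_mem (tAut_mem e F j) hσ)
        (mul_mem (tAut_mem e F j) hσ)) fun v => by
          simp only [act_mul, act_tAut, hfun]; exact inv_mod f h3 hne v
    have := congrArg (fun α => act e j α v) h1
    simpa only [act_mul, act_tAut, hfun, act_one] using this
  · obtain ⟨g', hg'⟩ := exists_ap2 e j g (hfix g hg)
    obtain ⟨i, k, hik⟩ := six_mod f g' h3 hne fun v hv => act_noKer e j g v ((hg' v).trans hv)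
    refine ⟨i, k, eq_of_modEq e hS hF hfix hg
      (mul_mem (pow_mem hσ _) (pow_mem (tAut_mem e F j) _)) fun v => ?_⟩
    rw [act_mul, act_pow, act_pow, hfun, show act e j (tAut e j) = tt from funext (act_tAut e j),
      hg']
    exact hik v

theorem exists_phi (hA : ¬ IsPGroup 2 (F.autGroup (PA e))) :
    ∃ ε, ∀ g ∈ F.autGroup (PA e), ∀ v, phi ε (act e j g v) = phi ε v := by
  obtain ⟨σ, -, f, hf, h3, hne, hinv, hall⟩ := exists_structure e hS hF hfix hA
  obtain ⟨ε, hε⟩ := exists_eps f h3 hne hinv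
  refine ⟨ε, fun g hg v => ?_⟩
  obtain ⟨i, k, rfl⟩ := hall g hg
  have hit : ∀ (F' : V → V), (∀ w, phi ε (F' w) = phi ε w) → ∀ (n : ℕ) w,
      phi ε (F'^[n] w) = phi ε w := fun F' hF' n => by
    induction n with
    | zero => exact fun w => rfl
    | succ n ih => exact fun w => by rw [Function.iterate_succ_apply', hF', ih]
  rw [act_mul, act_pow, act_pow, hit _ (fun w => by rw [hf]; exact hε w),
    hit _ (fun w => by rw [act_tAut]; exact phi_tt ε w)]

theorem aut_iff (hA : ¬ IsPGroup 2 (F.autGroup (PA e))) {ε : Z2}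
    (hpres : ∀ g ∈ F.autGroup (PA e), ∀ v, phi ε (act e j g v) = phi ε v) (α : MulAut (PA e)) :
    α ∈ F.autGroup (PA e) ↔
      act e j α (0, 0, 1) = (0, 0, 1) ∧ ∀ v, phi ε (act e j α v) = phi ε v := by
  refine ⟨fun h => ⟨hfix α h, hpres α h⟩, fun ⟨h1, h2⟩ => ?_⟩
  obtain ⟨σ, hσ, f, hf, h3, hne, -, -⟩ := exists_structure e hS hF hfix hA
  obtain ⟨g, hg⟩ := exists_ap2 e j α h1
  obtain ⟨i, k, hik⟩ := six_exact ε f g h3 hne (fun v => hf v ▸ hpres σ hσ v)
    (fun v => hg v ▸ h2 v) fun v hv => act_noKer e j α v ((hg v).trans hv)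
  rw [show α = σ ^ (i : ℕ) * tAut e j ^ (k : ℕ) from act_ext e j fun v => by
    rw [act_mul, act_pow, act_pow, show act e j σ = ap2 f from funext hf,
      show act e j (tAut e j) = tt from funext (act_tAut e j), hg]
    exact hik v]
  exact mul_mem (pow_mem hσ _) (pow_mem (tAut_mem e F j) _)

end fixed

end CfsgLib.Fusion.SpFour.STwo
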