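import Cfsg.Agent.Lib.Fusion.SpFour.Defs
import Mathlib.Data.ZMod.Basic
import Mathlib.GroupTheory.Sylow
import Mathlib.LinearAlgebra.Matrix.GeneralLinearGroup.Card

/-!
The group `U K` for two elements: coordinates on `bcd`, the finite facts about the linear maps of
that module, and the model `GL₃(2) × C₂`.
-/

set_option autoImplicit false
set_option maxRecDepth 100000
set_option maxHeartbeats 4000000
set_option synthInstance.maxSize 1000

namespace CfsgLib.Fusion.SpFour.STwo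

open Cfsg

/-- The two-element field. -/
abbrev Z2 := ZMod 2

/-- The group. -/
abbrev U2 := U Z2

/-- Its underlying set. -/
def uEquiv : Z2 × Z2 × Z2 × Z2 ≃ U2 where
  toFun q := ⟨q.1, q.2.1, q.2.2.1, q.2.2.2⟩
  invFun x := (x.a, x.b, x.c, x.d)
  left_inv _ := rfl
  right_inv _ := rfl

instance : Fintype U2 := Fintype.ofEquiv _ uEquiv

instance : DecidableEq U2 := fun x y =>
  decidable_of_iff (x.a = y.a ∧ x.b = y.b ∧ x.c = y.c ∧ x.d = y.d)
    ⟨fun h => U.ext h.1 h.2.1 h.2.2.1 h.2.2.2, fun h => h ▸ ⟨rfl, rfl, rfl, rfl⟩⟩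

/-- The module `bcd`. -/
abbrev V := Z2 × Z2 × Z2

/-- `b`, `[a,b]` and the fixed point. -/
def elA (j : Z2) (v : V) : U2 :=
  ⟨0, v.1, v.2.1 + j * v.2.2, v.2.1 + (1 + j) * v.2.2⟩

/-- The inverse coordinates. -/
def coA (j : Z2) (x : U2) : V := (x.b, j * x.d + (1 + j) * x.c, x.c + x.d)

/-- The fixed point. -/
def zP (j : Z2) : U2 := ⟨0, 0, j, 1 + j⟩

theorem elA_a (j : Z2) (v : V) : elA j v ∈ U.grpA Z2 := rfl

theorem elA_coA : ∀ (j : Z2) (x : U2), x.a = 0 → elA j (coA j x) = x := by decide +kernel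

theorem coA_elA : ∀ (j : Z2) (v : V), coA j (elA j v) = v := by decide +kernel

theorem elA_mul : ∀ (j : Z2) (v w : V), elA j (v + w) = elA j v * elA j w := by decide +kernel

theorem elA_zP : ∀ j : Z2, elA j (0, 0, 1) = zP j := by decide +kernel

/-- The coordinates on `bcd`. -/
def frameU (j : Z2) : Multiplicative V ≃* U.grpA Z2 where
  toFun v := ⟨elA j (Multiplicative.toAdd v), elA_a j _⟩
  invFun x := Multiplicative.ofAdd (coA j x)
  left_inv v := congrArg Multiplicative.ofAdd (coA_elA j (Multiplicative.toAdd v))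
  right_inv x := Subtype.ext (elA_coA j x.1 x.2)
  map_mul' v w := Subtype.ext (elA_mul j (Multiplicative.toAdd v) (Multiplicative.toAdd w))

/-- The transvection induced by `a`. -/
def tt (v : V) : V := (v.1, v.2.1 + v.1, v.2.2)

theorem conj_elA : ∀ (x : U2) (j : Z2) (v : V),
    x * elA j v * x⁻¹ = elA j (if x.a = 0 then v else tt v) := by decide +kernel

/-- Exchange of the two abelian maximal subgroups. -/
def swFun (x : U2) : U2 := ⟨x.b, x.a, x.c + x.a * x.b, x.d + x.a * x.b⟩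

theorem swFun_swFun : ∀ x : U2, swFun (swFun x) = x := by decide +kernel

theorem swFun_mul : ∀ x y : U2, swFun (x * y) = swFun x * swFun y := by decide +kernel

/-- Exchange of the two abelian maximal subgroups. -/
def sw : U2 ≃* U2 where
  toFun := swFun
  invFun := swFun
  left_inv := swFun_swFun
  right_inv := swFun_swFun
  map_mul' := swFun_mul

theorem sw_sw (x : U2) : sw (sw x) = x := swFun_swFun x

theorem sw_zP : ∀ j : Z2, swFun (zP j) = zP j := by decide +kernel

theorem sw_comm : swFun ⟨0, 0, 1, 1⟩ = ⟨0, 0, 1, 1⟩ := by decide +kernel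

/-! ### linear maps -/

/-- A linear map given by the images of the basis. -/
def app (m : V × V × V) (v : V) : V :=
  v.1.val • m.1 + v.2.1.val • m.2.1 + v.2.2.val • m.2.2

/-- A linear map fixing the last vector. -/
def ap2 (m : V × V) (v : V) : V := app (m.1, m.2, (0, 0, 1)) v

theorem decomp : ∀ v : V,
    v.1.val • ((1, 0, 0) : V) + v.2.1.val • ((0, 1, 0) : V) + v.2.2.val • ((0, 0, 1) : V) = v := by
  decide +kernel

theorem app_of_add {f : V → V} (hf : ∀ v w, f (v + w) = f v + f w) :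
    ∀ v, f v = app (f (1, 0, 0), f (0, 1, 0), f (0, 0, 1)) v := by
  intro v
  show f v = v.1.val • f (1, 0, 0) + v.2.1.val • f (0, 1, 0) + v.2.2.val • f (0, 0, 1)
  let L : V →+ V := AddMonoidHom.mk' f hf
  show L v = v.1.val • L (1, 0, 0) + v.2.1.val • L (0, 1, 0) + v.2.2.val • L (0, 0, 1)
  rw [← map_nsmul, ← map_nsmul, ← map_nsmul, ← map_add, ← map_add, decomp]

/-- No kernel. -/
def NoKer (f : V → V) : Prop := ∀ v, f v = 0 → v = 0

instance (f : V → V) : Decidable (NoKer f) := inferInstanceAs (Decidable (∀ v, f v = 0 → v = 0))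

/-- Congruent modulo the fixed point. -/
def ModEq (v w : V) : Prop := v.1 = w.1 ∧ v.2.1 = w.2.1

instance (v w : V) : Decidable (ModEq v w) := inferInstanceAs (Decidable (_ ∧ _))

/-- The functional fixed by the automizer. -/
def phi (ε : Z2) (v : V) : Z2 := v.2.2 + ε * v.1

theorem twelve : ∀ m : V × V × V, NoKer (app m) →
    ((∃ w : V, w.1 = 0 ∧ w ≠ 0 ∧ app m w = w) ∨
      ((app m (0, 1, 0)).1 = 0 ∧ (app m (0, 0, 1)).1 = 0)) →
    ∀ v, (app m)^[12] v = v := by decide +kernel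

theorem bad_comm : ∀ m : V × V × V, (∀ v, app m (app m (app m v)) = v) → (∃ v, app m v ≠ v) →
    (app m (0, 1, 0) = (0, 1, 0) ∨
      ((app m (0, 1, 0)).1 = 0 ∧ (app m (0, 0, 1)).1 = 0)) →
    (∀ v, app m (tt (app m (app m (tt v)))) = tt (app m (tt (app m (app m v))))) ∧
      ∃ v, app m (tt (app m (app m v))) ≠ tt v := by decide +kernel

theorem ker_comm : ∀ f g : V × V, (∀ v, ModEq (ap2 f v) v) → (∀ v, ModEq (ap2 g v) v) →
    (∀ v, ap2 f (ap2 g v) = ap2 g (ap2 f v)) ∧ (∀ v, ap2 f (ap2 f v) = v) := by decide +kernel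

theorem ker_conj : ∀ f : V × V, (∀ v, ModEq (ap2 f v) v) →
    ∀ v, ModEq (tt (ap2 f (tt v))) v := by decide +kernel

theorem six_mod : ∀ f g : V × V, (∀ v, ap2 f (ap2 f (ap2 f v)) = v) →
    (∃ v, ¬ ModEq (ap2 f v) v) → NoKer (ap2 g) →
    ∃ i : Fin 3, ∃ k : Fin 2, ∀ v, ModEq (ap2 g v) ((ap2 f)^[i] (tt^[k] v)) := by decide +kernel

theorem inv_mod : ∀ f : V × V, (∀ v, ap2 f (ap2 f (ap2 f v)) = v) →
    (∃ v, ¬ ModEq (ap2 f v) v) → ∀ v, ModEq (tt (ap2 f (tt (ap2 f v)))) v := by decide +kernel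

theorem exists_eps : ∀ f : V × V, (∀ v, ap2 f (ap2 f (ap2 f v)) = v) →
    (∃ v, ¬ ModEq (ap2 f v) v) → (∀ v, tt (ap2 f (tt (ap2 f v))) = v) →
    ∃ ε, ∀ v, phi ε (ap2 f v) = phi ε v := by decide +kernel

theorem six_exact : ∀ (ε : Z2) (f g : V × V), (∀ v, ap2 f (ap2 f (ap2 f v)) = v) →
    (∃ v, ¬ ModEq (ap2 f v) v) → (∀ v, phi ε (ap2 f v) = phi ε v) →
    (∀ v, phi ε (ap2 g v) = phi ε v) → NoKer (ap2 g) →
    ∃ i : Fin 3, ∃ k : Fin 2, ∀ v, ap2 g v = (ap2 f)^[i] (tt^[k] v) := by decide +kernel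

theorem phi_tt : ∀ (ε : Z2) (v : V), phi ε (tt v) = phi ε v := by decide +kernel

theorem tt_tt : ∀ v : V, tt (tt v) = v := by decide +kernel

theorem tt_ne : ∃ v : V, tt v ≠ v := ⟨(1, 0, 0), by decide +kernel⟩

/-! ### the automorphism group -/

theorem sq_eq : ∀ x : U2, x * x = ⟨0, 0, x.a * x.b, x.a * x.b⟩ := by decide +kernel

theorem central_iff : ∀ x : U2, (∀ y, x * y = y * x) ↔ x.a = 0 ∧ x.b = 0 := by decide +kernel

/-! ### the model -/

/-- The model group. -/
abbrev M2 := GL (Fin 3) Z2 × Multiplicative Z2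

/-- Upper unitriangular matrices. -/
def uniMat (a b w : Z2) : Matrix (Fin 3) (Fin 3) Z2 := !![1, a, w; 0, 1, b; 0, 0, 1]

theorem uniMat_inv : ∀ a b w : Z2, uniMat a b w * uniMat a b (w + a * b) = 1 ∧
    uniMat a b (w + a * b) * uniMat a b w = 1 := by decide +kernel

/-- Upper unitriangular elements. -/
def uni (a b w : Z2) : GL (Fin 3) Z2 :=
  ⟨uniMat a b w, uniMat a b (w + a * b), (uniMat_inv a b w).1, (uniMat_inv a b w).2⟩

/-- The embedding. -/
def kapFun (j εa εb : Z2) (x : U2) : M2 :=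
  (uni x.a x.b (j * x.d + (1 + j) * x.c),
    Multiplicative.ofAdd (εa * x.a + εb * x.b + x.c + x.d))

theorem kapFun_mul : ∀ (j εa εb : Z2) (x y : U2),
    ((kapFun j εa εb (x * y)).1 : Matrix (Fin 3) (Fin 3) Z2) =
        ((kapFun j εa εb x).1 : Matrix (Fin 3) (Fin 3) Z2) * (kapFun j εa εb y).1 ∧
      (kapFun j εa εb (x * y)).2 = (kapFun j εa εb x).2 * (kapFun j εa εb y).2 := by
  decide +kernel

/-- The embedding. -/
def kap (j εa εb : Z2) : U2 →* M2 :=
  MonoidHom.mk' (kapFun j εa εb) fun x y =>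
    Prod.ext (Units.ext (kapFun_mul j εa εb x y).1) (kapFun_mul j εa εb x y).2

theorem kap_one : ∀ (j εa εb : Z2) (x : U2),
    uniMat x.a x.b (j * x.d + (1 + j) * x.c) = 1 → εa * x.a + εb * x.b + x.c + x.d = 0 →
      x = 1 := by decide +kernel

theorem kap_injective (j εa εb : Z2) : Function.Injective (kap j εa εb) :=
  (injective_iff_map_eq_one _).2 fun x hx =>
    kap_one j εa εb x (congrArg (fun g : M2 => (g.1 : Matrix (Fin 3) (Fin 3) Z2)) hx)
      (congrArg (fun g : M2 => Multiplicative.toAdd g.2) hx)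

theorem uni_one : ∀ (j εa εb : Z2),
    kapFun j εa εb (zP j) = ((uni 0 0 0), Multiplicative.ofAdd 1) := by decide +kernel

theorem kap_zP_comm (j εa εb : Z2) (g : M2) : g * kap j εa εb (zP j) = kap j εa εb (zP j) * g := by
  have h : kap j εa εb (zP j) = ((1 : GL (Fin 3) Z2), Multiplicative.ofAdd 1) :=
    (uni_one j εa εb).trans (Prod.ext (Units.ext (by decide +kernel)) rfl)
  rw [h]
  exact Prod.ext (by simp) (mul_comm _ _)

/-- An element of order three normalizing one abelian maximal subgroup. -/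
def matA : Matrix (Fin 3) (Fin 3) Z2 := !![0, 1, 0; 1, 1, 0; 0, 0, 1]

/-- An element of order three normalizing the other abelian maximal subgroup. -/
def matB : Matrix (Fin 3) (Fin 3) Z2 := !![1, 0, 0; 0, 0, 1; 0, 1, 1]

/-- The elements. -/
def gA : GL (Fin 3) Z2 :=
  ⟨matA, matA * matA, by decide +kernel, by decide +kernel⟩

/-- The elements. -/
def gB : GL (Fin 3) Z2 :=
  ⟨matB, matB * matB, by decide +kernel, by decide +kernel⟩

/-- The induced map. -/
def sig (ε : Z2) : V × V := ((1, 1, 0), (1, 0, ε))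

theorem sig_facts : ∀ ε : Z2, (∀ v, ap2 (sig ε) (ap2 (sig ε) (ap2 (sig ε) v)) = v) ∧
    (∃ v, ap2 (sig ε) v ≠ v) ∧ (∀ v w, ap2 (sig ε) (v + w) = ap2 (sig ε) v + ap2 (sig ε) w) := by
  decide +kernel

theorem gA_conj : ∀ (j εa εb : Z2) (v : V),
    matA * ((kapFun j εa εb (elA j v)).1 : Matrix (Fin 3) (Fin 3) Z2) =
        ((kapFun j εa εb (elA j (ap2 (sig εb) v))).1 : Matrix (Fin 3) (Fin 3) Z2) * matA ∧
      (kapFun j εa εb (elA j v)).2 = (kapFun j εa εb (elA j (ap2 (sig εb) v))).2 ∧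
      (kapFun j εa εb (elA j v)).2 = Multiplicative.ofAdd (phi εb v) := by
  decide +kernel

theorem gB_conj : ∀ (j εa εb : Z2) (v : V),
    matB * ((kapFun j εa εb (swFun (elA j v))).1 : Matrix (Fin 3) (Fin 3) Z2) =
        ((kapFun j εa εb (swFun (elA j (ap2 (sig εa) v)))).1 : Matrix (Fin 3) (Fin 3) Z2) * matB ∧
      (kapFun j εa εb (swFun (elA j v))).2 = (kapFun j εa εb (swFun (elA j (ap2 (sig εa) v)))).2 ∧
      (kapFun j εa εb (swFun (elA j v))).2 = Multiplicative.ofAdd (phi εa v) := by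
  decide +kernel

theorem card_M2 : (Nat.card M2).factorization 2 = 4 := by
  have h : Nat.card M2 = 2 ^ 4 * 21 := by
    rw [Nat.card_prod, Matrix.card_GL_field, Nat.card_eq_fintype_card,
      Fintype.card_multiplicative, ZMod.card, Fin.prod_univ_three]
    simp
  rw [h, Nat.factorization_mul (by norm_num) (by norm_num), Finsupp.add_apply,
    Nat.prime_two.factorization_pow, Finsupp.single_eq_same,
    Nat.factorization_eq_zero_of_not_dvd (by norm_num)]

end CfsgLib.Fusion.SpFour.STwo
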