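import Cfsg.Agent.Lib.Fusion.SpFour.Spread
import Cfsg.Agent.Lib.Invol.Basic

/-!
Characteristic two: a group of automorphisms of a module of order `q³` in which the translations
with parameters in `K` form a non-normal Sylow subgroup.  For `q > 2` all conjugates of this
subgroup fix one coordinate axis pointwise, and modulo this axis a torus of `SL₂(K)` appears.
-/

set_option autoImplicit false
set_option linter.unusedSectionVars false

namespace CfsgLib.Fusion.SpFour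

variable {K : Type*} [Field K]

theorem v3_add (x y z x' y' z' : K) :
    v3 x y z * v3 x' y' z' = v3 (x + x') (y + y') (z + z') := rfl

theorem v3_eq_iff {x y z x' y' z' : K} : v3 x y z = v3 x' y' z' ↔ x = x' ∧ y = y' ∧ z = z' := by
  simp [v3, Prod.ext_iff]

theorem v3_cover (v : V3 K) : ∃ x y z, v = v3 x y z :=
  ⟨v.toAdd.1, v.toAdd.2.1, v.toAdd.2.2, rfl⟩

theorem v3_one : v3 (0 : K) 0 0 = 1 := rfl

variable (K) in
/-- The subgroup with vanishing first coordinate. -/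
def Z3 : Subgroup (V3 K) where
  carrier := {v | c1 v = 0}
  one_mem' := rfl
  mul_mem' := fun {a b} (ha : c1 a = 0) (hb : c1 b = 0) =>
    show c1 (a * b) = 0 by
      rw [c1, toAdd_mul, Prod.fst_add]
      rw [c1] at ha hb
      rw [ha, hb, add_zero]
  inv_mem' := fun {a} (ha : c1 a = 0) =>
    show c1 a⁻¹ = 0 by
      rw [c1, toAdd_inv, Prod.fst_neg]
      rw [c1] at ha
      rw [ha, neg_zero]

theorem v3_mem_Z3 {x y z : K} : v3 x y z ∈ Z3 K ↔ x = 0 := Iff.rfl

/-- The translation with parameter `t`. -/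
def IsTr (δ : K → K → K × K) (g : MulAut (V3 K)) (t : K) : Prop :=
  ∀ x y z, g (v3 x y z) = v3 x (y + (δ t x).1) (z + (δ t x).2)

/-- A hypothesis package: a Sylow subgroup of translations. -/
structure TwoData (δ : K → K → K × K) (G : Subgroup (MulAut (V3 K))) (T : Sylow 2 G) : Prop where
  mem : ∀ g : G, g ∈ (T : Subgroup G) ↔ ∃ t, IsTr δ (g : MulAut (V3 K)) t
  all : ∀ t : K, ∃ g ∈ G, IsTr δ g t
  zero : ∀ t, δ t 0 = (0, 0)
  triv : ∀ x, δ 0 x = (0, 0)
  ne : ∀ t x, t ≠ 0 → x ≠ 0 → (δ t x).1 ≠ 0 ∧ (δ t x).2 ≠ 0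
  uniq : ∀ t x t' x', t ≠ 0 → x ≠ 0 → δ t x = δ t' x' → t' = t
  onto : ∀ y z, y ≠ 0 → z ≠ 0 → ∃ t x, δ t x = (y, z)

theorem isPGroup_module [CharP K 2] : IsPGroup 2 (V3 K) := fun v =>
  ⟨1, Multiplicative.toAdd.injective (by
    rw [pow_one, toAdd_pow, toAdd_one, two_nsmul]
    exact Prod.ext (CharTwo.add_self_eq_zero _)
      (Prod.ext (CharTwo.add_self_eq_zero _) (CharTwo.add_self_eq_zero _)))⟩

variable [Finite K]

namespace TwoData

variable [CharP K 2] {δ : K → K → K × K} {G : Subgroup (MulAut (V3 K))} {T : Sylow 2 G}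
  (D : TwoData δ G T)

include D

theorem mem_stab {t : G} (ht : t ∈ (T : Subgroup G)) : t ∈ FixedExactly.stabZ G (Z3 K) := by
  obtain ⟨a, ha⟩ := (D.mem t).1 ht
  refine ⟨fun v hv => ?_, fun v => ?_⟩
  · obtain ⟨x, y, z, rfl⟩ := v3_cover v
    rw [v3_mem_Z3] at hv
    rw [ha, hv, D.zero]
    simp
  · obtain ⟨x, y, z, rfl⟩ := v3_cover v
    show c1 ((t : MulAut (V3 K)) (v3 x y z) * (v3 x y z)⁻¹) = 0
    rw [ha]
    simp [c1, v3]

theorem stab_eq : FixedExactly.stabZ G (Z3 K) = (T : Subgroup G) :=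
  T.is_maximal' (FixedExactly.isPGroup_stabZ G isPGroup_module (Z3 K)) fun _ => D.mem_stab

theorem exact_fix {t : G} (ht : t ∈ (T : Subgroup G)) (ht1 : t ≠ 1) {v : V3 K}
    (hv : (t : MulAut (V3 K)) v = v) : v ∈ Z3 K := by
  obtain ⟨a, ha⟩ := (D.mem t).1 ht
  obtain ⟨x, y, z, rfl⟩ := v3_cover v
  rw [ha, v3_eq_iff] at hv
  rw [v3_mem_Z3]
  by_contra hx
  have ha0 : a ≠ 0 := by
    rintro rfl
    refine ht1 (Subtype.ext (MulEquiv.ext fun w => ?_))
    obtain ⟨i, j, k, rfl⟩ := v3_cover w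
    rw [ha, D.triv]
    simp
  exact (D.ne a x ha0 hx).1 (add_eq_left.1 hv.2.1)

theorem exists_ne_one : ∃ t ∈ (T : Subgroup G), t ≠ 1 := by
  obtain ⟨τ, hτ, h⟩ := D.all 1
  refine ⟨⟨τ, hτ⟩, (D.mem _).2 ⟨1, h⟩, fun e => ?_⟩
  have h1 := congrArg (fun u : G => (u : MulAut (V3 K)) (v3 1 0 0)) e
  simp only [h 1 0 0, OneMemClass.coe_one, MulAut.one_apply, v3_eq_iff, zero_add] at h1
  exact (D.ne 1 1 one_ne_zero one_ne_zero).1 h1.2.1

/-- An element conjugating one non-trivial translation to another normalises `T`. -/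
theorem normalizes_of_conj {g t : G} (ht : t ∈ (T : Subgroup G)) (ht1 : t ≠ 1)
    (h : g * t * g⁻¹ ∈ (T : Subgroup G)) :
    g ∈ Subgroup.normalizer ((T : Subgroup G) : Set G) := by
  have hne : g * t * g⁻¹ ≠ 1 := fun e => ht1 (by simpa using e)
  have hsub : ∀ v ∈ Z3 K, (g : MulAut (V3 K)) v ∈ Z3 K := fun v hv => by
    refine D.exact_fix h hne ?_
    show (g : MulAut (V3 K)) ((t : MulAut (V3 K)) ((g : MulAut (V3 K))⁻¹ _)) = _
    rw [MulAut.inv_apply_self, (D.mem_stab ht).1 v hv]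
  have hpre : ∀ v ∈ Z3 K, (g : MulAut (V3 K))⁻¹ v ∈ Z3 K := by
    intro v hv
    obtain ⟨⟨u, hu⟩, e⟩ := (Finite.injective_iff_surjective
      (f := fun u : Z3 K => (⟨(g : MulAut (V3 K)) u, hsub u u.2⟩ : Z3 K))).1
      (fun a b e => Subtype.ext ((g : MulAut (V3 K)).injective (congrArg Subtype.val e))) ⟨v, hv⟩
    rw [← show (g : MulAut (V3 K)) u = v from congrArg Subtype.val e, MulAut.inv_apply_self]
    exact hu
  refine Subgroup.mem_normalizer_fintype fun s hs => ?_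
  rw [← D.stab_eq]
  refine ⟨fun v hv => ?_, fun v => ?_⟩
  · show (g : MulAut (V3 K)) ((s : MulAut (V3 K)) ((g : MulAut (V3 K))⁻¹ v)) = v
    rw [(D.mem_stab hs).1 _ (hpre v hv), MulAut.apply_inv_self]
  · show (g : MulAut (V3 K)) ((s : MulAut (V3 K)) ((g : MulAut (V3 K))⁻¹ v)) * v⁻¹ ∈ Z3 K
    have := hsub _ ((D.mem_stab hs).2 ((g : MulAut (V3 K))⁻¹ v))
    rwa [map_mul, map_inv, MulAut.apply_inv_self] at this

/-- A two-element commuting with a non-trivial translation is a translation. -/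
theorem mem_of_commute {z s : G} (hs : s ∈ (T : Subgroup G)) (hs1 : s ≠ 1) (hz : orderOf z = 2)
    (hc : Commute z s) : z ∈ (T : Subgroup G) := by
  have hz2 : IsPGroup 2 (Subgroup.zpowers z) :=
    IsPGroup.of_card (n := 1) (by rw [Nat.card_zpowers, hz, pow_one])
  have hs2 : IsPGroup 2 (Subgroup.zpowers s) := T.isPGroup'.to_le (Subgroup.zpowers_le.2 hs)
  have hsup : IsPGroup 2 (Subgroup.zpowers z ⊔ Subgroup.zpowers s : Subgroup G) := by
    refine hz2.to_sup_of_normal_right' hs2 (Subgroup.zpowers_le.2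
      (Subgroup.centralizer_le_normalizer _ (Subgroup.mem_centralizer_iff.2 ?_)))
    rintro x hx
    obtain ⟨n, rfl⟩ := Subgroup.mem_zpowers_iff.1 hx
    exact (hc.zpow_right n).eq.symm
  obtain ⟨R, hR⟩ := hsup.exists_le_sylow
  obtain ⟨k, rfl⟩ := MulAction.exists_smul_eq G T R
  obtain ⟨a, ha, e⟩ : ∃ a ∈ (T : Subgroup G), k * a * k⁻¹ = s := by
    obtain ⟨a, ha, e⟩ := hR (Subgroup.mem_sup_right (Subgroup.mem_zpowers s))
    exact ⟨a, ha, e⟩
  have hkN : k ∈ Subgroup.normalizer ((T : Subgroup G) : Set G) :=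
    D.normalizes_of_conj ha (fun e1 => hs1 (by rw [← e, e1]; group)) (by rw [e]; exact hs)
  obtain ⟨b, hb, e'⟩ := hR (Subgroup.mem_sup_left (Subgroup.mem_zpowers z))
  rw [← show k * b * k⁻¹ = z from e']
  exact (Subgroup.mem_normalizer_iff.1 hkN b).1 hb

omit D in
theorem orderOf_translation {u : G} (D : TwoData δ G T) (hu : u ∈ (T : Subgroup G)) (hu1 : u ≠ 1) :
    orderOf u = 2 := by
  obtain ⟨a, ha⟩ := (D.mem u).1 hu
  refine CfsgLib.Invol.invol_of_mul_self (Subtype.ext (MulEquiv.ext fun v => ?_)) hu1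
  obtain ⟨x, y, z, rfl⟩ := v3_cover v
  show (u : MulAut (V3 K)) ((u : MulAut (V3 K)) (v3 x y z)) = v3 x y z
  rw [ha, ha, add_assoc, add_assoc, CharTwo.add_self_eq_zero, CharTwo.add_self_eq_zero, add_zero,
    add_zero]

/-- Every conjugate fixes one axis pointwise, and it contains `C`. -/
theorem fixed (C : Subgroup (V3 K)) (hC : C ≠ ⊥) (hCz : ∀ x ∈ C, c1 x = 0)
    (hinv : ∀ g ∈ G, ∀ x ∈ C, g x ∈ C) (hq : 2 < Nat.card K)
    (hn : ¬ (T : Subgroup G).Normal) :
    ((∀ x ∈ C, c3 x = 0) ∧ ∀ g : G, ∀ t ∈ (T : Subgroup G), ∀ v : K,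
        ((g * t * g⁻¹ : G) : MulAut (V3 K)) (v3 0 v 0) = v3 0 v 0) ∨
      ((∀ x ∈ C, c2 x = 0) ∧ ∀ g : G, ∀ t ∈ (T : Subgroup G), ∀ v : K,
        ((g * t * g⁻¹ : G) : MulAut (V3 K)) (v3 0 0 v) = v3 0 0 v) := by
  classical
  haveI : Fintype K := Fintype.ofFinite K
  -- one conjugate
  have hone : ∀ g : G, g ∉ Subgroup.normalizer ((T : Subgroup G) : Set G) →
      ((∀ x ∈ C, c3 x = 0) ∧ ∀ v, (g : MulAut (V3 K))⁻¹ (v3 0 v 0) ∈ Z3 K) ∨
        ((∀ x ∈ C, c2 x = 0) ∧ ∀ v, (g : MulAut (V3 K))⁻¹ (v3 0 0 v) ∈ Z3 K) := by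
    intro g hg
    set gZ := (Z3 K).map (g : MulAut (V3 K)).toMonoidHom with hgZ
    have hgZmem : ∀ {v}, v ∈ gZ → (g : MulAut (V3 K))⁻¹ v ∈ Z3 K := fun {v} hv => by
      obtain ⟨u, hu, rfl⟩ := hv
      show (g : MulAut (V3 K))⁻¹ ((g : MulAut (V3 K)) u) ∈ Z3 K
      rwa [MulAut.inv_apply_self]
    set P := Z3 K ⊓ gZ with hP
    -- size
    have hcardZ : Nat.card (Z3 K) = Nat.card K * Nat.card K := by
      rw [← Nat.card_prod]
      refine (Nat.card_eq_of_bijective (fun w : K × K => (⟨v3 0 w.1 w.2, rfl⟩ : Z3 K))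
        ⟨fun a b e => ?_, fun ⟨v, hv⟩ => ?_⟩).symm
      · have := v3_eq_iff.1 (congrArg Subtype.val e)
        exact Prod.ext this.2.1 this.2.2
      · obtain ⟨x, y, z, rfl⟩ := v3_cover v
        rw [v3_mem_Z3] at hv
        exact ⟨(y, z), Subtype.ext (v3_eq_iff.2 ⟨hv.symm, rfl, rfl⟩)⟩
    have hPq : Nat.card K ≤ Nat.card P := by
      let f : gZ →* Multiplicative K :=
        MonoidHom.mk' (fun v => Multiplicative.ofAdd (c1 (v : V3 K))) fun a b => rfl
      have h1 := f.ker.card_mul_index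
      rw [Subgroup.index_ker] at h1
      have h2 : Nat.card f.range ≤ Nat.card K :=
        (Subgroup.card_le_card_group _).trans (Nat.card_congr Multiplicative.toAdd).le
      have h3 : Nat.card f.ker ≤ Nat.card P :=
        Nat.card_le_card_of_injective (fun v => (⟨(v : gZ), v.2, (v : gZ).2⟩ : P)) fun a b e =>
          Subtype.ext (Subtype.ext (congrArg (fun w : P => (w : V3 K)) e))
      have h4 : Nat.card gZ = Nat.card K * Nat.card K :=
        (Nat.card_congr ((Z3 K).equivMapOfInjective _ (g : MulAut (V3 K)).injective).toEquiv).symm.trans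
          hcardZ
      rw [h4] at h1
      by_contra hlt
      have : Nat.card f.ker * Nat.card f.range < Nat.card K * Nat.card K :=
        lt_of_le_of_lt (Nat.mul_le_mul h3 h2)
          (Nat.mul_lt_mul_of_pos_right (not_le.1 hlt) Nat.card_pos)
      omega
    -- transitivity on the translations inside the fixer of `P`
    set H := fixer G P with hH
    have hTH : ∀ t ∈ (T : Subgroup G), (t : MulAut (V3 K)) ∈ H := fun t ht =>
      ⟨t.2, fun v hv => (D.mem_stab ht).1 v hv.1⟩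
    have hcH : ∀ t ∈ (T : Subgroup G), ((g * t * g⁻¹ : G) : MulAut (V3 K)) ∈ H := fun t ht =>
      ⟨(g * t * g⁻¹).2, fun v hv => by
        show (g : MulAut (V3 K)) ((t : MulAut (V3 K)) ((g : MulAut (V3 K))⁻¹ v)) = v
        rw [(D.mem_stab ht).1 _ (hgZmem hv.2), MulAut.apply_inv_self]⟩
    obtain ⟨r, hr, hr1⟩ := D.exists_ne_one
    have hr2 : orderOf (⟨_, hcH r hr⟩ : H) = 2 := by
      rw [← orderOf_injective H.subtype Subtype.val_injective,
        show H.subtype ⟨_, hcH r hr⟩ = G.subtype (g * r * g⁻¹) from rfl,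
        orderOf_injective G.subtype Subtype.val_injective, CfsgLib.Invol.orderOf_conj_eq,
        D.orderOf_translation hr hr1]
    have htoG : ∀ h : H, (h : MulAut (V3 K)) ∈ G := fun h => h.2.1
    let ι : H →* G := Subgroup.inclusion fun h hh => hh.1
    have hconj : ∀ s (hs : s ∈ (T : Subgroup G)), s ≠ 1 →
        IsConj (⟨_, hTH s hs⟩ : H) ⟨_, hcH r hr⟩ := by
      intro s hs hs1
      have hs2 : orderOf (⟨_, hTH s hs⟩ : H) = 2 := by
        rw [← orderOf_injective H.subtype Subtype.val_injective,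
          show H.subtype ⟨_, hTH s hs⟩ = G.subtype s from rfl,
          orderOf_injective G.subtype Subtype.val_injective, D.orderOf_translation hs hs1]
      refine CfsgLib.Invol.isConj_of_odd hs2 hr2 (Nat.not_even_iff_odd.1 fun hev => ?_)
      obtain ⟨z, hz, hzs, hzr⟩ := CfsgLib.Invol.exists_commute_both hs2 hr2 hev
      have hzG : orderOf (ι z) = 2 := by
        rw [orderOf_injective ι (Subgroup.inclusion_injective _), hz]
      have hz1 : ι z ∈ (T : Subgroup G) :=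
        D.mem_of_commute hs hs1 hzG (show Commute (ι z) (ι ⟨_, hTH s hs⟩) from hzs.map ι)
      have hc2 : Commute (ι z) (g * r * g⁻¹) := hzr.map ι
      have hz2 : g⁻¹ * ι z * g ∈ (T : Subgroup G) := by
        refine D.mem_of_commute hr hr1 (by rw [CfsgLib.Invol.orderOf_conj_inv_eq, hzG]) ?_
        calc g⁻¹ * ι z * g * r = g⁻¹ * (ι z * (g * r * g⁻¹)) * g := by group
          _ = g⁻¹ * (g * r * g⁻¹ * ι z) * g := by rw [hc2.eq]
          _ = r * (g⁻¹ * ι z * g) := by group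
      refine hg (D.normalizes_of_conj hz2 (fun e => ?_) (by
        rwa [show g * (g⁻¹ * ι z * g) * g⁻¹ = ι z by group]))
      rw [show ι z = g * 1 * g⁻¹ by rw [← e]; group, mul_one, mul_inv_cancel, orderOf_one] at hzG
      omega
    -- `P` avoids the generic elements
    have havoid : ∀ y z, v3 0 y z ∈ P → y = 0 ∨ z = 0 := by
      intro y z hyz
      by_contra hne
      push Not at hne
      obtain ⟨t, x, htx⟩ := D.onto y z hne.1 hne.2
      have ht0 : t ≠ 0 := by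
        rintro rfl
        rw [D.triv] at htx
        exact hne.1 (Prod.ext_iff.1 htx).1.symm
      have hx0 : x ≠ 0 := by
        rintro rfl
        rw [D.zero] at htx
        exact hne.1 (Prod.ext_iff.1 htx).1.symm
      obtain ⟨t', ht'⟩ : ∃ t' : K, t' ∉ ({0, t} : Finset K) := by
        by_contra hcon
        push Not at hcon
        have h1 := Finset.card_le_card (s := Finset.univ) fun a _ => hcon a
        have h2 := Finset.card_le_two (a := (0 : K)) (b := t)
        rw [Finset.card_univ, ← Nat.card_eq_fintype_card] at h1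
        omega
      simp only [Finset.mem_insert, Finset.mem_singleton, not_or] at ht'
      obtain ⟨τ, hτ, hτt⟩ := D.all t
      obtain ⟨τ', hτ', hτt'⟩ := D.all t'
      have hne1 : ∀ {a : K} {σ : MulAut (V3 K)} (hσ : σ ∈ G), IsTr δ σ a → a ≠ 0 →
          (⟨σ, hσ⟩ : G) ≠ 1 := fun {a σ} hσ h ha e => by
        have h1 := congrArg (fun u : G => (u : MulAut (V3 K)) (v3 1 0 0)) e
        simp only [h 1 0 0, OneMemClass.coe_one, MulAut.one_apply, v3_eq_iff, zero_add] at h1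
        exact (D.ne a 1 ha one_ne_zero).1 h1.2.1
      have hT1 : (⟨τ, hτ⟩ : G) ∈ (T : Subgroup G) := (D.mem _).2 ⟨t, hτt⟩
      have hT2 : (⟨τ', hτ'⟩ : G) ∈ (T : Subgroup G) := (D.mem _).2 ⟨t', hτt'⟩
      obtain ⟨h, hh⟩ := isConj_iff.1
        ((hconj _ hT1 (hne1 hτ hτt ht0)).trans (hconj _ hT2 (hne1 hτ' hτt' ht'.1)).symm)
      have hh' : (h : MulAut (V3 K)) * τ * (h : MulAut (V3 K))⁻¹ = τ' := congrArg Subtype.val hh
      have hw : τ (v3 x 0 0) = v3 x 0 0 * v3 0 y z := by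
        rw [hτt, htx, v3_add]
        simp
      have hw' := congrArg (h : MulAut (V3 K)) hw
      rw [map_mul, h.2.2 _ hyz] at hw'
      obtain ⟨x', y', z', hx'⟩ := v3_cover ((h : MulAut (V3 K)) (v3 x 0 0))
      rw [show (h : MulAut (V3 K)) (τ (v3 x 0 0)) = τ' ((h : MulAut (V3 K)) (v3 x 0 0)) by
        rw [← hh']
        show _ = (h : MulAut (V3 K)) (τ ((h : MulAut (V3 K))⁻¹ ((h : MulAut (V3 K)) (v3 x 0 0))))
        rw [MulAut.inv_apply_self], hx', hτt', v3_add, v3_eq_iff] at hw'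
      refine ht'.2 (D.uniq t x t' x' ht0 hx0 ?_)
      rw [htx]
      exact (Prod.ext (add_left_cancel hw'.2.1) (add_left_cancel hw'.2.2)).symm
    -- so it is an axis
    have hform : ∀ v ∈ P, ∃ y z, v = v3 0 y z ∧ (y = 0 ∨ z = 0) := by
      intro v hv
      obtain ⟨x, y, z, rfl⟩ := v3_cover v
      have hx : x = 0 := v3_mem_Z3.1 hv.1
      subst hx
      exact ⟨y, z, rfl, havoid y z hv⟩
    have hCP : C ≤ P := fun x hx => ⟨hCz x hx, ⟨(g : MulAut (V3 K))⁻¹ x,
      hCz _ (hinv _ (inv_mem g.2) x hx), MulAut.apply_inv_self _ _ _⟩⟩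
    by_cases hc3 : ∀ v ∈ P, c3 v = 0
    · refine Or.inl ⟨fun x hx => hc3 x (hCP hx), fun v => hgZmem ?_⟩
      have hinj : Function.Injective (fun u : P => c2 (u : V3 K)) := fun a b e => by
        obtain ⟨y, z, ha, -⟩ := hform _ a.2
        obtain ⟨y', z', hb, -⟩ := hform _ b.2
        have hza : z = 0 := by simpa [ha, c3, v3] using hc3 _ a.2
        have hzb : z' = 0 := by simpa [hb, c3, v3] using hc3 _ b.2
        refine Subtype.ext ?_
        simp only [ha, hb, c2, v3, toAdd_ofAdd] at e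
        rw [ha, hb, hza, hzb, e]
      obtain ⟨⟨u, hu⟩, e⟩ := ((Fintype.bijective_iff_injective_and_card _).2 ⟨hinj,
        le_antisymm (Fintype.card_le_of_injective _ hinj)
          (by simpa [Nat.card_eq_fintype_card] using hPq)⟩).2 v
      obtain ⟨y, z, rfl, -⟩ := hform u hu
      rw [show z = 0 from hc3 _ hu] at hu
      rw [← show y = v from e]
      exact hu.2
    · push Not at hc3
      obtain ⟨w, hw, hw3⟩ := hc3
      have hc2 : ∀ v ∈ P, c2 v = 0 := by
        intro v hv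
        obtain ⟨y, z, rfl, h⟩ := hform v hv
        obtain ⟨y', z', rfl, h'⟩ := hform w hw
        have hy' : y' = 0 := h'.resolve_right hw3
        by_contra hy
        have hz : z = 0 := h.resolve_left hy
        subst hy' hz
        have := havoid _ _ (show v3 0 (y + 0) (0 + z') ∈ P by
          simpa [v3_add] using mul_mem hv hw)
        rw [add_zero, zero_add] at this
        exact this.elim hy hw3
      refine Or.inr ⟨fun x hx => hc2 x (hCP hx), fun v => hgZmem ?_⟩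
      have hinj : Function.Injective (fun u : P => c3 (u : V3 K)) := fun a b e => by
        obtain ⟨y, z, ha, -⟩ := hform _ a.2
        obtain ⟨y', z', hb, -⟩ := hform _ b.2
        have hya : y = 0 := by simpa [ha, c2, v3] using hc2 _ a.2
        have hyb : y' = 0 := by simpa [hb, c2, v3] using hc2 _ b.2
        refine Subtype.ext ?_
        simp only [ha, hb, c3, v3, toAdd_ofAdd] at e
        rw [ha, hb, hya, hyb, e]
      obtain ⟨⟨u, hu⟩, e⟩ := ((Fintype.bijective_iff_injective_and_card _).2 ⟨hinj,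
        le_antisymm (Fintype.card_le_of_injective _ hinj)
          (by simpa [Nat.card_eq_fintype_card] using hPq)⟩).2 v
      obtain ⟨y, z, rfl, -⟩ := hform u hu
      rw [show y = 0 from hc2 _ hu] at hu
      rw [← show z = v from e]
      exact hu.2
  obtain ⟨g₀, hg₀⟩ : ∃ g₀ : G, g₀ ∉ Subgroup.normalizer ((T : Subgroup G) : Set G) := by
    by_contra h
    push Not at h
    exact hn (Subgroup.normalizer_eq_top_iff.1 ((Subgroup.eq_top_iff' _).2 h))
  obtain ⟨c, hc, hc1⟩ : ∃ c ∈ C, c ≠ 1 := by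
    by_contra h
    push Not at h
    exact hC ((Subgroup.eq_bot_iff_forall C).2 h)
  have hnot : ¬ ((∀ x ∈ C, c3 x = 0) ∧ ∀ x ∈ C, c2 x = 0) := fun ⟨h3, h2⟩ => hc1 (by
    obtain ⟨x, y, z, rfl⟩ := v3_cover c
    have h1 : x = 0 := hCz _ hc
    have h2' : y = 0 := h2 _ hc
    have h3' : z = 0 := h3 _ hc
    rw [h1, h2', h3', v3_one])
  have hfix : ∀ g : G, ∀ t ∈ (T : Subgroup G), ∀ w, (g : MulAut (V3 K))⁻¹ w ∈ Z3 K →
      ((g * t * g⁻¹ : G) : MulAut (V3 K)) w = w := fun g t ht w hw => by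
    show (g : MulAut (V3 K)) ((t : MulAut (V3 K)) ((g : MulAut (V3 K))⁻¹ w)) = w
    rw [(D.mem_stab ht).1 _ hw, MulAut.apply_inv_self]
  have hN : ∀ g : G, g ∈ Subgroup.normalizer ((T : Subgroup G) : Set G) →
      ∀ t ∈ (T : Subgroup G), ∀ w ∈ Z3 K,
      ((g * t * g⁻¹ : G) : MulAut (V3 K)) w = w := fun g hg t ht w hw =>
    (D.mem_stab ((Subgroup.mem_normalizer_iff.1 hg t).1 ht)).1 w hw
  rcases hone g₀ hg₀ with ⟨h3, -⟩ | ⟨h2, -⟩
  · refine Or.inl ⟨h3, fun g t ht v => ?_⟩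
    by_cases hg : g ∈ Subgroup.normalizer ((T : Subgroup G) : Set G)
    · exact hN g hg t ht _ rfl
    rcases hone g hg with ⟨-, h⟩ | ⟨h2, -⟩
    · exact hfix g t ht _ (h v)
    · exact absurd ⟨h3, h2⟩ hnot
  · refine Or.inr ⟨h2, fun g t ht v => ?_⟩
    by_cases hg : g ∈ Subgroup.normalizer ((T : Subgroup G) : Set G)
    · exact hN g hg t ht _ rfl
    rcases hone g hg with ⟨h3, -⟩ | ⟨-, h⟩
    · exact absurd ⟨h3, h2⟩ hnot
    · exact hfix g t ht _ (h v)

/-- Modulo an axis fixed by all conjugates there is a torus of `SL₂(K)`, in coordinates given by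
a projection `π` with section `sec`. -/
theorem torus (hn : ¬ (T : Subgroup G).Normal) (P : Subgroup (V3 K)) (hPZ : P ≤ Z3 K)
    (hP : ∀ g : G, ∀ t ∈ (T : Subgroup G), ∀ w ∈ P, ((g * t * g⁻¹ : G) : MulAut (V3 K)) w = w)
    (π : V3 K →* V2 K) (sec : V2 K →* V3 K) (hps : ∀ w, π (sec w) = w)
    (hker : ∀ v, π v = 1 ↔ v ∈ P)
    (hsh : ∀ t τ, IsTr δ τ t → ∀ x y, π (τ (sec (v2 x y))) = v2 x (y + t * x)) (l : K) (hl : l ≠ 0) :
    ∃ h ∈ G, ∃ φ : K →+ K, (∀ w ∈ P, h w = w) ∧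
      (∀ v x y, π v = v2 x y →
        π (h v) = v2 (l * x) (l⁻¹ * (y - φ x) + φ (l * x))) ∧
      ∀ t τ τ', IsTr δ τ t → IsTr δ τ' (t / l ^ 2) → ∀ v, h (τ v) = τ' (h v) := by
  classical
  set G1 := fixer G P with hG1
  have hTG1 : ∀ t ∈ (T : Subgroup G), (t : MulAut (V3 K)) ∈ G1 := fun t ht =>
    ⟨t.2, fun w hw => (D.mem_stab ht).1 w (hPZ hw)⟩
  have hdiff : ∀ v, v * (sec (π v))⁻¹ ∈ P := fun v => by
    rw [← hker, map_mul, map_inv, hps, mul_inv_cancel]
  have hπh : ∀ h : G1, ∀ v, π ((h : MulAut (V3 K)) v) = π ((h : MulAut (V3 K)) (sec (π v))) := by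
    intro h v
    conv_lhs => rw [show v = v * (sec (π v))⁻¹ * sec (π v) by rw [inv_mul_cancel_right]]
    rw [map_mul, h.2.2 _ (hdiff v), map_mul, (hker _).2 (hdiff v), one_mul]
  let ρ0 : G1 → MulAut (V2 K) := fun h =>
    { toFun := fun w => π ((h : MulAut (V3 K)) (sec w))
      invFun := fun w => π (((h⁻¹ : G1) : MulAut (V3 K)) (sec w))
      left_inv := fun w => by
        simp only []
        rw [← hπh]
        show π ((h : MulAut (V3 K))⁻¹ ((h : MulAut (V3 K)) (sec w))) = w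
        rw [MulAut.inv_apply_self, hps]
      right_inv := fun w => by
        simp only []
        rw [← hπh]
        show π ((h : MulAut (V3 K)) ((h : MulAut (V3 K))⁻¹ (sec w))) = w
        rw [MulAut.apply_inv_self, hps]
      map_mul' := fun a b => by simp only [map_mul] }
  let ρ : G1 →* MulAut (V2 K) := MonoidHom.mk' ρ0 fun a b => MulEquiv.ext fun w => by
    show π ((a : MulAut (V3 K)) ((b : MulAut (V3 K)) (sec w))) =
      π ((a : MulAut (V3 K)) (sec (π ((b : MulAut (V3 K)) (sec w)))))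
    rw [← hπh]
  have hρ : ∀ (h : G1) v, ρ h (π v) = π ((h : MulAut (V3 K)) v) := fun h v => (hπh h v).symm
  obtain ⟨g, hg⟩ : ∃ g : G, g ∉ Subgroup.normalizer ((T : Subgroup G) : Set G) := by
    by_contra h
    push Not at h
    exact hn (Subgroup.normalizer_eq_top_iff.1 ((Subgroup.eq_top_iff' _).2 h))
  obtain ⟨T1, hT1⟩ := sylow_restrict (H := G1) (fun h hh => hh.1) T hTG1
  obtain ⟨T2, hT2⟩ := sylow_restrict (H := G1) (fun h hh => hh.1) (g • T) (by
    rintro _ ⟨t, ht, rfl⟩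
    exact ⟨(g * t * g⁻¹).2, hP g t ht⟩)
  have hinj : Function.Injective ρ := by
    rw [← MonoidHom.ker_eq_bot_iff, Subgroup.eq_bot_iff_forall]
    intro h hh
    have hh' : ∀ w, π ((h : MulAut (V3 K)) (sec w)) = w := fun w =>
      congrArg (fun e : MulAut (V2 K) => e w) hh
    have hk : IsPGroup 2 ρ.ker := by
      refine (FixedExactly.isPGroup_stabZ G1 isPGroup_module P).to_le fun k hk => ⟨k.2.2, fun v => ?_⟩
      rw [← hker, map_mul, map_inv, hπh k v,
        show π ((k : MulAut (V3 K)) (sec (π v))) = π v from congrArg (fun e : MulAut (V2 K) => e (π v)) hk,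
        mul_inv_cancel]
    obtain ⟨a, ha, ea⟩ := (hT1 h).1 (normal_le_sylow hk T1 hh)
    obtain ⟨b, ⟨c, hc, rfl⟩, eb⟩ := (hT2 h).1 (normal_le_sylow hk T2 hh)
    have hab : g * c * g⁻¹ = a := Subtype.ext (eb.trans ea.symm)
    by_contra h1
    refine hg (D.normalizes_of_conj hc (fun e => h1 (Subtype.ext ?_)) (hab ▸ ha))
    rw [← ea, ← hab, e]
    simp
  set G' := ρ.range
  let T' : Sylow 2 G' := T1.mapSurjective ρ.rangeRestrict_surjective
  have hshear : ∀ (u : G1) (t : K), IsTr δ (u : MulAut (V3 K)) t → IsShear (ρ u) t :=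
    fun u t h x y => hsh t _ h x y
  have hall : ∀ t : K, ∃ u : G1, u ∈ (T1 : Subgroup G1) ∧ IsTr δ (u : MulAut (V3 K)) t := fun t => by
    obtain ⟨τ, hτ, h⟩ := D.all t
    have hm : (⟨τ, hτ⟩ : G) ∈ (T : Subgroup G) := (D.mem _).2 ⟨t, h⟩
    exact ⟨⟨τ, hTG1 _ hm⟩, (hT1 _).2 ⟨_, hm, rfl⟩, h⟩
  have hT' : ∀ u : G', u ∈ (T' : Subgroup G') ↔ ∃ t, IsShear (u : MulAut (V2 K)) t := by
    intro u
    constructor
    · rintro ⟨w, hw, rfl⟩
      obtain ⟨a, ha, ea⟩ := (hT1 w).1 hw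
      obtain ⟨t, ht⟩ := (D.mem a).1 ha
      exact ⟨t, hshear w t (by rw [← ea]; exact ht)⟩
    · rintro ⟨t, ht⟩
      obtain ⟨w, hw, hwt⟩ := hall t
      refine ⟨w, hw, Subtype.ext (MulEquiv.ext fun v => ?_)⟩
      obtain ⟨x, y, rfl⟩ := v2_surj v
      show ρ w (v2 x y) = (u : MulAut (V2 K)) (v2 x y)
      rw [shear_apply (hshear w t hwt), shear_apply ht]
  have hn' : ¬ (T' : Subgroup G').Normal := by
    intro hN
    refine hg (Subgroup.mem_normalizer_fintype fun s hs => ?_)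
    set x : G1 := ⟨_, (⟨(g * s * g⁻¹).2, hP g s hs⟩ : ((g * s * g⁻¹ : G) : MulAut (V3 K)) ∈ G1)⟩
    obtain ⟨k, hk⟩ := T.isPGroup' ⟨s, hs⟩
    have hk' : s ^ 2 ^ k = 1 := congrArg Subtype.val hk
    haveI := hN
    have hxT : ρ.rangeRestrict x ∈ (T' : Subgroup G') := mem_of_normal_sylow T' (k := k) (by
      rw [← map_pow, show x ^ 2 ^ k = 1 from Subtype.ext (by
        show ((g * s * g⁻¹ : G) : MulAut (V3 K)) ^ 2 ^ k = 1
        rw [← Subgroup.coe_pow, conj_pow, hk', mul_one, mul_inv_cancel]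
        rfl), map_one])
    obtain ⟨w, hw, e⟩ := hxT
    obtain ⟨a, ha, ea⟩ := (hT1 w).1 hw
    have hwx : w = x := hinj (congrArg Subtype.val e)
    rwa [show g * s * g⁻¹ = a from Subtype.ext (by rw [ea, hwx])]
  obtain ⟨φ, hφ⟩ := Spread.exists_sl2 G' T' hT' (fun t => by
    obtain ⟨w, -, hwt⟩ := hall t
    exact ⟨ρ w, ⟨w, rfl⟩, hshear w t hwt⟩) hn'
  obtain ⟨_, ⟨h, rfl⟩, hh⟩ := hφ ⟨!![l, 0; 0, l⁻¹], by rw [Matrix.det_fin_two_of]; field_simp; ring⟩
  have hh' : ∀ x y, ρ h (v2 x (y + φ x)) = v2 (l * x) (l⁻¹ * y + φ (l * x)) := fun x y => by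
    have := hh x y
    simpa [v2] using this
  refine ⟨(h : MulAut (V3 K)), h.2.1, φ, h.2.2, fun v x y hv => ?_,
    fun t τ τ' hτ hτ' v => ?_⟩
  · rw [← hρ, hv]
    have := hh' x (y - φ x)
    rwa [sub_add_cancel] at this
  · obtain ⟨u, -, hu⟩ := hall t
    obtain ⟨u', -, hu'⟩ := hall (t / l ^ 2)
    have huτ : (u : MulAut (V3 K)) = τ := MulEquiv.ext fun w => by
      obtain ⟨x, y, z, rfl⟩ := v3_cover w
      rw [hu, hτ]
    have hu'τ : (u' : MulAut (V3 K)) = τ' := MulEquiv.ext fun w => by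
      obtain ⟨x, y, z, rfl⟩ := v3_cover w
      rw [hu', hτ']
    have heq : ρ (h * u) = ρ (u' * h) := MulEquiv.ext fun w => by
      obtain ⟨x, y, rfl⟩ := v2_surj w
      rw [map_mul, map_mul, MulAut.mul_apply, MulAut.mul_apply, shear_apply (hshear u t hu)]
      rw [show v2 x y = v2 x ((y - φ x) + φ x) by rw [sub_add_cancel],
        show v2 x (y + t * x) = v2 x ((y - φ x + t * x) + φ x) by congr 1; ring,
        hh', hh', shear_apply (hshear u' _ hu')]
      congr 1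
      field_simp
      ring
    have := congrArg (fun e : G1 => (e : MulAut (V3 K)) v) (hinj heq)
    simpa [huτ, hu'τ] using this

end TwoData

end CfsgLib.Fusion.SpFour
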